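import Cfsg.Agent.Lib.FusionTheory.Hyperfocal
import Cfsg.Agent.Lib.FusionTheory.CoprimeAut
import Cfsg.Prelude.Def_FusionReduction

/-!
# Uniqueness of residual subsystems and limits; systems of `p`-power index
-/

set_option autoImplicit false

namespace Cfsg.Agent.Lib.FusionTheory.ResidualLimit

open Cfsg Cfsg.FusionSystem Cfsg.Agent.Lib.Fusion.Basic Cfsg.Agent.Lib.Fusion.Saturation
open Cfsg.Agent.Lib.Fusion.Saturation2 Cfsg.Agent.Lib.Fusion.Alperin
open Cfsg.Agent.Lib.Core.Residual Cfsg.Agent.Lib.FusionTheory.Hyperfocal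
open Cfsg.Agent.Lib.FusionTheory.CoprimeAut Cfsg.Agent.Lib.FusionTheory.Normal

universe u

variable {Ω : Type u} [Group Ω] {p : ℕ}

/-- The maps of a system `F₀` over `U ≥ T` with source and image in `T`. -/
def restrictSystem {T U : Subgroup Ω} (hTU : T ≤ U) (F₀ : FusionSystem U) : FusionSystem T where
  Hom P := {φ | φ ∈ F₀.Hom P ∧ P ≤ T ∧ ∀ x : P, φ x ∈ T}
  le_of_mem h := ⟨h.2.1, h.2.2⟩
  injective_of_mem h := F₀.injective_of_mem h.1
  conj_mem := by
    intro P g hP hg
    refine ⟨F₀.conj_mem (hP.trans hTU) (hTU hg), hP, fun x => ?_⟩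
    exact T.mul_mem (T.mul_mem hg (hP x.2)) (T.inv_mem hg)
  comp_mem := by
    rintro P Q φ ψ ⟨h1, h2, -⟩ ⟨h3, -, h4⟩ h
    exact ⟨F₀.comp_mem h1 h3 h, h2, fun x => h4 _⟩
  inv_mem := by
    rintro P φ ⟨h1, h2, h3⟩
    obtain ⟨ψ, hψ, hψx⟩ := F₀.inv_mem h1
    refine ⟨ψ, ⟨hψ, ?_, ?_⟩, hψx⟩
    · rintro _ ⟨x, rfl⟩
      exact h3 x
    · rintro ⟨_, x, rfl⟩
      rw [hψx]
      exact h2 x.2

/-- **Core comparison.** A saturated system `E` over `T` is contained in a system `F₀` over `U ≥ T` as soon as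
all elements of order prime to `p` of `Aut_E(R)`, `R ≤ T`, are automorphisms in `F₀`. -/
theorem hom_subset_of_coprime [Fact p.Prime] {T U : Subgroup Ω} [Finite T] (hT : IsPGroup p T)
    (E : FusionSystem T) (hE : E.IsSaturated p) (hTU : T ≤ U) (F₀ : FusionSystem U)
    (h : ∀ R : Subgroup Ω, R ≤ T → ∀ α ∈ E.autGroup R, (orderOf α).Coprime p → α ∈ F₀.autGroup R)
    (P : Subgroup Ω) : E.Hom P ⊆ F₀.Hom P := by
  have hle : E ≤ restrictSystem hTU F₀ := by
    refine alperin_goldschmidt E hT hE (restrictSystem hTU F₀) ?_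
    intro R hR α hα
    have hRn : E.IsFullyNormalized R := by
      rcases hR with rfl | hR
      · exact isFullyNormalized_top E hT
      · exact hR.2.1
    have hRT : R ≤ T := hRn.1
    have hRU : R ≤ U := hRT.trans hTU
    obtain ⟨-, T', hT'⟩ := isFullyAutomized_of_isFullyNormalized E hT hE hRn
    have hfinR : Finite R := finite_of_le hRT
    have hfinA : Finite (E.autGroup R) := inferInstance
    have htop := sylow_sup_pResidual T'
    have hmem : (⟨α, hα⟩ : E.autGroup R) ∈ (T' : Subgroup (E.autGroup R)) ⊔ pResidual p (E.autGroup R) := by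
      rw [htop]
      trivial
    have hF₀ : ∀ a : E.autGroup R, a ∈ (T' : Subgroup (E.autGroup R)) ⊔ pResidual p (E.autGroup R) →
        (a : MulAut R) ∈ F₀.autGroup R := by
      intro a ha
      have hle' : (T' : Subgroup (E.autGroup R)) ⊔ pResidual p (E.autGroup R) ≤
          (F₀.autGroup R).subgroupOf (E.autGroup R) := by
        refine sup_le ?_ ?_
        · rw [hT']
          intro b hb
          exact autInducedBy_le_autGroup F₀ hRU (autInducedBy_mono R hTU hb)
        · show Subgroup.closure _ ≤ _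
          rw [Subgroup.closure_le]
          intro b hb
          refine h R hRT b b.2 ?_
          rw [Subgroup.orderOf_coe]
          exact hb
      exact hle' ha
    rw [mem_autGroup_iff _ hRT]
    exact ⟨autHom_mem F₀ hRU (hF₀ _ hmem), hRT, fun x => hRT (α x).2⟩
  intro φ hφ
  exact (hle P hφ).1

/-- An automorphism of order prime to `p` in a system of which `E` contains `O^p`. -/
theorem mem_of_coprime_of_pPowerIndex {S T : Subgroup Ω} {F : FusionSystem S} {E : FusionSystem T}
    (hidx : E.HasPPowerIndexIn F p) {R : Subgroup Ω} (hR : R ≤ T) {α : MulAut R} (hα : α ∈ F.autGroup R)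
    (hc : (orderOf α).Coprime p) : α ∈ E.autGroup R := by
  refine hidx.2.2 R hR ⟨⟨α, hα⟩, mem_pResidual_of_coprime ?_, rfl⟩
  rwa [Subgroup.orderOf_mk]

/-- Subsystems and automorphism groups. -/
theorem autGroup_le_of_subsystem {S T : Subgroup Ω} {F : FusionSystem S} {E : FusionSystem T}
    (hES : E.IsSubsystemOf F) (hTS : T ≤ S) {R : Subgroup Ω} (hR : R ≤ T) : E.autGroup R ≤ F.autGroup R := by
  intro α hα
  rw [mem_autGroup_iff F (hR.trans hTS)]
  exact hES R (autHom_mem E hR hα)

section uniqueness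

variable {S : Subgroup Ω} [Finite S] [Fact p.Prime] (hS : IsPGroup p S)

include hS

omit [Finite S] [Fact p.Prime] hS in
/-- The hyperfocal subgroup lies in `S`. -/
theorem hyp_le' (A : FusionSystem S) : A.hyperfocalSubgroup p ≤ S := hyp_le A

/-- Uniqueness of the `p`-residual subsystem. -/
theorem pResidual_unique {A : FusionSystem S} {D₁ D₂ : FusionSystem (A.hyperfocalSubgroup p)}
    (h₁ : A.IsPResidual p D₁) (h₂ : A.IsPResidual p D₂) : D₁ = D₂ := by
  have hHS : A.hyperfocalSubgroup p ≤ S := hyp_le A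
  have hfin : Finite (A.hyperfocalSubgroup p) := finite_of_le hHS
  have hHp : IsPGroup p (A.hyperfocalSubgroup p) := hS.to_le hHS
  have key : ∀ {D₁ D₂ : FusionSystem (A.hyperfocalSubgroup p)}, A.IsPResidual p D₁ → A.IsPResidual p D₂ →
      ∀ P, D₁.Hom P ⊆ D₂.Hom P := by
    intro D₁ D₂ h₁ h₂ P
    refine hom_subset_of_coprime hHp D₁ h₁.1 le_rfl D₂ (fun R hR α hα hc => ?_) P
    exact mem_of_coprime_of_pPowerIndex h₂.2 hR (autGroup_le_of_subsystem h₁.2.1 hHS hR hα) hc
  exact fusionSystem_ext fun P => Set.Subset.antisymm (key h₁ h₂ P) (key h₂ h₁ P)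

omit [Finite S] [Fact p.Prime] hS in
/-- Uniqueness of the `p'`-residual subsystem. -/
theorem pPrimeResidual_unique {A : FusionSystem S} {D₁ D₂ : FusionSystem S}
    (h₁ : A.IsPPrimeResidual p D₁) (h₂ : A.IsPPrimeResidual p D₂) : D₁ = D₂ :=
  fusionSystem_ext fun P => Set.Subset.antisymm (h₁.2.2 D₂ h₂.1 h₂.2.1 P) (h₂.2.2 D₁ h₁.1 h₁.2.1 P)

/-- A saturated `A` contains any subsystem over its hyperfocal subgroup when the latter is `S`. -/
theorem hom_subset_of_stable {A : FusionSystem S} (hA : A.IsSaturated p) {D : FusionSystem (A.hyperfocalSubgroup p)}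
    (hD : A.IsPResidual p D) (hH : A.hyperfocalSubgroup p = S) (P : Subgroup Ω) : A.Hom P ⊆ D.Hom P := by
  refine hom_subset_of_coprime hS A hA hH.ge D (fun R hR α hα hc => ?_) P
  exact mem_of_coprime_of_pPowerIndex hD.2 (hR.trans hH.ge) hα hc

end uniqueness

omit [Group Ω] in
/-- Two systems with the same maps over equal subgroups are equal after identification: used through `subst`. -/
theorem stable_aux {Ω : Type u} [Group Ω] {S H : Subgroup Ω} (eH : H = S) {F : FusionSystem S} {D D' : FusionSystem H}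
    (hDF : ∀ P, D.Hom P = F.Hom P) (hD' : D.IsPPrimeResidual p D') (hres : F.IsPPrimeResidual p F) :
    ∀ P, D'.Hom P = F.Hom P := by
  subst eH
  have : D = F := fusionSystem_ext hDF
  subst this
  have : D' = D := pPrimeResidual_unique hD' hres
  rw [this]
  exact fun _ => rfl

omit [Group Ω] in
theorem stable_props {Ω : Type u} [Group Ω] {S H : Subgroup Ω} (eH : H = S) {F : FusionSystem S} {D' : FusionSystem H}
    (hDF : ∀ P, D'.Hom P = F.Hom P) (hH : F.hyperfocalSubgroup p = S) (hres : F.IsPPrimeResidual p F) :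
    D'.hyperfocalSubgroup p = H ∧ D'.IsPPrimeResidual p D' := by
  subst eH
  have : D' = F := fusionSystem_ext hDF
  subst this
  exact ⟨hH, hres⟩

/-- The limit of a stable system is the system itself. -/
theorem limit_of_stable {T S : Subgroup Ω} {L : FusionSystem T} {A : FusionSystem S} {q : ℕ}
    (h : L.IsResidualLimitOf A q) (hq : q.Prime) (hfin : Finite S) (hpg : IsPGroup q S) (hA : A.IsSaturated q)
    (hH : A.hyperfocalSubgroup q = S) (hres : A.IsPPrimeResidual q A) : ∀ P, L.Hom P = A.Hom P := by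
  induction h with
  | stable F p _ _ => exact fun _ => rfl
  | @step S E F p D D' hD hD' hL ih =>
    have := Fact.mk hq
    have hHS : F.hyperfocalSubgroup p ≤ S := hyp_le F
    have hDF : ∀ P, D.Hom P = F.Hom P := fun P =>
      Set.Subset.antisymm (hD.2.1 P) (hom_subset_of_stable hpg hA hD hH P)
    have hD'F := stable_aux hH hDF hD' hres
    obtain ⟨h1, h2⟩ := stable_props hH hD'F hH hres
    have hfin' : Finite (F.hyperfocalSubgroup p) := finite_of_le hHS
    have h3 := ih hq hfin' (hpg.to_le hHS) hD'.1 h1 h2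
    exact fun P => (h3 P).trans (hD'F P)

/-- **Uniqueness of residual limits.** -/
theorem limit_unique {T S : Subgroup Ω} {L : FusionSystem T} {A : FusionSystem S} {q : ℕ}
    (h : L.IsResidualLimitOf A q) (hq : q.Prime) (hfin : Finite S) (hpg : IsPGroup q S) (hA : A.IsSaturated q)
    {T' : Subgroup Ω} {L' : FusionSystem T'} (h' : L'.IsResidualLimitOf A q) : ∀ P, L.Hom P = L'.Hom P := by
  induction h generalizing T' L' with
  | stable F p hH hres =>
    exact fun P => (limit_of_stable h' hq hfin hpg hA hH hres P).symm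
  | @step S E F p D D' hD hD' hL ih =>
    have := Fact.mk hq
    have hHS : F.hyperfocalSubgroup p ≤ S := hyp_le F
    have hfin' : Finite (F.hyperfocalSubgroup p) := finite_of_le hHS
    cases h' with
    | stable _ _ hH hres =>
      exact limit_of_stable (IsResidualLimitOf.step F p D D' hD hD' hL) hq hfin hpg hA hH hres
    | step _ _ D₂ D₂' hD₂ hD₂' hL₂ =>
      have e1 : D₂ = D := pResidual_unique hpg hD₂ hD
      subst e1
      have e2 : D₂' = D' := pPrimeResidual_unique hD₂' hD'
      subst e2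
      exact ih hq hfin' (hpg.to_le hHS) hD'.1 hL₂

/-- Transport of residual limit uniqueness over equal subgroups. -/
theorem limit_unique' {S S' T T' : Subgroup Ω} (eS : S = S') {A : FusionSystem S} {A' : FusionSystem S'} {q : ℕ}
    (hAA : ∀ P, A.Hom P = A'.Hom P) {L : FusionSystem T} {L' : FusionSystem T'}
    (h : L.IsResidualLimitOf A q) (h' : L'.IsResidualLimitOf A' q) (hq : q.Prime) (hfin : Finite S)
    (hpg : IsPGroup q S) (hA : A.IsSaturated q) : ∀ P, L.Hom P = L'.Hom P := by
  subst eS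
  have : A = A' := fusionSystem_ext hAA
  subst this
  exact limit_unique h hq hfin hpg hA h'

/-- Transport of the `p'`-residual over equal subgroups. -/
theorem pPrimeResidual_unique' {H H' : Subgroup Ω} (eH : H = H') {D : FusionSystem H} {D₂ : FusionSystem H'}
    (hDD : ∀ P, D.Hom P = D₂.Hom P) {D' : FusionSystem H} {D₂' : FusionSystem H'}
    (h₁ : D.IsPPrimeResidual p D') (h₂ : D₂.IsPPrimeResidual p D₂') : ∀ P, D'.Hom P = D₂'.Hom P := by
  subst eH
  have : D = D₂ := fusionSystem_ext hDD
  subst this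
  have : D' = D₂' := pPrimeResidual_unique h₁ h₂
  rw [this]
  exact fun _ => rfl

section hyp

variable {S T : Subgroup Ω} [Finite S] [Fact p.Prime] (hS : IsPGroup p S) {F : FusionSystem S}
  {E : FusionSystem T}

include hS

omit [Finite S] [Fact p.Prime] hS in
/-- `hyp(E) ≤ hyp(F)` for a subsystem. -/
theorem hyp_le_hyp (hES : E.IsSubsystemOf F) (hTS : T ≤ S) : E.hyperfocalSubgroup p ≤ F.hyperfocalSubgroup p := by
  apply (Subgroup.closure_le _).2
  rintro _ ⟨P, α, x, hP, hα, rfl⟩
  have hPS := hP.trans hTS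
  have hle := autGroup_le_of_subsystem hES hTS hP
  show (x : Ω)⁻¹ * (((α : MulAut P) x : P) : Ω) ∈ _
  -- an induction on `pResidual`
  have key : ∀ τ : E.autGroup P, τ ∈ pResidual p (E.autGroup P) → ∀ y : P,
      (y : Ω)⁻¹ * (((τ : MulAut P) y : P) : Ω) ∈ F.hyperfocalSubgroup p := by
    intro τ hτ
    induction hτ using Subgroup.closure_induction with
    | mem a ha =>
      intro y
      exact mem_hyp_of_coprime F hPS (hle a.2) (by rw [Subgroup.orderOf_coe]; exact ha) y
    | one =>
      intro y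
      simp
    | mul a b _ _ ha hb =>
      intro y
      have h1 := Subgroup.mul_mem _ (hb y) (ha ((b : MulAut P) y))
      have e : (y : Ω)⁻¹ * (((a * b : E.autGroup P) : MulAut P) y : P) =
          (y : Ω)⁻¹ * (((b : MulAut P) y : P) : Ω) * ((((b : MulAut P) y : P) : Ω)⁻¹ * (((a : MulAut P) ((b : MulAut P) y) : P) : Ω)) := by
        show _ = _
        simp [MulAut.mul_apply, mul_assoc]
      rw [e]
      exact h1
    | inv a _ ha =>
      intro y
      have h1 := Subgroup.inv_mem _ (ha ((a : MulAut P)⁻¹ y))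
      have e : ((((a : MulAut P) ((a : MulAut P)⁻¹ y) : P) : Ω)) = y := by
        rw [MulAut.apply_inv_self]
      rw [e] at h1
      simpa using h1
  exact key α hα x

/-- `hyp(F) ≤ hyp(E)` for a system `E` of `p`-power index on a strongly closed subgroup. -/
theorem hyp_ge_of_pPowerIndex (hT : F.StronglyClosed T) (hidx : E.HasPPowerIndexIn F p) :
    F.hyperfocalSubgroup p ≤ E.hyperfocalSubgroup p := by
  have hTS : T ≤ S := hT.1
  have hHT : F.hyperfocalSubgroup p ≤ T := hidx.2.1
  have hES := hidx.1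
  apply (Subgroup.closure_le _).2
  rintro _ ⟨P, α, x, hP, hα, rfl⟩
  have hfinP : Finite P := finite_of_le hP
  -- the case of elements of order prime to `p`
  have hcop : ∀ τ : MulAut P, τ ∈ F.autGroup P → (orderOf τ).Coprime p → ∀ y : P,
      (y : Ω)⁻¹ * ((τ y : P) : Ω) ∈ E.hyperfocalSubgroup p := by
    intro τ hτ hc y
    have hPp : IsPGroup p P := hS.to_le hP
    have hfinAut : Finite (MulAut P) :=
      Finite.of_injective (fun e : MulAut P => (e : P → P)) DFunLike.coe_injective
    let A : Subgroup (MulAut P) := Subgroup.zpowers τ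
    have hAF : A ≤ F.autGroup P := Subgroup.zpowers_le.2 hτ
    have hAc : ∀ β ∈ A, (orderOf β).Coprime p := by
      intro β hβ
      exact Nat.Coprime.coprime_dvd_left (orderOf_dvd_of_mem_zpowers hβ) hc
    -- `[P, A] ≤ T`
    let U : Subgroup P := T.subgroupOf P
    have hC : commAut A (⊤ : Subgroup P) ≤ U := by
      apply commAut_le
      intro β hβ u _
      have hβF := hAF hβ
      have := mem_hyp_of_coprime F hP hβF (hAc β hβ) u (p := p)
      exact hHT this
    have hUinv : ∀ β ∈ A, ∀ u ∈ U, β u ∈ U := by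
      intro β hβ u hu
      exact StronglyClosed.aut_mem F hT hP (hAF hβ) hu
    -- the second step
    have hsecond : commAut A U ≤ (E.hyperfocalSubgroup p).subgroupOf P := by
      apply commAut_le
      intro β hβ u hu
      -- the restriction of `β` to `P ⊓ T`
      have hle : P ⊓ T ≤ P := inf_le_left
      have hm : (autHom β).comp (Subgroup.inclusion hle) ∈ F.Hom (P ⊓ T) :=
        restrict_mem F hle (autHom_mem F hP (hAF hβ))
      have hval : ∀ a : ↥(P ⊓ T), (autHom β).comp (Subgroup.inclusion hle) a ∈ P ⊓ T := by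
        intro a
        exact ⟨(β _).2, StronglyClosed.aut_mem F hT hP (hAF hβ) a.2.2⟩
      have hfinPT : Finite ↥(P ⊓ T) := finite_of_le (hle.trans hP)
      have hr := range_eq_of_card_le _ (F.injective_of_mem hm) hval le_rfl
      let β₀ : MulAut ↥(P ⊓ T) := isoOf _ (F.injective_of_mem hm) hr
      have hβ₀ : ∀ a : ↥(P ⊓ T), ((β₀ a : ↥(P ⊓ T)) : Ω) = ((β ⟨a, a.2.1⟩ : P) : Ω) := fun a => rfl
      have hβ₀F : β₀ ∈ F.autGroup (P ⊓ T) := mem_autGroup_of_hom F hm β₀ (fun a => rfl)
      have hpow : ∀ (n : ℕ) (a : ↥(P ⊓ T)), (((β₀ ^ n) a : ↥(P ⊓ T)) : Ω) = (((β ^ n) ⟨a, a.2.1⟩ : P) : Ω) := by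
        intro n
        induction n with
        | zero => intro a; rfl
        | succ n ih =>
          intro a
          rw [pow_succ', pow_succ', MulAut.mul_apply, MulAut.mul_apply]
          have h : (⟨(((β₀ ^ n) a : ↥(P ⊓ T)) : Ω), ((β₀ ^ n) a).2.1⟩ : P) = (β ^ n) ⟨a, a.2.1⟩ :=
            Subtype.ext (ih a)
          rw [hβ₀, h]
      have hord : orderOf β₀ ∣ orderOf β := by
        apply orderOf_dvd_of_pow_eq_one
        ext a
        rw [hpow, pow_orderOf_eq_one]
        rfl
      have hβ₀c : (orderOf β₀).Coprime p := Nat.Coprime.coprime_dvd_left hord (hAc β hβ)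
      have hβ₀E : β₀ ∈ E.autGroup (P ⊓ T) :=
        mem_of_coprime_of_pPowerIndex hidx inf_le_right hβ₀F hβ₀c
      have := mem_hyp_of_coprime E inf_le_right hβ₀E hβ₀c (p := p) ⟨u, u.2, hu⟩
      have e : ((β₀ ⟨u, u.2, hu⟩ : ↥(P ⊓ T)) : Ω) = ((β u : P) : Ω) := rfl
      rw [e] at this
      exact this
    -- coprime action
    have hcard : (Nat.card A).Coprime (Nat.card (⊤ : Subgroup P)) := by
      rw [Nat.card_zpowers]
      obtain ⟨k, hk⟩ := IsPGroup.iff_card.1 (hPp.to_subgroup (⊤ : Subgroup P))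
      rw [hk]
      exact Nat.Coprime.pow_right _ hc
    have hnil := (hPp.to_subgroup (⊤ : Subgroup P)).isNilpotent
    have hsolv : Group.IsSolvable (⊤ : Subgroup P) := inferInstance
    have h3 := commAut_commAut A (⊤ : Subgroup P) (fun _ _ _ _ => trivial) hcard hsolv
    have h4 : y⁻¹ * τ y ∈ commAut A (⊤ : Subgroup P) :=
      mem_commAut (Subgroup.mem_zpowers τ) trivial
    rw [← h3] at h4
    exact hsecond (commAut_mono hC h4)
  have key : ∀ τ : F.autGroup P, τ ∈ pResidual p (F.autGroup P) → ∀ y : P,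
      (y : Ω)⁻¹ * (((τ : MulAut P) y : P) : Ω) ∈ E.hyperfocalSubgroup p := by
    intro τ hτ
    induction hτ using Subgroup.closure_induction with
    | mem a ha =>
      intro y
      exact hcop _ a.2 (by rw [Subgroup.orderOf_coe]; exact ha) y
    | one =>
      intro y
      simp
    | mul a b _ _ ha hb =>
      intro y
      have h1 := Subgroup.mul_mem _ (hb y) (ha ((b : MulAut P) y))
      have e : (y : Ω)⁻¹ * (((a * b : F.autGroup P) : MulAut P) y : P) =
          (y : Ω)⁻¹ * (((b : MulAut P) y : P) : Ω) * ((((b : MulAut P) y : P) : Ω)⁻¹ * (((a : MulAut P) ((b : MulAut P) y) : P) : Ω)) := by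
        show _ = _
        simp [MulAut.mul_apply, mul_assoc]
      rw [e]
      exact h1
    | inv a _ ha =>
      intro y
      have h1 := Subgroup.inv_mem _ (ha ((a : MulAut P)⁻¹ y))
      have e : ((((a : MulAut P) ((a : MulAut P)⁻¹ y) : P) : Ω)) = y := by
        rw [MulAut.apply_inv_self]
      rw [e] at h1
      simpa using h1
  exact key α hα x

end hyp

/-- **S5203**. -/
theorem limit_of_pPowerIndex {S T U V : Subgroup Ω} [Finite S] [Fact p.Prime] (hS : IsPGroup p S)
    {F : FusionSystem S} (hF : F.IsSaturated p) {E : FusionSystem T} (hE : E.IsNormalIn F p)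
    (hidx : E.HasPPowerIndexIn F p) {Finf : FusionSystem U} (hFinf : Finf.IsResidualLimitOf F p)
    {Einf : FusionSystem V} (hEinf : Einf.IsResidualLimitOf E p) : ∀ P : Subgroup Ω, Finf.Hom P = Einf.Hom P := by
  have hp : p.Prime := Fact.out
  have hTc : F.StronglyClosed T := hE.1.2.2.2.1
  have hTS : T ≤ S := hTc.1
  have hEsat : E.IsSaturated p := hE.1.1
  have hES : E.IsSubsystemOf F := hidx.1
  have hfinT : Finite T := finite_of_le hTS
  have hTp : IsPGroup p T := hS.to_le hTS
  have eH : E.hyperfocalSubgroup p = F.hyperfocalSubgroup p :=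
    le_antisymm (hyp_le_hyp hES hTS) (hyp_ge_of_pPowerIndex hS hTc hidx)
  have hHF : F.hyperfocalSubgroup p ≤ S := hyp_le F
  have hHT : F.hyperfocalSubgroup p ≤ T := hidx.2.1
  have hfinH : Finite (F.hyperfocalSubgroup p) := finite_of_le hHF
  have hHp : IsPGroup p (F.hyperfocalSubgroup p) := hS.to_le hHF
  cases hFinf with
  | stable _ _ hH hres =>
    -- `F` is stable
    have hTeq : T = S := le_antisymm hTS (hH.ge.trans hHT)
    subst hTeq
    have hFE : ∀ P, F.Hom P = E.Hom P := fun P => Set.Subset.antisymm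
      (hom_subset_of_coprime hS F hF le_rfl E
        (fun R hR α hα hc => mem_of_coprime_of_pPowerIndex hidx hR hα hc) P) (hES P)
    have : F = E := fusionSystem_ext hFE
    subst this
    exact fun P => (limit_of_stable hEinf hp inferInstance hS hF hH hres P).symm
  | step _ _ D₂ D₂' hD₂ hD₂' hL₂ =>
    cases hEinf with
    | stable _ _ hHE hresE =>
      -- `E` is stable
      have eHT : F.hyperfocalSubgroup p = T := eH.symm.trans hHE
      have hD₂E : ∀ P, D₂.Hom P = E.Hom P := fun P => Set.Subset.antisymm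
        (hom_subset_of_coprime hHp D₂ hD₂.1 hHT E (fun R hR α hα hc =>
          mem_of_coprime_of_pPowerIndex hidx (hR.trans hHT)
            (autGroup_le_of_subsystem hD₂.2.1 hHF hR hα) hc) P)
        (hom_subset_of_coprime hTp E hEsat eHT.ge D₂ (fun R hR α hα hc =>
          mem_of_coprime_of_pPowerIndex hD₂.2 (hR.trans eHT.ge)
            (autGroup_le_of_subsystem hES hTS hR hα) hc) P)
      have hD'E := stable_aux eHT hD₂E hD₂' hresE
      obtain ⟨h1, h2⟩ := stable_props eHT hD'E hHE hresE
      exact fun P => (limit_of_stable hL₂ hp hfinH hHp hD₂'.1 h1 h2 P).trans (hD'E P)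
    | step _ _ D₁ D₁' hD₁ hD₁' hL₁ =>
      have hHT' : E.hyperfocalSubgroup p ≤ T := hyp_le E
      have hfinH₁ : Finite (E.hyperfocalSubgroup p) := finite_of_le hHT'
      have hHp₁ : IsPGroup p (E.hyperfocalSubgroup p) := hTp.to_le hHT'
      have hD₁F : D₁.IsSubsystemOf F := fun P _ h => hES P (hD₁.2.1 P h)
      have hD₁₂ : ∀ P, D₁.Hom P = D₂.Hom P := fun P => Set.Subset.antisymm
        (hom_subset_of_coprime hHp₁ D₁ hD₁.1 eH.le D₂ (fun R hR α hα hc =>
          mem_of_coprime_of_pPowerIndex hD₂.2 (hR.trans eH.le)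
            (autGroup_le_of_subsystem hD₁F (hHT'.trans hTS) hR hα) hc) P)
        (hom_subset_of_coprime hHp D₂ hD₂.1 eH.ge D₁ (fun R hR α hα hc =>
          mem_of_coprime_of_pPowerIndex hD₁.2 (hR.trans eH.ge)
            (mem_of_coprime_of_pPowerIndex hidx (hR.trans hHT)
              (autGroup_le_of_subsystem hD₂.2.1 hHF hR hα) hc) hc) P)
      have hD'' := pPrimeResidual_unique' eH hD₁₂ hD₁' hD₂'
      exact fun P => (limit_unique' eH hD'' hL₁ hL₂ hp hfinH₁ hHp₁ hD₁'.1 P).symm

end Cfsg.Agent.Lib.FusionTheory.ResidualLimit
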