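import Cfsg.Agent.Lib.FusionTheory.ClassTwo

/-!
# Essential subgroups when `S` has an abelian subgroup of index `p`
-/

set_option autoImplicit false
set_option linter.unusedSectionVars false
set_option linter.unusedVariables false

namespace Cfsg.Agent.Lib.FusionTheory.AbelianMaximal

open Cfsg Cfsg.FusionSystem Cfsg.Agent.Lib.Fusion.Basic Cfsg.Agent.Lib.Fusion.Saturation
  Cfsg.Agent.Lib.Fusion.Saturation2 Cfsg.Agent.Lib.Fusion.Alperin Cfsg.Agent.Lib.FusionTheory.Normal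
  Cfsg.Agent.Lib.FusionTheory.Transvect Cfsg.Agent.Lib.FusionTheory.TransPair
  Cfsg.Agent.Lib.FusionTheory.Essential Cfsg.Agent.Lib.FusionTheory.ClassTwo

section chain

variable {V : Type*} [Group V]

theorem chainStab_conj' {A : Subgroup (MulAut V)} {W : Subgroup V} {ρ τ : MulAut V} (hρ : ρ ∈ A)
    (h1 : ∀ w ∈ W, ρ w ∈ W) (h2 : ∀ w ∈ W, ρ⁻¹ w ∈ W) (hτ : τ ∈ chainStab A W) : ρ * τ * ρ⁻¹ ∈ chainStab A W := by
  obtain ⟨hτA, hτ1, hτ2⟩ := hτ
  refine ⟨A.mul_mem (A.mul_mem hρ hτA) (A.inv_mem hρ), fun w hw => ?_, fun v => ?_⟩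
  · simp only [MulAut.mul_apply]
    rw [hτ1 _ (h2 w hw), MulAut.apply_inv_self]
  · simp only [MulAut.mul_apply]
    have h3 := h1 _ (hτ2 (ρ⁻¹ v))
    rw [map_mul, map_inv, MulAut.apply_inv_self] at h3
    exact h3

end chain

section essential

variable {Ω : Type*} [Group Ω] {S : Subgroup Ω} (F : FusionSystem S) {p : ℕ} [hp : Fact p.Prime] [Finite S]

/-- An automorphism preserving a subgroup `W` stabilized together with `E` by a non-inner element of `Aut_S(E)`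
is extendable. -/
theorem mem_extendable_of_chain (hS : IsPGroup p S) (hF : F.IsSaturated p) {E : Subgroup Ω} (hE : F.IsEssential p E)
    {W : Subgroup E} {t₀ : MulAut E} (ht₀ : t₀ ∈ autInducedBy S E) (ht₀i : t₀ ∉ Inn E) (hfix : ∀ w ∈ W, t₀ w = w)
    (hact : ∀ v, v⁻¹ * t₀ v ∈ W) {g : MulAut E} (hg : g ∈ F.autGroup E) (h1 : ∀ w ∈ W, g w ∈ W) (h2 : ∀ w ∈ W, g⁻¹ w ∈ W) :
    g ∈ extendable F E := by
  have hlt := IsEssential.lt F hS hF hE
  have hfinE : Finite E := finite_of_le hlt.le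
  have hEp : IsPGroup p E := hS.to_le hlt.le
  have hAext : autInducedBy S E ≤ extendable F E := autInducedBy_le_extendable F hlt hS
  have hextA := extendable_le_autGroup F (P := E)
  let D := chainStab (F.autGroup E) W
  have hDp : IsPGroup p D := isPGroup_chainStab hEp _ _
  have ht₀D : t₀ ∈ D := ⟨hextA (hAext ht₀), hfix, hact⟩
  have hDe : D ≤ extendable F E := le_extendable_of_meet F hS hF hE (fun τ hτ => hτ.1) hDp ht₀D (hAext ht₀) ht₀i
  exact mem_extendable_of_normalizes F hS hF hE hDe hDp (fun h => ht₀i (h ht₀D)) hg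
    (fun d hd => chainStab_conj' hg h1 h2 hd)

/-- The dual transvection lemma. -/
theorem mem_extendable_of_chain' (hS : IsPGroup p S) (hF : F.IsSaturated p) {E : Subgroup Ω} (hE : F.IsEssential p E)
    {T₀ : Subgroup (MulAut E)} (hT₀ : T₀ ≤ autInducedBy S E)
    {W : Subgroup E} {t₀ : MulAut E} (ht₀ : t₀ ∈ T₀) (ht₀i : t₀ ∉ Inn E) (hfix : ∀ w ∈ W, t₀ w = w)
    (hact : ∀ v, v⁻¹ * t₀ v ∈ W) {g : MulAut E} (hg : g ∈ F.autGroup E)
    (hW : ∀ τ ∈ T₀, ∀ w ∈ W, (g * τ * g⁻¹) w = w) : g ∈ extendable F E := by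
  have hlt := IsEssential.lt F hS hF hE
  have hfinE : Finite E := finite_of_le hlt.le
  have hEp : IsPGroup p E := hS.to_le hlt.le
  have hAext : autInducedBy S E ≤ extendable F E := autInducedBy_le_extendable F hlt hS
  have hextA := extendable_le_autGroup F (P := E)
  let D := chainStab (F.autGroup E) W
  have hDp : IsPGroup p D := isPGroup_chainStab hEp _ _
  have ht₀D : t₀ ∈ D := ⟨hextA (hAext (hT₀ ht₀)), hfix, hact⟩
  have hDe : D ≤ extendable F E :=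
    le_extendable_of_meet F hS hF hE (fun τ hτ => hτ.1) hDp ht₀D (hAext (hT₀ ht₀)) ht₀i
  have hT₀p : IsPGroup p T₀ := (isPGroup_autInducedBy E hS).to_le hT₀
  refine mem_extendable_of_conj F hS hF hE (hT₀.trans hAext) hT₀p (fun h => ht₀i (h ht₀)) hg (fun τ hτ => ?_)
  have hτA : g * τ * g⁻¹ ∈ F.autGroup E :=
    (F.autGroup E).mul_mem ((F.autGroup E).mul_mem hg (hextA (hAext (hT₀ hτ)))) ((F.autGroup E).inv_mem hg)
  refine mem_extendable_of_normalizes F hS hF hE hDe hDp (fun h => ht₀i (h ht₀D)) hτA (fun d hd => ?_)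
  refine chainStab_conj' hτA (fun w hw => ?_) (fun w hw => ?_) hd
  · rw [hW τ hτ w hw]
    exact hw
  · have h3 := hW τ hτ w hw
    have : (g * τ * g⁻¹)⁻¹ w = w := by
      calc (g * τ * g⁻¹)⁻¹ w = (g * τ * g⁻¹)⁻¹ ((g * τ * g⁻¹) w) := by rw [h3]
        _ = w := by simp
    rw [this]
    exact hw

end essential

section group

theorem exists_zpow_mul_of_coatom {G : Type*} [Group G] [Finite G] {p : ℕ} [hp : Fact p.Prime] (hG : IsPGroup p G) {Q : Subgroup G} (hQ : IsCoatom Q) {e : G} (he : e ∉ Q) (s : G) :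
    ∃ k : ℤ, ∃ q ∈ Q, s = e ^ k * q := by
  have hn : Q.Normal := Cfsg.Agent.Lib.PGroups.Basic.normal_of_isCoatom hG hQ
  have hlt : Q < Subgroup.zpowers e ⊔ Q :=
    lt_of_le_of_ne le_sup_right (fun h => he (h ▸ Subgroup.mem_sup_left (Subgroup.mem_zpowers e)))
  have htop := hQ.2 _ hlt
  have h1 : s ∈ ((Subgroup.zpowers e ⊔ Q : Subgroup G) : Set G) := by
    rw [htop]
    trivial
  rw [Subgroup.mul_normal] at h1
  obtain ⟨a, ha, b, hb, hab⟩ := h1
  obtain ⟨k, rfl⟩ := Subgroup.mem_zpowers_iff.1 ha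
  exact ⟨k, b, hb, hab.symm⟩

/-- The index of `K` in `L` when `L = ⟨u⟩ K`. -/
theorem index_eq_of_gen {G : Type*} [Group G] {p : ℕ} [hp : Fact p.Prime] {K L : Subgroup G} (hKL : K ≤ L) {u : G} (huL : u ∈ L) (huK : u ∉ K) (hup : u ^ p ∈ K)
    (hgen : ∀ l ∈ L, ∃ k : ℤ, ∃ q ∈ K, l = u ^ k * q) : (K.subgroupOf L).index = p := by
  classical
  have hK1 : ∀ (k : ℤ), u ^ k ∈ K → (p : ℤ) ∣ k := by
    intro k hk
    by_contra hnd
    have hco : IsCoprime k (p : ℤ) := by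
      have := (Int.prime_iff_natAbs_prime.2 (by simpa using hp.out) : Prime (p : ℤ))
      exact (Int.isCoprime_iff_gcd_eq_one.2 (Int.gcd_comm _ _ ▸ (by
        have h2 := (Nat.Prime.coprime_iff_not_dvd hp.out).2 (fun h => hnd (Int.natCast_dvd.2 h))
        simpa [Int.gcd] using h2)))
    obtain ⟨a, b, hab⟩ := hco
    apply huK
    have e : u = (u ^ k) ^ a * (u ^ p) ^ b := by
      rw [← zpow_natCast, ← zpow_mul, ← zpow_mul, ← zpow_add]
      have : k * a + (p : ℤ) * b = 1 := by rw [← hab]; ring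
      rw [this, zpow_one]
    rw [e]
    exact K.mul_mem (K.zpow_mem hk a) (K.zpow_mem hup b)
  -- a bijection with `Fin p`
  let u' : L := ⟨u, huL⟩
  let f : Fin p → L ⧸ (K.subgroupOf L) := fun i => ((u' ^ (i : ℕ) : L) : L ⧸ (K.subgroupOf L))
  have hmemK : ∀ a b : ℕ, (u' ^ a)⁻¹ * u' ^ b ∈ K.subgroupOf L ↔ u ^ ((b : ℤ) - a) ∈ K := by
    intro a b
    rw [Subgroup.mem_subgroupOf]
    have e : (((u' ^ a)⁻¹ * u' ^ b : L) : G) = u ^ ((b : ℤ) - a) := by
      simp only [Subgroup.coe_mul, Subgroup.coe_inv, Subgroup.coe_pow, u']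
      rw [zpow_sub, zpow_natCast, zpow_natCast]
      exact ((Commute.refl u).pow_pow a b).inv_left.eq
    rw [e]
  have hinj : Function.Injective f := by
    intro i j h
    have h1 := QuotientGroup.eq.1 h
    have h2 := hK1 _ ((hmemK _ _).1 h1)
    have h3 : |((j : ℕ) : ℤ) - (i : ℕ)| < (p : ℤ) := by
      rw [abs_lt]
      have hi := i.2
      have hj := j.2
      constructor <;> omega
    have h4 := Int.eq_zero_of_abs_lt_dvd h2 h3
    apply Fin.ext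
    omega
  have hsurj : Function.Surjective f := by
    intro y
    induction y using QuotientGroup.induction_on with
    | H a =>
      obtain ⟨k, q, hq, ha⟩ := hgen a a.2
      have hpos : (0 : ℤ) < p := by exact_mod_cast hp.out.pos
      have hr0 := Int.emod_nonneg k hpos.ne'
      have hr1 := Int.emod_lt_of_pos k hpos
      refine ⟨⟨(k % p).toNat, by omega⟩, ?_⟩
      apply QuotientGroup.eq.2
      rw [Subgroup.mem_subgroupOf]
      have hcast : (((k % p).toNat : ℕ) : ℤ) = k % p := Int.toNat_of_nonneg hr0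
      have e : (((u' ^ (k % p).toNat)⁻¹ * a : L) : G) = u ^ ((p : ℤ) * (k / p)) * q := by
        simp only [Subgroup.coe_mul, Subgroup.coe_inv, Subgroup.coe_pow, u']
        rw [ha, ← mul_assoc, ← zpow_natCast, hcast, ← zpow_neg, ← zpow_add]
        congr 2
        have := Int.emod_add_mul_ediv k p
        linarith
      show (((u' ^ (k % p).toNat)⁻¹ * a : L) : G) ∈ K
      rw [e]
      refine K.mul_mem ?_ hq
      rw [zpow_mul, zpow_natCast]
      exact K.zpow_mem hup _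
  rw [Subgroup.index_eq_card, ← Nat.card_eq_of_bijective f ⟨hinj, hsurj⟩, Nat.card_eq_fintype_card, Fintype.card_fin]

end group

section main

variable {Ω : Type*} [Group Ω] {S : Subgroup Ω} (F : FusionSystem S) {p : ℕ} [hp : Fact p.Prime] [Finite S]
  {A : Subgroup Ω}

/-- `A` is abelian of index `p` in `S`. -/
structure AMax (p : ℕ) (S A : Subgroup Ω) : Prop where
  le : A ≤ S
  ab : ∀ a ∈ A, ∀ b ∈ A, a * b = b * a
  idx : (A.subgroupOf S).index = p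

theorem AMax.isCoatom (hA : AMax p S A) : IsCoatom (A.subgroupOf S) :=
  Cfsg.Agent.Lib.PGroups.Basic.isCoatom_of_index_prime (hA.idx ▸ hp.out)

theorem AMax.normal (hA : AMax p S A) (hS : IsPGroup p S) : (A.subgroupOf S).Normal :=
  Cfsg.Agent.Lib.PGroups.Basic.normal_of_isCoatom hS hA.isCoatom

theorem AMax.conj_mem (hA : AMax p S A) (hS : IsPGroup p S) {s a : Ω} (hs : s ∈ S) (ha : a ∈ A) : s * a * s⁻¹ ∈ A := by
  have h := (hA.normal hS).conj_mem (⟨a, hA.le ha⟩ : S) (Subgroup.mem_subgroupOf.2 ha) ⟨s, hs⟩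
  exact Subgroup.mem_subgroupOf.1 h

theorem AMax.center_of_comm (hA : AMax p S A) (hS : IsPGroup p S) {x a : Ω} (hxS : x ∈ S) (hxA : x ∉ A) (ha : a ∈ A)
    (hc : x * a = a * x) : a ∈ S ⊓ Subgroup.centralizer (S : Set Ω) := by
  refine ⟨hA.le ha, Subgroup.mem_centralizer_iff.2 fun s hs => ?_⟩
  obtain ⟨k, e, he, rfl⟩ := exists_zpow_mul hS hA.le hA.idx hxS hxA s hs
  have h3 : Commute (x ^ k) a := Commute.zpow_left hc k
  have h4 : e * a = a * e := hA.ab e he a ha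
  calc x ^ k * e * a = x ^ k * (e * a) := by group
    _ = x ^ k * (a * e) := by rw [h4]
    _ = (x ^ k * a) * e := by group
    _ = (a * x ^ k) * e := by rw [h3.eq]
    _ = _ := by group

theorem AMax.center_le (hA : AMax p S A) (hS : IsPGroup p S) (hna : ¬ ∀ a ∈ S, ∀ b ∈ S, a * b = b * a) :
    S ⊓ Subgroup.centralizer (S : Set Ω) ≤ A := by
  intro y hy
  by_contra hyA
  apply hna
  intro a ha b hb
  obtain ⟨k, e, he, rfl⟩ := exists_zpow_mul hS hA.le hA.idx hy.1 hyA a ha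
  obtain ⟨l, f, hf, rfl⟩ := exists_zpow_mul hS hA.le hA.idx hy.1 hyA b hb
  have hc : ∀ s ∈ S, Commute y s := fun s hs => (Subgroup.mem_centralizer_iff.1 hy.2 s hs).symm
  have h1 : Commute (y ^ k) (y ^ l) := (Commute.refl y).zpow_zpow k l
  have h2 : Commute (y ^ k) f := (hc f (hA.le hf)).zpow_left k
  have h3 : Commute (y ^ l) e := (hc e (hA.le he)).zpow_left l
  have h4 : e * f = f * e := hA.ab e he f hf
  calc y ^ k * e * (y ^ l * f) = y ^ k * (e * y ^ l) * f := by group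
    _ = y ^ k * (y ^ l * e) * f := by rw [h3.eq]
    _ = (y ^ k * y ^ l) * (e * f) := by group
    _ = (y ^ l * y ^ k) * (f * e) := by rw [h1.eq, h4]
    _ = y ^ l * (y ^ k * f) * e := by group
    _ = y ^ l * (f * y ^ k) * e := by rw [h2.eq]
    _ = _ := by group

/-- The commutator map with `x`. -/
def AMax.psi (hA : AMax p S A) (hS : IsPGroup p S) {x : Ω} (hx : x ∈ S) : A →* A where
  toFun y := ⟨x⁻¹ * y * x * (y : Ω)⁻¹, by
    have h1 := hA.conj_mem hS (S.inv_mem hx) y.2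
    rw [inv_inv] at h1
    exact A.mul_mem h1 (A.inv_mem y.2)⟩
  map_one' := by ext; simp
  map_mul' a b := by
    ext
    show x⁻¹ * (a * b : Ω) * x * ((a : Ω) * b)⁻¹ = (x⁻¹ * a * x * (a : Ω)⁻¹) * (x⁻¹ * b * x * (b : Ω)⁻¹)
    have h1 := hA.conj_mem hS (S.inv_mem hx) b.2
    rw [inv_inv] at h1
    have h2 := hA.ab _ (A.mul_mem h1 (A.inv_mem b.2)) _ (A.inv_mem a.2)
    calc x⁻¹ * (a * b : Ω) * x * ((a : Ω) * b)⁻¹ = x⁻¹ * a * x * ((x⁻¹ * b * x * (b : Ω)⁻¹) * (a : Ω)⁻¹) := by group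
      _ = x⁻¹ * a * x * ((a : Ω)⁻¹ * (x⁻¹ * b * x * (b : Ω)⁻¹)) := by rw [h2]
      _ = _ := by group

theorem AMax.psi_coe (hA : AMax p S A) (hS : IsPGroup p S) {x : Ω} (hx : x ∈ S) (y : A) :
    ((hA.psi hS hx y : A) : Ω) = x⁻¹ * y * x * (y : Ω)⁻¹ := rfl

/-- The second centre. -/
theorem mem_zzTwo {y : Ω} : y ∈ (upperCentralSeries S 2).map S.subtype ↔
    y ∈ S ∧ ∀ s ∈ S, y * s * y⁻¹ * s⁻¹ ∈ S ⊓ Subgroup.centralizer (S : Set Ω) := by
  constructor
  · rintro ⟨z, hz, rfl⟩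
    refine ⟨z.2, fun s hs => ?_⟩
    have hz' : z ∈ Subgroup.upperCentralSeries S (1 + 1) := hz
    rw [Subgroup.mem_upperCentralSeries_succ_iff] at hz'
    have h1 := hz' ⟨s, hs⟩
    rw [Subgroup.upperCentralSeries_one] at h1
    exact mem_center_iff.1 h1
  · rintro ⟨hyS, h⟩
    refine ⟨⟨y, hyS⟩, ?_, rfl⟩
    show _ ∈ Subgroup.upperCentralSeries S (1 + 1)
    rw [Subgroup.mem_upperCentralSeries_succ_iff]
    intro s
    rw [Subgroup.upperCentralSeries_one]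
    exact mem_center_iff.2 (h s s.2)

theorem center_le_zzTwo : S ⊓ Subgroup.centralizer (S : Set Ω) ≤ (upperCentralSeries S 2).map S.subtype := by
  intro y hy
  refine mem_zzTwo.2 ⟨hy.1, fun s hs => ?_⟩
  have h1 : y * s = s * y := (Subgroup.mem_centralizer_iff.1 hy.2 s hs).symm
  rw [h1]
  have e : s * y * y⁻¹ * s⁻¹ = 1 := by group
  rw [e]
  exact Subgroup.one_mem _

/-- Elements of `A` lie in `Z₂(S)` as soon as their commutator with `x` is central. -/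
theorem AMax.mem_zzTwo_of_comm (hA : AMax p S A) (hS : IsPGroup p S) {x a : Ω} (hxS : x ∈ S) (hxA : x ∉ A) (ha : a ∈ A)
    (hc : x⁻¹ * a * x * a⁻¹ ∈ S ⊓ Subgroup.centralizer (S : Set Ω)) : a ∈ (upperCentralSeries S 2).map S.subtype := by
  have haS := hA.le ha
  let Z' := S ⊓ Subgroup.centralizer (S : Set Ω)
  have hcen : ∀ z ∈ Z', ∀ s ∈ S, s * z * s⁻¹ = z := by
    intro z hz s hs
    have := Subgroup.mem_centralizer_iff.1 hz.2 s hs
    rw [this]
    group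
  refine mem_zzTwo.2 ⟨haS, fun s hs => ?_⟩
  let Fx : Subgroup S :=
    { carrier := {s | a * (s : Ω) * a⁻¹ * (s : Ω)⁻¹ ∈ Z'}
      mul_mem' := fun {s₁ s₂} h₁ h₂ => by
        show a * ((s₁ * s₂ : S) : Ω) * a⁻¹ * ((s₁ * s₂ : S) : Ω)⁻¹ ∈ Z'
        have e : a * ((s₁ * s₂ : S) : Ω) * a⁻¹ * ((s₁ * s₂ : S) : Ω)⁻¹ =
            (a * (s₁ : Ω) * a⁻¹ * (s₁ : Ω)⁻¹) * ((s₁ : Ω) * (a * (s₂ : Ω) * a⁻¹ * (s₂ : Ω)⁻¹) * (s₁ : Ω)⁻¹) := by
          simp only [Subgroup.coe_mul]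
          group
        rw [e, hcen _ h₂ _ s₁.2]
        exact Z'.mul_mem h₁ h₂
      one_mem' := by
        show a * ((1 : S) : Ω) * a⁻¹ * ((1 : S) : Ω)⁻¹ ∈ Z'
        simp [Z'.one_mem]
      inv_mem' := fun {s₁} h₁ => by
        show a * ((s₁⁻¹ : S) : Ω) * a⁻¹ * ((s₁⁻¹ : S) : Ω)⁻¹ ∈ Z'
        have e : a * ((s₁⁻¹ : S) : Ω) * a⁻¹ * ((s₁⁻¹ : S) : Ω)⁻¹ =
            (s₁ : Ω)⁻¹ * (a * (s₁ : Ω) * a⁻¹ * (s₁ : Ω)⁻¹)⁻¹ * ((s₁ : Ω)⁻¹)⁻¹ := by
          simp only [Subgroup.coe_inv]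
          group
        rw [e, hcen _ (Z'.inv_mem h₁) _ (S.inv_mem s₁.2)]
        exact Z'.inv_mem h₁ }
  have hFxx : (⟨x, hxS⟩ : S) ∈ Fx := by
    show a * x * a⁻¹ * x⁻¹ ∈ Z'
    have e : a * x * a⁻¹ * x⁻¹ = x * (x⁻¹ * a * x * a⁻¹) * x⁻¹ := by group
    rw [e, hcen _ hc _ hxS]
    exact hc
  have hFxA : ∀ e ∈ A, ∀ he : e ∈ S, (⟨e, he⟩ : S) ∈ Fx := by
    intro e he heS
    show a * e * a⁻¹ * e⁻¹ ∈ Z'
    rw [hA.ab a ha e he]
    have e2 : e * a * a⁻¹ * e⁻¹ = 1 := by group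
    rw [e2]
    exact Z'.one_mem
  obtain ⟨k, e, he, hse⟩ := exists_zpow_mul hS hA.le hA.idx hxS hxA s hs
  have hmem : (⟨s, hs⟩ : S) ∈ Fx := by
    have e3 : (⟨s, hs⟩ : S) = ⟨x, hxS⟩ ^ k * ⟨e, hA.le he⟩ := Subtype.ext (by simpa using hse)
    rw [e3]
    exact Fx.mul_mem (Fx.zpow_mem hFxx k) (hFxA e he _)
  exact hmem

/-- **The structure of essential subgroups `P ≠ A`.** -/
theorem ess_structure (hA : AMax p S A) (hS : IsPGroup p S) (hF : F.IsSaturated p)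
    (hna : ¬ ∀ a ∈ S, ∀ b ∈ S, a * b = b * a) {P : Subgroup Ω} (hP : F.IsEssential p P) (hPA : P ≠ A) :
    ∃ x ∈ P, x ∉ A ∧
      (∀ v ∈ P, ∃ k : ℤ, ∃ e ∈ P ⊓ A, v = x ^ k * e) ∧
      (S ⊓ Subgroup.centralizer (S : Set Ω) ≤ P ⊓ A) ∧
      (∃ y₁ ∈ A, y₁ ∈ Subgroup.normalizer (P : Set Ω) ∧ y₁ ∉ P ∧ y₁ ^ p ∈ P ∧
        ∀ y ∈ A, y ∈ Subgroup.normalizer (P : Set Ω) → ∃ k : ℤ, ∃ u ∈ P ⊓ A, y = y₁ ^ k * u) ∧
      ((∀ a ∈ P, ∀ b ∈ P, a * b = b * a) → P ⊓ A = S ⊓ Subgroup.centralizer (S : Set Ω)) ∧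
      (¬ (∀ a ∈ P, ∀ b ∈ P, a * b = b * a) →
        (upperCentralSeries S 2).map S.subtype ≤ A ∧ P ⊓ A = (upperCentralSeries S 2).map S.subtype ∧
        ((S ⊓ Subgroup.centralizer (S : Set Ω)).subgroupOf ((upperCentralSeries S 2).map S.subtype)).index = p) := by
  classical
  have hpp := hp.out
  have hlt := IsEssential.lt F hS hF hP
  have hPS := hlt.le
  have hfinP : Finite P := finite_of_le hPS
  have hPp : IsPGroup p P := hS.to_le hPS
  have hZP := center_le_of_isCentric F hP.1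
  have hZA := hA.center_le hS hna
  have hPnA : ¬ P ≤ A := by
    intro hle
    apply hPA
    refine le_antisymm hle fun a ha => ?_
    refine hP.1.2 P (isConj_refl F hPS) ⟨hA.le ha, Subgroup.mem_centralizer_iff.2 fun v hv => ?_⟩
    exact hA.ab v (hle hv) a ha
  obtain ⟨x, hxP, hxA⟩ := SetLike.not_le_iff_exists.1 hPnA
  have hxS := hPS hxP
  have hgen := exists_zpow_mul hS hA.le hA.idx hxS hxA
  refine ⟨x, hxP, hxA, ?_, le_inf hZP hZA, ?_⟩
  · intro v hv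
    obtain ⟨k, e, he, rfl⟩ := hgen v (hPS hv)
    refine ⟨k, e, ⟨?_, he⟩, rfl⟩
    have := P.mul_mem (P.inv_mem (P.zpow_mem hxP k)) hv
    rwa [inv_mul_cancel_left] at this
  -- an element of `A` normalizing `P`, outside `P`
  obtain ⟨-, s, hs, hsP⟩ := SetLike.lt_iff_le_and_exists.1 (lt_normalizerIn hS hlt)
  obtain ⟨k₀, y₁, hy₁A, hsy⟩ := hgen s hs.1
  have hy₁n : y₁ ∈ Subgroup.normalizer (P : Set Ω) := by
    have h1 : y₁ = (x ^ k₀)⁻¹ * s := by rw [hsy]; group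
    rw [h1]
    exact Subgroup.mul_mem _ (Subgroup.inv_mem _ (Subgroup.zpow_mem _ (Subgroup.le_normalizer hxP) k₀)) hs.2
  have hy₁P : y₁ ∉ P := by
    intro h
    apply hsP
    rw [hsy]
    exact P.mul_mem (P.zpow_mem hxP k₀) h
  have hy₁S := hA.le hy₁A
  -- the maximal subgroups
  let P₀ : Subgroup P := A.subgroupOf P
  have hP₀mem : ∀ v : P, v ∈ P₀ ↔ (v : Ω) ∈ A := fun v => Subgroup.mem_subgroupOf
  have hnA := hA.normal hS
  have hP₀idx : P₀.index = p := by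
    let f : P →* (S ⧸ A.subgroupOf S) := (QuotientGroup.mk' (A.subgroupOf S)).comp (Subgroup.inclusion hPS)
    have hker : f.ker = P₀ := by
      ext v
      rw [MonoidHom.mem_ker]
      show ((Subgroup.inclusion hPS v : S) : S ⧸ A.subgroupOf S) = 1 ↔ _
      rw [QuotientGroup.eq_one_iff, Subgroup.mem_subgroupOf, hP₀mem]
      rfl
    rw [← hker, Subgroup.index_ker]
    have h1 : Nat.card f.range ∣ p := by
      have := Subgroup.card_subgroup_dvd_card f.range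
      rwa [← Subgroup.index_eq_card, hA.idx] at this
    refine ((Nat.dvd_prime hpp).1 h1).resolve_left fun h2 => ?_
    rw [Subgroup.card_eq_one] at h2
    have h3 : f ⟨x, hxP⟩ = 1 := by
      have : f ⟨x, hxP⟩ ∈ f.range := ⟨_, rfl⟩
      rwa [h2, Subgroup.mem_bot] at this
    have h4 : (⟨x, hxP⟩ : P) ∈ f.ker := h3
    rw [hker, hP₀mem] at h4
    exact hxA h4
  have hP₀co : IsCoatom P₀ := Cfsg.Agent.Lib.PGroups.Basic.isCoatom_of_index_prime (hP₀idx ▸ hpp)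
  have hP₀n : P₀.Normal := Cfsg.Agent.Lib.PGroups.Basic.normal_of_isCoatom hPp hP₀co
  -- action of elements of `A`
  have hfix : ∀ y ∈ A, ∀ hy : y ∈ Subgroup.normalizer (P : Set Ω), ∀ u ∈ P₀, normAct P hy u = u := by
    intro y hy hyn u hu
    apply Subtype.ext
    rw [normAct_apply, hA.ab y hy u ((hP₀mem u).1 hu)]
    group
  have hact : ∀ y ∈ A, ∀ hy : y ∈ Subgroup.normalizer (P : Set Ω), ∀ v : P, v⁻¹ * normAct P hy v ∈ P₀ := by
    intro y hy hyn v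
    rw [hP₀mem]
    have e : (((v⁻¹ * normAct P hyn v : P)) : Ω) = ((v : Ω)⁻¹ * y * (v : Ω)⁻¹⁻¹) * y⁻¹ := by
      show (v : Ω)⁻¹ * (y * v * y⁻¹) = _
      group
    rw [e]
    exact A.mul_mem (hA.conj_mem hS (S.inv_mem (hPS v.2)) hy) (A.inv_mem hy)
  obtain ⟨g, hg, hgn⟩ := IsEssential.exists_not_extendable F hS hF hP
  have ht₁ := normAct_mem_autInducedBy S P hy₁n hy₁S
  have ht₁i := normAct_not_mem_inn F hP.1 hy₁S hy₁n hy₁P
  -- the conjugate of `P₀`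
  let Q : Subgroup P := P₀.map g.toMonoidHom
  have hQmem : ∀ u ∈ P₀, g u ∈ Q := fun u hu => ⟨u, hu, rfl⟩
  have hQne : Q ≠ P₀ := by
    intro e
    apply hgn
    refine mem_extendable_of_chain F hS hF hP ht₁ ht₁i (hfix y₁ hy₁A hy₁n) (hact y₁ hy₁A hy₁n) hg
      (fun w hw => e ▸ hQmem w hw) (fun w hw => ?_)
    rw [← e] at hw
    obtain ⟨u, hu, rfl⟩ := hw
    show g⁻¹ (g u) ∈ P₀
    rw [show g⁻¹ (g u) = u by simp]
    rw [← e] at hu ⊢
    exact hu
  have hQidx : Q.index = p := by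
    have e : Q = P₀.comap g⁻¹.toMonoidHom := by
      ext v
      constructor
      · rintro ⟨u, hu, rfl⟩
        show g⁻¹ (g u) ∈ P₀
        rw [show g⁻¹ (g u) = u by simp]
        exact hu
      · intro hv
        exact ⟨g⁻¹ v, hv, by simp⟩
    rw [e, Subgroup.index_comap_of_surjective _ (g⁻¹).surjective, hP₀idx]
  have hQco : IsCoatom Q := Cfsg.Agent.Lib.PGroups.Basic.isCoatom_of_index_prime (hQidx ▸ hpp)
  have hQn : Q.Normal := Cfsg.Agent.Lib.PGroups.Basic.normal_of_isCoatom hPp hQco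
  let W : Subgroup P := P₀ ⊓ Q
  have hWn : W.Normal := Subgroup.normal_inf_normal _ _
  -- an element of `A` whose commutator with `x` lies in `Q` is in `P`
  have hW0 : ∀ y ∈ A, ∀ hy : y ∈ Subgroup.normalizer (P : Set Ω), (∀ v : P, v⁻¹ * normAct P hy v ∈ W) → y ∈ P := by
    intro y hy hyn h
    by_contra hyP
    apply hgn
    have hT : autInducedBy A P ≤ autInducedBy S P := by
      intro τ hτ
      obtain ⟨h₀, hh₀, hv⟩ := (mem_autInducedBy_iff A P τ).1 hτ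
      exact (mem_autInducedBy_iff S P τ).2 ⟨h₀, hA.le hh₀, hv⟩
    refine mem_extendable_of_chain' F hS hF hP hT (W := W) (t₀ := normAct P hyn) (normAct_mem_autInducedBy A P hyn hy)
      (normAct_not_mem_inn F hP.1 (hA.le hy) hyn hyP) (fun w hw => hfix y hy hyn w hw.1) h hg (fun τ hτ w hw => ?_)
    obtain ⟨h₀, hh₀, hv⟩ := (mem_autInducedBy_iff A P τ).1 hτ
    obtain ⟨u, hu, rfl⟩ := hw.2
    show (g * τ * g⁻¹) (g u) = g u
    simp only [MulAut.mul_apply]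
    rw [show g⁻¹ (g u) = u by simp]
    congr 1
    apply Subtype.ext
    rw [hv u, hA.ab h₀ hh₀ u ((hP₀mem u).1 hu)]
    group
  let x' : P := ⟨x, hxP⟩
  have hx'P₀ : x' ∉ P₀ := fun h => hxA ((hP₀mem x').1 h)
  have key2 : ∀ y ∈ A, ∀ hy : y ∈ Subgroup.normalizer (P : Set Ω), x'⁻¹ * normAct P hy x' ∈ Q → y ∈ P := by
    intro y hy hyn hq
    refine hW0 y hy hyn ?_
    let Fx : Subgroup P :=
      { carrier := {v | v⁻¹ * normAct P hyn v ∈ W}
        mul_mem' := fun {a b} ha hb => by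
          show (a * b)⁻¹ * normAct P hyn (a * b) ∈ W
          have h1 := hWn.conj_mem _ ha b⁻¹
          have h2 := W.mul_mem h1 hb
          have e : b⁻¹ * (a⁻¹ * normAct P hyn a) * b⁻¹⁻¹ * (b⁻¹ * normAct P hyn b) = (a * b)⁻¹ * normAct P hyn (a * b) := by
            rw [map_mul]
            group
          rwa [e] at h2
        one_mem' := by
          show (1 : P)⁻¹ * normAct P hyn 1 ∈ W
          simp [W.one_mem]
        inv_mem' := fun {a} ha => by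
          show a⁻¹⁻¹ * normAct P hyn a⁻¹ ∈ W
          have h1 := hWn.conj_mem _ (W.inv_mem ha) a
          have e : a * (a⁻¹ * normAct P hyn a)⁻¹ * a⁻¹ = a⁻¹⁻¹ * normAct P hyn a⁻¹ := by
            rw [map_inv]
            group
          rwa [e] at h1 }
    have hFx₀ : P₀ < Fx := by
      refine SetLike.lt_iff_le_and_exists.2 ⟨fun u hu => ?_, x', (show x' ∈ Fx from (⟨hact y hy hyn x', hq⟩ : x'⁻¹ * normAct P hyn x' ∈ W)), hx'P₀⟩
      show u⁻¹ * normAct P hyn u ∈ W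
      rw [hfix y hy hyn u hu, inv_mul_cancel]
      exact W.one_mem
    have htop := hP₀co.2 _ hFx₀
    intro v
    have : v ∈ Fx := by rw [htop]; trivial
    exact this
  let ψ₀ := hA.psi hS hxS
  have hE : ∀ (y : A) (hy : (y : Ω) ∈ Subgroup.normalizer (P : Set Ω)),
      ((x'⁻¹ * normAct P hy x' : P) : Ω) = (ψ₀ y : Ω) := by
    intro y hy
    show x⁻¹ * ((y : Ω) * x * (y : Ω)⁻¹) = x⁻¹ * y * x * (y : Ω)⁻¹
    group
  let y₁' : A := ⟨y₁, hy₁A⟩
  let e₁ : P := x'⁻¹ * normAct P hy₁n x'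
  have he₁Q : e₁ ∉ Q := fun h => hy₁P (key2 y₁ hy₁A hy₁n h)
  have he₁ : (e₁ : Ω) = (ψ₀ y₁' : Ω) := hE y₁' hy₁n
  have he₁P₀ : e₁ ∈ P₀ := hact y₁ hy₁A hy₁n x'
  have hzN : ∀ (k : ℤ), (y₁ ^ k) ∈ Subgroup.normalizer (P : Set Ω) := fun k => Subgroup.zpow_mem _ hy₁n k
  have hpowQ : ∀ v : P, v ^ p ∈ Q := by
    intro v
    have := Subgroup.pow_index_mem Q v
    rwa [hQidx] at this
  refine ⟨?_, ?_, ?_⟩
  · refine ⟨y₁, hy₁A, hy₁n, hy₁P, ?_, ?_⟩
    · -- the power of `y₁`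
      have hn : y₁ ^ p ∈ Subgroup.normalizer (P : Set Ω) := Subgroup.pow_mem _ hy₁n p
      refine key2 _ (A.pow_mem hy₁A p) hn ?_
      have e : x'⁻¹ * normAct P hn x' = e₁ ^ p := by
        apply Subtype.ext
        have h1 := hE (y₁' ^ p) hn
        have h2 : ψ₀ (y₁' ^ p) = (ψ₀ y₁') ^ p := map_pow _ _ _
        calc ((x'⁻¹ * normAct P hn x' : P) : Ω) = (ψ₀ (y₁' ^ p) : Ω) := h1
          _ = ((ψ₀ y₁') ^ p : A) := by rw [h2]
          _ = (ψ₀ y₁' : Ω) ^ p := by simp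
          _ = ((e₁ ^ p : P) : Ω) := by rw [← he₁]; simp
      rw [e]
      exact hpowQ e₁
    · intro y hy hyn
      have hyP₀ : x'⁻¹ * normAct P hyn x' ∈ P₀ := hact y hy hyn x'
      obtain ⟨k, q, hq, hq'⟩ := exists_zpow_mul_of_coatom hPp hQco he₁Q (x'⁻¹ * normAct P hyn x')
      have hu : (y₁ ^ k)⁻¹ * y ∈ A := A.mul_mem (A.inv_mem (A.zpow_mem hy₁A k)) hy
      have hun : (y₁ ^ k)⁻¹ * y ∈ Subgroup.normalizer (P : Set Ω) := Subgroup.mul_mem _ (Subgroup.inv_mem _ (hzN k)) hyn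
      have hEu : x'⁻¹ * normAct P hun x' = q := by
        apply Subtype.ext
        have h1 := hE ((y₁' ^ k)⁻¹ * ⟨y, hy⟩) (by simpa [y₁'] using hun)
        have h2 : ψ₀ ((y₁' ^ k)⁻¹ * ⟨y, hy⟩) = ((ψ₀ y₁') ^ k)⁻¹ * ψ₀ ⟨y, hy⟩ := by
          rw [map_mul, map_inv, map_zpow]
        have h3 := hE ⟨y, hy⟩ hyn
        have h4 : (q : Ω) = ((e₁ ^ k)⁻¹ * (x'⁻¹ * normAct P hyn x') : P) := by
          rw [hq']
          simp
        calc ((x'⁻¹ * normAct P hun x' : P) : Ω) = (ψ₀ ((y₁' ^ k)⁻¹ * ⟨y, hy⟩) : Ω) := h1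
          _ = (((ψ₀ y₁') ^ k)⁻¹ * ψ₀ ⟨y, hy⟩ : A) := by rw [h2]
          _ = ((ψ₀ y₁' : Ω) ^ k)⁻¹ * (ψ₀ ⟨y, hy⟩ : Ω) := by simp
          _ = ((e₁ ^ k)⁻¹ * (x'⁻¹ * normAct P hyn x') : P) := by
            rw [← he₁, ← h3]
            simp
          _ = q := h4.symm
      have huP : (y₁ ^ k)⁻¹ * y ∈ P := key2 _ hu hun (by rw [hEu]; exact hq)
      exact ⟨k, _, ⟨huP, hu⟩, by group⟩
  · -- the abelian case
    intro habP
    refine le_antisymm (fun u hu => ?_) (le_inf hZP hZA)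
    exact hA.center_of_comm hS hxS hxA hu.2 (habP x hxP u hu.1)
  · -- the nonabelian case
    intro hnon
    have hP₀ab : ∀ a ∈ P₀, ∀ b ∈ P₀, a * b = b * a := fun a ha b hb => Subtype.ext (hA.ab _ ha _ hb)
    have hQab : ∀ a ∈ Q, ∀ b ∈ Q, a * b = b * a := by
      rintro _ ⟨a, ha, rfl⟩ _ ⟨b, hb, rfl⟩
      show g a * g b = g b * g a
      rw [← map_mul, ← map_mul, hP₀ab a ha b hb]
    obtain ⟨u₀, hu₀P₀, hu₀Q⟩ : ∃ u₀ ∈ P₀, u₀ ∉ Q := by
      by_contra hno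
      push Not at hno
      have hle : P₀ ≤ Q := hno
      rcases hle.lt_or_eq with h | h
      · exact hQco.1 (hP₀co.2 _ h)
      · exact hQne h.symm
    obtain ⟨k₁, q₀, hq₀, hxdec⟩ := exists_zpow_mul_of_coatom hPp hQco hu₀Q x'
    have hWc : ∀ w ∈ W, (w : Ω) ∈ S ⊓ Subgroup.centralizer (S : Set Ω) := by
      intro w hw
      refine hA.center_of_comm hS hxS hxA ((hP₀mem w).1 hw.1) ?_
      have h1 : Commute w (u₀ ^ k₁) := (Commute.zpow_right (hP₀ab w hw.1 u₀ hu₀P₀) k₁)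
      have h2 : w * q₀ = q₀ * w := hQab w hw.2 q₀ hq₀
      have h3 : x' * w = w * x' := by
        rw [hxdec]
        calc u₀ ^ k₁ * q₀ * w = u₀ ^ k₁ * (w * q₀) := by rw [h2, mul_assoc]
          _ = (u₀ ^ k₁ * w) * q₀ := by group
          _ = (w * u₀ ^ k₁) * q₀ := by rw [h1.eq]
          _ = _ := by group
      exact congrArg Subtype.val h3
    have hcommW : ∀ u ∈ P₀, x'⁻¹ * u * x' * u⁻¹ ∈ W := by
      intro u hu
      have e : x'⁻¹ * u * x' = q₀⁻¹ * u * q₀ := by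
        rw [hxdec]
        have h1 : Commute u (u₀ ^ k₁) := (Commute.zpow_right (hP₀ab u hu u₀ hu₀P₀) k₁)
        calc (u₀ ^ k₁ * q₀)⁻¹ * u * (u₀ ^ k₁ * q₀) = q₀⁻¹ * ((u₀ ^ k₁)⁻¹ * (u * u₀ ^ k₁)) * q₀ := by group
          _ = q₀⁻¹ * ((u₀ ^ k₁)⁻¹ * (u₀ ^ k₁ * u)) * q₀ := by rw [h1.eq]
          _ = _ := by group
      rw [e]
      constructor
      · have h1 := hP₀n.conj_mem u hu q₀⁻¹
        rw [inv_inv] at h1
        exact P₀.mul_mem h1 (P₀.inv_mem hu)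
      · have h1 := hQn.conj_mem q₀ hq₀ u
        have e2 : q₀⁻¹ * u * q₀ * u⁻¹ = q₀⁻¹ * (u * q₀ * u⁻¹) := by group
        rw [e2]
        exact Q.mul_mem (Q.inv_mem hq₀) h1
    have hP₀Z₂ : ∀ u ∈ P ⊓ A, u ∈ (upperCentralSeries S 2).map S.subtype := by
      intro u hu
      have h1 := hWc _ (hcommW ⟨u, hu.1⟩ ((hP₀mem _).2 hu.2))
      exact hA.mem_zzTwo_of_comm hS hxS hxA hu.2 h1
    have hcen_le : Subgroup.center P ≤ P₀ := by
      intro z hz
      by_contra hzP₀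
      apply hnon
      intro a ha b hb
      obtain ⟨k, u₁, hu₁, h1⟩ := exists_zpow_mul_of_coatom hPp hP₀co hzP₀ ⟨a, ha⟩
      obtain ⟨l, u₂, hu₂, h2⟩ := exists_zpow_mul_of_coatom hPp hP₀co hzP₀ ⟨b, hb⟩
      have hzc : ∀ v : P, Commute z v := fun v => (Subgroup.mem_center_iff.1 hz v).symm
      have h3 : Commute (z ^ k) (z ^ l) := (Commute.refl z).zpow_zpow k l
      have h4 : Commute (z ^ k) u₂ := (hzc u₂).zpow_left k
      have h5 : Commute (z ^ l) u₁ := (hzc u₁).zpow_left l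
      have h6 := hP₀ab u₁ hu₁ u₂ hu₂
      have h7 : (⟨a, ha⟩ : P) * ⟨b, hb⟩ = ⟨b, hb⟩ * ⟨a, ha⟩ := by
        rw [h1, h2]
        calc z ^ k * u₁ * (z ^ l * u₂) = z ^ k * (u₁ * z ^ l) * u₂ := by group
          _ = z ^ k * (z ^ l * u₁) * u₂ := by rw [h5.eq]
          _ = (z ^ k * z ^ l) * (u₁ * u₂) := by group
          _ = (z ^ l * z ^ k) * (u₂ * u₁) := by rw [h3.eq, h6]
          _ = z ^ l * (z ^ k * u₂) * u₁ := by group
          _ = z ^ l * (u₂ * z ^ k) * u₁ := by rw [h4.eq]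
          _ = _ := by group
      exact congrArg Subtype.val h7
    have hZc : ∀ c : P, (c : Ω) ∈ S ⊓ Subgroup.centralizer (S : Set Ω) → c ∈ Subgroup.center P := by
      intro c hc
      rw [Subgroup.mem_center_iff]
      intro v
      exact Subtype.ext (Subgroup.mem_centralizer_iff.1 hc.2 v (hPS v.2))
    have hchar : ∀ (δ : MulAut P) (y : P), y ∈ Subgroup.center P → δ y ∈ Subgroup.center P := by
      intro δ y hy
      rw [Subgroup.mem_center_iff] at hy ⊢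
      intro v
      have h3 := hy (δ⁻¹ v)
      calc v * δ y = δ (δ⁻¹ v * y) := by simp
        _ = δ (y * δ⁻¹ v) := by rw [h3]
        _ = _ := by simp
    have hZ₂P : ∀ y ∈ (upperCentralSeries S 2).map S.subtype, y ∈ A → y ∈ P := by
      intro y hy hyA
      have hconj : ∀ y ∈ (upperCentralSeries S 2).map S.subtype, ∀ v ∈ P, y * v * y⁻¹ ∈ P := by
        intro y hy v hv
        obtain ⟨hyS, hc⟩ := mem_zzTwo.1 hy
        have h1 := hZP (hc v (hPS hv))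
        have h2 := P.mul_mem h1 hv
        rwa [inv_mul_cancel_right] at h2
      have hyn : y ∈ Subgroup.normalizer (P : Set Ω) := by
        rw [Subgroup.mem_normalizer_iff]
        intro v
        refine ⟨hconj y hy v, fun h => ?_⟩
        have h1 := hconj _ (Subgroup.inv_mem _ hy) _ h
        have e : y⁻¹ * (y * v * y⁻¹) * y⁻¹⁻¹ = v := by group
        rwa [e] at h1
      obtain ⟨hyS, hc⟩ := mem_zzTwo.1 hy
      by_contra hyP
      apply hgn
      refine mem_extendable_of_chain F hS hF hP (W := Subgroup.center P) (normAct_mem_autInducedBy S P hyn hyS)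
        (normAct_not_mem_inn F hP.1 hyS hyn hyP) (fun w hw => hfix y hyA hyn w (hcen_le hw)) (fun v => ?_) hg
        (fun w hw => hchar g w hw) (fun w hw => hchar g⁻¹ w hw)
      apply hZc
      have h1 := Subgroup.inv_mem _ (hc _ (S.inv_mem (hPS v.2)))
      have e : (y * (v : Ω)⁻¹ * y⁻¹ * (v : Ω)⁻¹⁻¹)⁻¹ = (((v⁻¹ * normAct P hyn v : P)) : Ω) := by
        show _ = (v : Ω)⁻¹ * (y * v * y⁻¹)
        group
      rwa [e] at h1
    have hZ₂A : (upperCentralSeries S 2).map S.subtype ≤ A := by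
      intro w hw
      by_contra hwA
      obtain ⟨hwS, hwc⟩ := mem_zzTwo.1 hw
      have hAZ₂ : ∀ a ∈ A, a ∈ (upperCentralSeries S 2).map S.subtype := by
        intro a ha
        refine hA.mem_zzTwo_of_comm hS hwS hwA ha ?_
        have h1 := (mem_zzTwo.1 (Subgroup.inv_mem _ hw)).2 a (hA.le ha)
        rwa [inv_inv] at h1
      have hAP : A ≤ P := fun a ha => hZ₂P a (hAZ₂ a ha) ha
      have hsub : A.subgroupOf S ≤ P.subgroupOf S := fun v hv => Subgroup.mem_subgroupOf.2 (hAP (Subgroup.mem_subgroupOf.1 hv))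
      rcases hsub.lt_or_eq with h | h
      · have h2 := hA.isCoatom.2 _ h
        exact hlt.ne (le_antisymm hPS (Subgroup.subgroupOf_eq_top.1 h2))
      · apply hPA
        refine le_antisymm (fun v hv => ?_) hAP
        have h3 : (⟨v, hPS hv⟩ : S) ∈ P.subgroupOf S := Subgroup.mem_subgroupOf.2 hv
        rw [← h] at h3
        exact Subgroup.mem_subgroupOf.1 h3
    have hP₀eq : P ⊓ A = (upperCentralSeries S 2).map S.subtype :=
      le_antisymm hP₀Z₂ (fun y hy => ⟨hZ₂P y hy (hZ₂A hy), hZ₂A hy⟩)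
    refine ⟨hZ₂A, hP₀eq, ?_⟩
    have hu₀Z : (u₀ : Ω) ∉ S ⊓ Subgroup.centralizer (S : Set Ω) := by
      intro h
      apply hu₀Q
      have h1 := hcen_le (hchar g⁻¹ u₀ (hZc u₀ h))
      have h2 := hQmem _ h1
      rwa [MulAut.apply_inv_self] at h2
    have hup : ((u₀ : Ω)) ^ p ∈ S ⊓ Subgroup.centralizer (S : Set Ω) := by
      have h1 : u₀ ^ p ∈ W := ⟨P₀.pow_mem hu₀P₀ p, hpowQ u₀⟩
      have h2 := hWc _ h1
      simpa using h2
    refine index_eq_of_gen center_le_zzTwo (u := (u₀ : Ω)) (hP₀Z₂ _ ⟨u₀.2, (hP₀mem _).1 hu₀P₀⟩) hu₀Z hup (fun l hl => ?_)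
    rw [← hP₀eq] at hl
    obtain ⟨k, q, hq, hlq⟩ := exists_zpow_mul_of_coatom hPp hQco hu₀Q ⟨l, hl.1⟩
    have hqP₀ : q ∈ P₀ := by
      have h1 : q = (u₀ ^ k)⁻¹ * ⟨l, hl.1⟩ := by rw [hlq]; group
      rw [h1]
      exact P₀.mul_mem (P₀.inv_mem (P₀.zpow_mem hu₀P₀ k)) ((hP₀mem _).2 hl.2)
    refine ⟨k, q, hWc q ⟨hqP₀, hq⟩, ?_⟩
    have := congrArg Subtype.val hlq
    simpa using this

end main

section cons

open scoped commutatorElement

variable {Ω : Type*} [Group Ω] {S : Subgroup Ω} (F : FusionSystem S) {p : ℕ} [hp : Fact p.Prime] [Finite S]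
  {A : Subgroup Ω}

theorem rel_mul_card {G : Type*} [Group G] {H K : Subgroup G} (h : H ≤ K) : H.relIndex K * Nat.card H = Nat.card K := by
  have h1 := (H.subgroupOf K).index_mul_card
  have h2 : Nat.card (H.subgroupOf K) = Nat.card H := Nat.card_congr (Subgroup.subgroupOfEquivOfLe h).toEquiv
  rw [h2] at h1
  exact h1

theorem conj_mem_of_normalizer {P : Subgroup Ω} {g v : Ω} (hg : g ∈ Subgroup.normalizer (P : Set Ω)) (hv : v ∈ P) : g * v * g⁻¹ ∈ P :=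
  (Subgroup.mem_normalizer_iff.1 hg v).1 hv

/-- **`P` has index `p` in its normalizer in `S`.** -/
theorem index_of_ess (hA : AMax p S A) (hS : IsPGroup p S) (hF : F.IsSaturated p)
    (hna : ¬ ∀ a ∈ S, ∀ b ∈ S, a * b = b * a) {P : Subgroup Ω} (hP : F.IsEssential p P) (hPA : P ≠ A) :
    (P.subgroupOf (S ⊓ Subgroup.normalizer (P : Set Ω))).index = p := by
  obtain ⟨x, hxP, hxA, -, -, ⟨y₁, hy₁A, hy₁n, hy₁P, hy₁p, hy₁g⟩, -, -⟩ := ess_structure F hA hS hF hna hP hPA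
  have hPS : P ≤ S := (IsEssential.lt F hS hF hP).le
  refine index_eq_of_gen (u := y₁) (le_inf hPS Subgroup.le_normalizer) ⟨hA.le hy₁A, hy₁n⟩ hy₁P hy₁p (fun l hl => ?_)
  obtain ⟨k, e, he, rfl⟩ := exists_zpow_mul hS hA.le hA.idx (hPS hxP) hxA l hl.1
  have hxN : x ^ k ∈ Subgroup.normalizer (P : Set Ω) := Subgroup.zpow_mem _ (Subgroup.le_normalizer hxP) k
  have heN : e ∈ Subgroup.normalizer (P : Set Ω) := by
    have := Subgroup.mul_mem _ (Subgroup.inv_mem _ hxN) hl.2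
    simpa using this
  obtain ⟨j, u, hu, rfl⟩ := hy₁g e he heN
  refine ⟨j, y₁ ^ (-j) * x ^ k * y₁ ^ j * u, P.mul_mem ?_ hu.1, by group⟩
  have h1 := conj_mem_of_normalizer (Subgroup.zpow_mem _ hy₁n (-j)) (P.zpow_mem hxP k)
  have e : y₁ ^ (-j) * x ^ k * (y₁ ^ (-j))⁻¹ = y₁ ^ (-j) * x ^ k * y₁ ^ j := by group
  rwa [e] at h1

/-- Elements of `Z₂(S)` normalize `P` if `Z(S) ≤ P ≤ S`. -/
theorem zz_normalizes {P : Subgroup Ω} (hPS : P ≤ S) (hZ : S ⊓ Subgroup.centralizer (S : Set Ω) ≤ P) {e : Ω}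
    (he : e ∈ (upperCentralSeries S 2).map S.subtype) : e ∈ Subgroup.normalizer (P : Set Ω) := by
  have key : ∀ e ∈ (upperCentralSeries S 2).map S.subtype, ∀ v ∈ P, e * v * e⁻¹ ∈ P := by
    intro e he v hv
    have h1 := hZ ((mem_zzTwo.1 he).2 v (hPS hv))
    have h2 := P.mul_mem h1 hv
    have e2 : e * v * e⁻¹ * v⁻¹ * v = e * v * e⁻¹ := by group
    rwa [e2] at h2
  rw [Subgroup.mem_normalizer_iff]
  intro v
  refine ⟨key e he v, fun h => ?_⟩
  have h1 := key _ (Subgroup.inv_mem _ he) _ h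
  have e2 : e⁻¹ * (e * v * e⁻¹) * e⁻¹⁻¹ = v := by group
  rwa [e2] at h1

/-- **`Z₂(S)` lies in `A`.** -/
theorem zz_le (hA : AMax p S A) (hS : IsPGroup p S) (hF : F.IsSaturated p)
    (hna : ¬ ∀ a ∈ S, ∀ b ∈ S, a * b = b * a)
    (huniq : ∀ B : Subgroup Ω, B ≤ S → (∀ a ∈ B, ∀ b ∈ B, a * b = b * a) → (B.subgroupOf S).index = p → B = A)
    {P : Subgroup Ω} (hP : F.IsEssential p P) (hPA : P ≠ A) :
    (upperCentralSeries S 2).map S.subtype ≤ A := by
  obtain ⟨x, hxP, hxA, hdec, hZ, ⟨y₁, hy₁A, hy₁n, hy₁P, hy₁p, hy₁g⟩, hab, hnab⟩ := ess_structure F hA hS hF hna hP hPA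
  have hPS : P ≤ S := (IsEssential.lt F hS hF hP).le
  by_cases hPab : ∀ a ∈ P, ∀ b ∈ P, a * b = b * a
  · intro w hw
    by_contra hwA
    have hwS := (mem_zzTwo.1 hw).1
    have hAZ : ∀ a ∈ A, a ∈ (upperCentralSeries S 2).map S.subtype := by
      intro a ha
      refine hA.mem_zzTwo_of_comm hS hwS hwA ha ?_
      have h1 := (mem_zzTwo.1 (Subgroup.inv_mem _ hw)).2 a (hA.le ha)
      rwa [inv_inv] at h1
    have hN : S ⊓ Subgroup.normalizer (P : Set Ω) = S := by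
      refine inf_eq_left.2 fun s hs => ?_
      obtain ⟨k, e, he, rfl⟩ := exists_zpow_mul hS hA.le hA.idx (hPS hxP) hxA s hs
      exact Subgroup.mul_mem _ (Subgroup.zpow_mem _ (Subgroup.le_normalizer hxP) k)
        (zz_normalizes hPS (hZ.trans inf_le_left) (hAZ e he))
    have hidx := index_of_ess F hA hS hF hna hP hPA
    rw [hN] at hidx
    exact hPA (huniq P hPS hPab hidx)
  · exact (hnab hPab).1

/-- **`Z(S)` has index `p` in `Z₂(S)`.** -/
theorem zz_index (hA : AMax p S A) (hS : IsPGroup p S) (hF : F.IsSaturated p)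
    (hna : ¬ ∀ a ∈ S, ∀ b ∈ S, a * b = b * a)
    (huniq : ∀ B : Subgroup Ω, B ≤ S → (∀ a ∈ B, ∀ b ∈ B, a * b = b * a) → (B.subgroupOf S).index = p → B = A)
    {P : Subgroup Ω} (hP : F.IsEssential p P) (hPA : P ≠ A) :
    ((S ⊓ Subgroup.centralizer (S : Set Ω)).subgroupOf ((upperCentralSeries S 2).map S.subtype)).index = p := by
  obtain ⟨x, hxP, hxA, hdec, hZ, ⟨y₁, hy₁A, hy₁n, hy₁P, hy₁p, hy₁g⟩, hab, hnab⟩ := ess_structure F hA hS hF hna hP hPA
  have hPS : P ≤ S := (IsEssential.lt F hS hF hP).le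
  by_cases hPab : ∀ a ∈ P, ∀ b ∈ P, a * b = b * a
  · have hPZ := hab hPab
    have hZ2A := zz_le F hA hS hF hna huniq hP hPA
    refine index_eq_of_gen center_le_zzTwo (u := y₁) ?_ ?_ ?_ ?_
    · refine hA.mem_zzTwo_of_comm hS (hPS hxP) hxA hy₁A ?_
      rw [← hPZ]
      refine ⟨?_, (hA.psi hS (hPS hxP) ⟨y₁, hy₁A⟩).2⟩
      have h1 := conj_mem_of_normalizer hy₁n hxP
      have h2 := P.mul_mem (P.inv_mem hxP) h1
      have e : x⁻¹ * (y₁ * x * y₁⁻¹) = x⁻¹ * y₁ * x * y₁⁻¹ := by group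
      rwa [e] at h2
    · intro h
      exact hy₁P (hPZ.ge h).1
    · rw [← hPZ]
      exact ⟨hy₁p, A.pow_mem hy₁A p⟩
    · intro l hl
      obtain ⟨k, u, hu, e⟩ := hy₁g l (hZ2A hl) (zz_normalizes hPS (hZ.trans inf_le_left) hl)
      exact ⟨k, u, hPZ.le hu, e⟩
  · exact (hnab hPab).2.2

/-- The kernel of the commutator map. -/
theorem AMax.mem_ker_psi (hA : AMax p S A) (hS : IsPGroup p S) {x : Ω} (hxS : x ∈ S) (hxA : x ∉ A) (y : A) :
    y ∈ (hA.psi hS hxS).ker ↔ (y : Ω) ∈ S ⊓ Subgroup.centralizer (S : Set Ω) := by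
  rw [MonoidHom.mem_ker]
  constructor
  · intro h
    have h1 : x⁻¹ * y * x * (y : Ω)⁻¹ = 1 := congrArg Subtype.val h
    refine hA.center_of_comm hS hxS hxA y.2 ?_
    have h2 : x⁻¹ * y * x = y := by
      have := mul_eq_one_iff_eq_inv.1 h1
      rwa [inv_inv] at this
    calc x * y = x * (x⁻¹ * y * x) := by rw [h2]
      _ = y * x := by group
  · intro h
    apply Subtype.ext
    show x⁻¹ * y * x * (y : Ω)⁻¹ = 1
    have h1 := Subgroup.mem_centralizer_iff.1 h.2 x hxS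
    have h2 : x⁻¹ * y * x = y := by
      have e : x⁻¹ * y * x = x⁻¹ * (y * x) := by group
      rw [e, ← h1]
      group
    rw [h2]
    group

/-- `S' = ψ(A)`. -/
theorem AMax.commutator_eq (hA : AMax p S A) (hS : IsPGroup p S) {x : Ω} (hxS : x ∈ S) (hxA : x ∉ A) :
    (commutator S).map S.subtype = (hA.psi hS hxS).range.map A.subtype := by
  classical
  let ψ := hA.psi hS hxS
  let R : Subgroup Ω := ψ.range.map A.subtype
  have hRA : R ≤ A := by
    rintro _ ⟨y, -, rfl⟩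
    exact y.2
  have hxact : ∀ (y : A), x * (ψ y : Ω) * x⁻¹ ∈ R := by
    intro y
    have h1 := hA.conj_mem hS hxS y.2
    refine ⟨ψ ⟨_, h1⟩, ⟨_, rfl⟩, ?_⟩
    show x⁻¹ * (x * y * x⁻¹) * x * (x * y * x⁻¹)⁻¹ = x * (x⁻¹ * y * x * (y : Ω)⁻¹) * x⁻¹
    group
  let R' : Subgroup S := R.subgroupOf S
  have hxN : (⟨x, hxS⟩ : S) ∈ Subgroup.normalizer (R' : Set S) := by
    apply Cfsg.Agent.Lib.FusionExt.NormalSubgroup.mem_normalizer_of_conj_le
    rintro ⟨v, hv⟩ hvR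
    obtain ⟨_, ⟨y, rfl⟩, rfl⟩ := Subgroup.mem_subgroupOf.1 hvR
    exact Subgroup.mem_subgroupOf.2 (hxact y)
  have heN : ∀ (e : Ω) (he : e ∈ A), (⟨e, hA.le he⟩ : S) ∈ Subgroup.normalizer (R' : Set S) := by
    intro e he
    apply Cfsg.Agent.Lib.FusionExt.NormalSubgroup.mem_normalizer_of_conj_le
    rintro ⟨v, hv⟩ hvR
    have hvR' : v ∈ R := Subgroup.mem_subgroupOf.1 hvR
    refine Subgroup.mem_subgroupOf.2 ?_
    show e * v * e⁻¹ ∈ R
    rw [hA.ab e he v (hRA hvR')]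
    have e2 : v * e * e⁻¹ = v := by group
    rwa [e2]
  have hnorm : R'.Normal := ⟨fun n hn g => by
    obtain ⟨k, e, he, hg⟩ := exists_zpow_mul hS hA.le hA.idx hxS hxA g g.2
    have h2 : g ∈ Subgroup.normalizer (R' : Set S) := by
      have e3 : g = (⟨x, hxS⟩ : S) ^ k * ⟨e, hA.le he⟩ := Subtype.ext (by simpa using hg)
      rw [e3]
      exact Subgroup.mul_mem _ (Subgroup.zpow_mem _ hxN k) (heN e he)
    exact (Subgroup.mem_normalizer_iff.1 h2 n).1 hn⟩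
  let π := QuotientGroup.mk' R'
  have h1 : ∀ (e : Ω) (he : e ∈ A), Commute (π ⟨x, hxS⟩) (π ⟨e, hA.le he⟩) := by
    intro e he
    have hm : (⟨x, hxS⟩ : S)⁻¹ * ⟨e, hA.le he⟩ * ⟨x, hxS⟩ * (⟨e, hA.le he⟩ : S)⁻¹ ∈ R' :=
      Subgroup.mem_subgroupOf.2 ⟨ψ ⟨e, he⟩, ⟨_, rfl⟩, rfl⟩
    have h2 := (QuotientGroup.eq_one_iff _).2 hm
    have h2' : π ((⟨x, hxS⟩ : S)⁻¹ * ⟨e, hA.le he⟩ * ⟨x, hxS⟩ * (⟨e, hA.le he⟩ : S)⁻¹) = 1 := h2
    rw [map_mul, map_mul, map_mul, map_inv, map_inv] at h2'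
    have h3 := mul_eq_one_iff_eq_inv.1 h2'
    rw [inv_inv] at h3
    show π ⟨x, hxS⟩ * π ⟨e, hA.le he⟩ = π ⟨e, hA.le he⟩ * π ⟨x, hxS⟩
    calc π ⟨x, hxS⟩ * π ⟨e, hA.le he⟩ = π ⟨x, hxS⟩ * ((π ⟨x, hxS⟩)⁻¹ * π ⟨e, hA.le he⟩ * π ⟨x, hxS⟩) := by rw [h3]
      _ = _ := by group
  have h2 : ∀ (e f : Ω) (he : e ∈ A) (hf : f ∈ A), Commute (π ⟨e, hA.le he⟩) (π ⟨f, hA.le hf⟩) := by
    intro e f he hf
    show π ⟨e, hA.le he⟩ * π ⟨f, hA.le hf⟩ = π ⟨f, hA.le hf⟩ * π ⟨e, hA.le he⟩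
    rw [← map_mul, ← map_mul]
    congr 1
    exact Subtype.ext (hA.ab e he f hf)
  have hle : commutator S ≤ R' := by
    rw [commutator_def, Subgroup.commutator_le]
    intro s _ t _
    obtain ⟨k, e, he, hse⟩ := exists_zpow_mul hS hA.le hA.idx hxS hxA s s.2
    obtain ⟨l, f, hf, htf⟩ := exists_zpow_mul hS hA.le hA.idx hxS hxA t t.2
    have e1 : s = (⟨x, hxS⟩ : S) ^ k * ⟨e, hA.le he⟩ := Subtype.ext (by simpa using hse)
    have e2 : t = (⟨x, hxS⟩ : S) ^ l * ⟨f, hA.le hf⟩ := Subtype.ext (by simpa using htf)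
    have hc : Commute (π s) (π t) := by
      rw [e1, e2, map_mul, map_mul, map_zpow, map_zpow]
      refine Commute.mul_left (Commute.mul_right ((Commute.refl _).zpow_zpow k l) ((h1 f hf).zpow_left k)) (Commute.mul_right ((h1 e he).symm.zpow_right l) (h2 e f he hf))
    have h3 : π ⁅s, t⁆ = 1 := by
      rw [map_commutatorElement]
      exact commutatorElement_eq_one_iff_commute.2 hc
    exact (QuotientGroup.eq_one_iff _).1 h3
  apply le_antisymm
  · exact Subgroup.map_le_iff_le_comap.2 hle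
  · rintro _ ⟨_, ⟨y, rfl⟩, rfl⟩
    refine ⟨⁅(⟨x⁻¹, S.inv_mem hxS⟩ : S), (⟨y, hA.le y.2⟩ : S)⁆, ?_, ?_⟩
    · rw [commutator_def]
      exact Subgroup.commutator_mem_commutator trivial trivial
    · show x⁻¹ * y * x⁻¹⁻¹ * (y : Ω)⁻¹ = x⁻¹ * y * x * (y : Ω)⁻¹
      rw [inv_inv]

/-- `|Z(S) ∩ S'| = |Z₂(S) : Z(S)|`. -/
theorem AMax.card_inf_commutator (hA : AMax p S A) (hS : IsPGroup p S) {x : Ω} (hxS : x ∈ S) (hxA : x ∉ A)
    (hZ2 : (upperCentralSeries S 2).map S.subtype ≤ A) :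
    Nat.card ↥((S ⊓ Subgroup.centralizer (S : Set Ω)) ⊓ ((commutator S).map S.subtype)) =
      ((S ⊓ Subgroup.centralizer (S : Set Ω)).subgroupOf ((upperCentralSeries S 2).map S.subtype)).index := by
  let ψ := hA.psi hS hxS
  let f : ↥((upperCentralSeries S 2).map S.subtype) →* Ω := A.subtype.comp (ψ.comp (Subgroup.inclusion hZ2))
  have hk : f.ker = (S ⊓ Subgroup.centralizer (S : Set Ω)).subgroupOf ((upperCentralSeries S 2).map S.subtype) := by
    ext y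
    rw [MonoidHom.mem_ker, Subgroup.mem_subgroupOf]
    have h1 := hA.mem_ker_psi hS hxS hxA (Subgroup.inclusion hZ2 y)
    rw [MonoidHom.mem_ker] at h1
    rw [← show _ ↔ (y : Ω) ∈ S ⊓ Subgroup.centralizer (S : Set Ω) from h1]
    constructor
    · intro h
      exact Subtype.ext h
    · intro h
      exact congrArg Subtype.val h
  have hr : f.range = (S ⊓ Subgroup.centralizer (S : Set Ω)) ⊓ ((commutator S).map S.subtype) := by
    rw [hA.commutator_eq hS hxS hxA]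
    ext v
    constructor
    · rintro ⟨y, rfl⟩
      refine ⟨(mem_zzTwo.1 (Subgroup.inv_mem _ y.2)).2 _ hxS |> fun h => ?_, ⟨ψ (Subgroup.inclusion hZ2 y), ⟨_, rfl⟩, rfl⟩⟩
      show x⁻¹ * y * x * (y : Ω)⁻¹ ∈ S ⊓ Subgroup.centralizer (S : Set Ω)
      have h2 := (mem_zzTwo.1 y.2).2 _ (S.inv_mem hxS)
      have h3 : (y : Ω) * x⁻¹ * (y : Ω)⁻¹ * x⁻¹⁻¹ ∈ S ⊓ Subgroup.centralizer (S : Set Ω) := h2
      have h4 := Subgroup.inv_mem _ h3
      have e : ((y : Ω) * x⁻¹ * (y : Ω)⁻¹ * x⁻¹⁻¹)⁻¹ = x⁻¹ * y * x * (y : Ω)⁻¹ := by group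
      rwa [e] at h4
    · rintro ⟨h1, _, ⟨y, rfl⟩, rfl⟩
      have hy : (y : Ω) ∈ (upperCentralSeries S 2).map S.subtype := hA.mem_zzTwo_of_comm hS hxS hxA y.2 h1
      refine ⟨⟨y, hy⟩, rfl⟩
  rw [← hr, ← hk]
  exact (Subgroup.index_ker f).symm

/-- `|A : Z(S) S'| = |Z(S) ∩ S'|`. -/
theorem AMax.index_sup (hA : AMax p S A) (hS : IsPGroup p S) {x : Ω} (hxS : x ∈ S) (hxA : x ∉ A)
    (hZA : S ⊓ Subgroup.centralizer (S : Set Ω) ≤ A) :
    (((S ⊓ Subgroup.centralizer (S : Set Ω)) ⊔ ((commutator S).map S.subtype)).subgroupOf A).index =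
      Nat.card ↥((S ⊓ Subgroup.centralizer (S : Set Ω)) ⊓ ((commutator S).map S.subtype)) := by
  classical
  let ψ := hA.psi hS hxS
  have hfinA : Finite A := finite_of_le hA.le
  let Z' := S ⊓ Subgroup.centralizer (S : Set Ω)
  have hS'eq := hA.commutator_eq hS hxS hxA
  have hS'A : (commutator S).map S.subtype ≤ A := by
    rw [hS'eq]
    rintro _ ⟨y, -, rfl⟩
    exact y.2
  let Zz : Subgroup A := Z'.subgroupOf A
  let D : Subgroup A := ((commutator S).map S.subtype).subgroupOf A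
  have hnormal : ∀ H : Subgroup A, H.Normal := fun H => ⟨fun n hn g => by
    have e : g * n * g⁻¹ = n := by
      apply Subtype.ext
      show (g : Ω) * n * (g : Ω)⁻¹ = n
      rw [hA.ab g g.2 n n.2]
      group
    rwa [e]⟩
  have hker : ψ.ker = Zz := by
    ext y
    rw [hA.mem_ker_psi hS hxS hxA y, Subgroup.mem_subgroupOf]
  have hrange : ψ.range = D := by
    ext y
    rw [Subgroup.mem_subgroupOf, hS'eq]
    constructor
    · intro h
      exact ⟨y, h, rfl⟩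
    · rintro ⟨y', hy', e⟩
      have : y' = y := Subtype.ext e
      rwa [← this]
  have hT : ((Z' ⊔ ((commutator S).map S.subtype)).subgroupOf A) = D ⊔ Zz := by
    rw [Subgroup.subgroupOf_sup hZA hS'A, sup_comm]
  have hinf : Nat.card ↥(Z' ⊓ ((commutator S).map S.subtype)) = Nat.card ↥(Zz ⊓ D) := by
    have hle : Z' ⊓ ((commutator S).map S.subtype) ≤ A := inf_le_left.trans hZA
    have e : Zz ⊓ D = (Z' ⊓ ((commutator S).map S.subtype)).subgroupOf A := by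
      ext y
      simp [Zz, D, Subgroup.mem_subgroupOf]
    rw [e]
    exact Nat.card_congr (Subgroup.subgroupOfEquivOfLe hle).toEquiv.symm
  show ((Z' ⊔ ((commutator S).map S.subtype)).subgroupOf A).index = Nat.card ↥(Z' ⊓ ((commutator S).map S.subtype))
  rw [hT, hinf]
  haveI := hnormal Zz
  have c1 : Nat.card ψ.ker * ψ.ker.index = Nat.card A := ψ.ker.card_mul_index
  rw [Subgroup.index_ker, hker, hrange] at c1
  have c2 : Nat.card ↥(D ⊔ Zz) * (D ⊔ Zz).index = Nat.card A := (D ⊔ Zz).card_mul_index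
  have c3 : Zz.relIndex (D ⊔ Zz) * Nat.card Zz = Nat.card ↥(D ⊔ Zz) := rel_mul_card le_sup_right
  rw [Subgroup.relIndex_sup_right] at c3
  have c4 : (Zz ⊓ D).relIndex D * Nat.card ↥(Zz ⊓ D) = Nat.card D := rel_mul_card inf_le_right
  rw [Subgroup.inf_relIndex_right] at c4
  have hpos : 0 < Nat.card ↥(D ⊔ Zz) := Nat.card_pos
  apply Nat.eq_of_mul_eq_mul_left hpos
  rw [c2, ← c1, ← c3, ← c4]
  ring

/-- Iterated images. -/
noncomputable def iterImg {A : Subgroup Ω} (ψ : A →* A) : ℕ → Subgroup A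
  | 0 => ⊤
  | (i + 1) => (iterImg ψ i).map ψ

theorem iterImg_succ_le {A : Subgroup Ω} (ψ : A →* A) (i : ℕ) : iterImg ψ (i + 1) ≤ iterImg ψ i := by
  induction i with
  | zero => exact le_top
  | succ n ih => exact Subgroup.map_mono ih

theorem iterImg_le_one {A : Subgroup Ω} (ψ : A →* A) (i : ℕ) : iterImg ψ (i + 1) ≤ iterImg ψ 1 := by
  induction i with
  | zero => exact le_rfl
  | succ n ih => exact (iterImg_succ_le ψ (n + 1)).trans ih

theorem card_le_of_ker {G : Type*} [Group G] [Finite G] (ψ : G →* G) {q : ℕ} {B : Subgroup G}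
    (hq : Nat.card ↥(ψ.ker ⊓ B) ≤ q) {H : Subgroup G} (hH : H ≤ B) :
    Nat.card H ≤ q * Nat.card (H.map ψ) := by
  let f : H →* G := ψ.comp H.subtype
  have h1 : f.range = H.map ψ := by
    rw [MonoidHom.range_comp, Subgroup.range_subtype]
  have h2 := f.ker.card_mul_index
  rw [Subgroup.index_ker, h1] at h2
  rw [← h2]
  refine Nat.mul_le_mul_right _ (le_trans ?_ hq)
  let g : f.ker → ↥(ψ.ker ⊓ B) := fun v => ⟨v.1.1, MonoidHom.mem_ker.2 (MonoidHom.mem_ker.1 v.2), hH v.1.2⟩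
  refine Nat.card_le_card_of_injective g ?_
  intro a b hab
  have : ((g a : G)) = g b := congrArg Subtype.val hab
  exact Subtype.ext (Subtype.ext this)

theorem card_iter {G : Type*} [Group G] [Finite G] (ψ : G →* G) {q : ℕ} (B : ℕ → Subgroup G)
    (hstep : ∀ i, B (i + 1) = (B i).map ψ) (hle : ∀ i, B (i + 1) ≤ B 1)
    (hq : Nat.card ↥(ψ.ker ⊓ B 1) ≤ q) (i : ℕ) : Nat.card (B 1) ≤ q ^ i * Nat.card (B (i + 1)) := by
  induction i with
  | zero => simp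
  | succ n ih =>
    refine ih.trans ?_
    have h1 := card_le_of_ker ψ hq (hle n)
    rw [← hstep] at h1
    calc q ^ n * Nat.card (B (n + 1)) ≤ q ^ n * (q * Nat.card (B (n + 1 + 1))) := Nat.mul_le_mul_left _ h1
      _ = _ := by ring

theorem AMax.iter_le_lcs (hA : AMax p S A) (hS : IsPGroup p S) {x : Ω} (hxS : x ∈ S) (i : ℕ) :
    (iterImg (hA.psi hS hxS) i).map A.subtype ≤ S.lowerCentralSeries i := by
  induction i with
  | zero =>
    rintro _ ⟨y, -, rfl⟩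
    exact hA.le y.2
  | succ n ih =>
    rintro _ ⟨_, ⟨y, hy, rfl⟩, rfl⟩
    have h1 : (y : Ω) ∈ S.lowerCentralSeries n := ih ⟨y, hy, rfl⟩
    have h2 : ⁅(y : Ω), x⁻¹⁆ ∈ S.lowerCentralSeries (n + 1) :=
      Subgroup.commutator_mem_commutator h1 (S.inv_mem hxS)
    have h3 := Subgroup.inv_mem _ h2
    have e : (⁅(y : Ω), x⁻¹⁆)⁻¹ = x⁻¹ * y * x * (y : Ω)⁻¹ := by
      rw [commutatorElement_inv, commutatorElement_def, inv_inv]
    rwa [e] at h3

/-- **`S/Z(S)` has maximal class.** -/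
theorem AMax.max_class (hA : AMax p S A) (hS : IsPGroup p S) {x : Ω} (hxS : x ∈ S) (hxA : x ∉ A)
    (hZA : S ⊓ Subgroup.centralizer (S : Set Ω) ≤ A)
    (hcard : Nat.card ↥((S ⊓ Subgroup.centralizer (S : Set Ω)) ⊓ ((commutator S).map S.subtype)) = p)
    (m : ℕ) (hm : ((S ⊓ Subgroup.centralizer (S : Set Ω)).subgroupOf S).index = p ^ m) (hm3 : 3 ≤ m) :
    ¬ S.lowerCentralSeries (m - 2) ≤ (S ⊓ Subgroup.centralizer (S : Set Ω)) := by
  classical
  intro hlcs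
  obtain ⟨n, rfl⟩ : ∃ n, m = n + 3 := ⟨m - 3, by omega⟩
  have e2 : n + 3 - 2 = n + 1 := by omega
  rw [e2] at hlcs
  let ψ := hA.psi hS hxS
  have hfinA : Finite A := finite_of_le hA.le
  have hpp := hp.out
  have hstep : ∀ i, iterImg ψ (i + 1) = (iterImg ψ i).map ψ := fun i => rfl
  have hS'eq := hA.commutator_eq hS hxS hxA
  have hone : iterImg ψ 1 = ψ.range := by
    show (⊤ : Subgroup A).map ψ = ψ.range
    rw [MonoidHom.range_eq_map]
  have hinf : Nat.card ↥(ψ.ker ⊓ iterImg ψ 1) ≤ p := by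
    rw [← hcard, hS'eq, hone]
    let g : ↥(ψ.ker ⊓ ψ.range) → ↥((S ⊓ Subgroup.centralizer (S : Set Ω)) ⊓ (ψ.range.map A.subtype)) :=
      fun v => ⟨v.1, (hA.mem_ker_psi hS hxS hxA v.1).1 v.2.1, ⟨v.1, v.2.2, rfl⟩⟩
    haveI : Finite ↥((S ⊓ Subgroup.centralizer (S : Set Ω)) ⊓ (ψ.range.map A.subtype)) := finite_of_le (inf_le_left.trans inf_le_left)
    refine Nat.card_le_card_of_injective g ?_
    intro a b hab
    have : ((g a : Ω)) = g b := congrArg Subtype.val hab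
    exact Subtype.ext (Subtype.ext this)
  have hmain := card_iter ψ (iterImg ψ) hstep (iterImg_le_one ψ) hinf (n + 1)
  have hbot : iterImg ψ (n + 1 + 1) = ⊥ := by
    rw [hstep, Subgroup.map_eq_bot_iff, show (ψ.ker) = _ from rfl]
    intro y hy
    have h1 := hlcs (hA.iter_le_lcs hS hxS (n + 1) ⟨y, hy, rfl⟩)
    exact (hA.mem_ker_psi hS hxS hxA y).2 h1
  rw [hbot, Subgroup.card_bot, mul_one, hone, ← Subgroup.index_ker] at hmain
  have hker : ψ.ker = (S ⊓ Subgroup.centralizer (S : Set Ω)).subgroupOf A := by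
    ext y
    rw [hA.mem_ker_psi hS hxS hxA y, Subgroup.mem_subgroupOf]
  rw [hker] at hmain
  have hrel : (S ⊓ Subgroup.centralizer (S : Set Ω)).relIndex A * A.relIndex S =
      (S ⊓ Subgroup.centralizer (S : Set Ω)).relIndex S := Subgroup.relIndex_mul_relIndex _ _ _ hZA hA.le
  have h3 : ((S ⊓ Subgroup.centralizer (S : Set Ω)).subgroupOf A).index * p = p ^ (n + 3) := by
    have h4 : A.relIndex S = p := hA.idx
    have h5 : (S ⊓ Subgroup.centralizer (S : Set Ω)).relIndex S = p ^ (n + 3) := hm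
    rw [h4, h5] at hrel
    exact hrel
  have h6 : p ^ (n + 3) ≤ p ^ (n + 1) * p := by
    rw [← h3]
    exact Nat.mul_le_mul_right _ hmain
  have h7 : p ^ (n + 1) * p = p ^ (n + 2) := by ring
  rw [h7] at h6
  have h8 := (Nat.pow_le_pow_iff_right hpp.one_lt).1 h6
  omega

end cons

end Cfsg.Agent.Lib.FusionTheory.AbelianMaximal
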