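import Cfsg.Agent.Lib.FusionTheory.GT
import Cfsg.Agent.Lib.PLocal.ThompsonComplement
import Cfsg.Agent.Lib.FusionExt.Realized
import Cfsg.Agent.Lib.Core.Residual

/-!
# An axiomatic Glauberman--Thompson criterion

A family `𝒜` of abelian subgroups of a Sylow `p`-subgroup with an invariance condition on the
intersections of its members and a replacement condition, `p` odd.
-/

set_option autoImplicit false
set_option linter.unusedSectionVars false
set_option linter.unusedVariables false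

namespace Cfsg.Agent.Lib.FusionTheory.AxiomGT

open Subgroup Cfsg
open scoped commutatorElement
open Cfsg.Agent.Lib.PLocal.ZJ Cfsg.Agent.Lib.PLocal.Stability Cfsg.Agent.Lib.Core.Basic
  Cfsg.Agent.Lib.Transfer.Basic Cfsg.Agent.Lib.PLocal.ThompsonReduction

universe u v

section group

variable {Ω : Type v} [Group Ω] {T : Subgroup Ω} {p : ℕ} [Fact p.Prime] {X : Type u} [Group X]

/-- The invariance condition, seen in a group receiving `T`. -/
def InvCond (𝒜 : Set (Subgroup Ω)) (τ : T →* X) : Prop :=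
  ∀ D : Subgroup Ω, ∀ hD : D ≤ T, (∃ A ∈ 𝒜, A ≤ D) → ∀ g : X,
    (∀ d : D, ∃ d' : D, g * τ ⟨d, hD d.2⟩ * g⁻¹ = τ ⟨d', hD d'.2⟩) →
    ∀ d d' : D, (∀ A ∈ 𝒜, A ≤ D → (d : Ω) ∈ A) → g * τ ⟨d, hD d.2⟩ * g⁻¹ = τ ⟨d', hD d'.2⟩ →
      ∀ A ∈ 𝒜, A ≤ D → (d' : Ω) ∈ A

/-- The replacement condition. -/
def RepCond (𝒜 : Set (Subgroup Ω)) (T : Subgroup Ω) : Prop :=
  ∀ B : Subgroup Ω, B ≤ T → ⁅⁅B, B⁆, B⁆ = ⊥ → (∃ A ∈ 𝒜, ⁅B, B⁆ ≤ A ∧ ¬ B ≤ A) →
    ∃ A ∈ 𝒜, ⁅B, B⁆ ≤ A ∧ ¬ B ≤ A ∧ B ≤ normalizer (A : Set Ω)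

/-- The image in `X` of a subgroup of `Ω`. -/
def img (τ : T →* X) (A : Subgroup Ω) : Subgroup X := (A.subgroupOf T).map τ

theorem mem_img {τ : T →* X} (hτ : Function.Injective τ) {A : Subgroup Ω} {t : T} :
    τ t ∈ img τ A ↔ (t : Ω) ∈ A := by
  constructor
  · rintro ⟨s, hs, hst⟩
    rw [← hτ hst]
    exact hs
  · intro h
    exact ⟨t, h, rfl⟩

theorem mem_I {𝒜 : Set (Subgroup Ω)} {x : Ω} : x ∈ ⨅ A ∈ 𝒜, A ↔ ∀ A ∈ 𝒜, x ∈ A := by
  simp only [Subgroup.mem_iInf]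

theorem normalizer_img_of_inv [Finite X] {𝒜 : Set (Subgroup Ω)} {τ : T →* X} (hτ : Function.Injective τ)
    (h𝒜 : ∀ A ∈ 𝒜, A ≤ T) (hne : 𝒜.Nonempty) (hinv : InvCond 𝒜 τ) {t : T} :
    τ t ∈ normalizer (img τ (⨅ A ∈ 𝒜, A) : Set X) := by
  refine Cfsg.Agent.Lib.FusionExt.NormalSubgroup.mem_normalizer_of_conj_le ?_
  rintro _ ⟨z, hz, rfl⟩
  have he : ∀ d : T, τ t * τ d * (τ t)⁻¹ = τ (t * d * t⁻¹) := fun d => by
    rw [map_mul, map_mul, map_inv]
  refine ⟨t * z * t⁻¹, ?_, (he z).symm⟩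
  have hz' : (z : Ω) ∈ ⨅ A ∈ 𝒜, A := hz
  obtain ⟨A₀, hA₀⟩ := hne
  have h := hinv T le_rfl ⟨A₀, hA₀, h𝒜 A₀ hA₀⟩ (τ t) (fun d => ⟨t * d * t⁻¹, he d⟩) z (t * z * t⁻¹)
    (fun A hA _ => mem_I.1 hz' A hA) (he z)
  show ((t * z * t⁻¹ : T) : Ω) ∈ ⨅ A ∈ 𝒜, A
  exact mem_I.2 fun A hA => h A hA (h𝒜 A hA)

/-- The key group-theoretic step. -/
theorem normal_img [Finite X] (hp : p ≠ 2) {P : Sylow p X} {Q₀ : Subgroup X} (hr : Reduced p X P Q₀) (τ : T →* X)
    (hτ : Function.Injective τ) (hP : (P : Subgroup X) = τ.range) (𝒜 : Set (Subgroup Ω))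
    (h𝒜 : ∀ A ∈ 𝒜, A ≤ T ∧ ∀ a ∈ A, ∀ b ∈ A, a * b = b * a) (hne : 𝒜.Nonempty) (hinv : InvCond 𝒜 τ)
    (hrep : RepCond 𝒜 T) : (img τ (⨅ A ∈ 𝒜, A)).Normal := by
  classical
  have hpp : p.Prime := Fact.out
  set Zz : Subgroup X := img τ (⨅ A ∈ 𝒜, A) with hZz
  have hmemZ : ∀ t : T, τ t ∈ Zz ↔ ∀ A ∈ 𝒜, (t : Ω) ∈ A := by
    intro t
    rw [hZz, mem_img hτ, mem_I]
  set N : Subgroup X := Zz.normalCore with hN
  have hNZ : N ≤ Zz := normalCore_le _
  have hNn : N.Normal := normalCore_normal _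
  have hrange : ∀ x ∈ (P : Subgroup X), ∃ t : T, τ t = x := by
    intro x hx
    rw [hP] at hx
    exact hx
  have hZS : Zz ≤ (P : Subgroup X) := by
    rintro _ ⟨t, -, rfl⟩
    rw [hP]
    exact ⟨t, rfl⟩
  obtain ⟨A₀, hA₀⟩ := hne
  have hZc : ∀ a ∈ Zz, ∀ b ∈ Zz, a * b = b * a := by
    rintro _ ⟨s, hs, rfl⟩ _ ⟨t, ht, rfl⟩
    have h1 := (hmemZ s).1 ⟨s, hs, rfl⟩ A₀ hA₀
    have h2 := (hmemZ t).1 ⟨t, ht, rfl⟩ A₀ hA₀
    rw [← map_mul, ← map_mul]
    congr 1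
    exact Subtype.ext ((h𝒜 A₀ hA₀).2 _ h1 _ h2)
  set Q : Subgroup X := pCore p X with hQ
  have hQP : Q ≤ (P : Subgroup X) := pCore_le_sylow P
  have hQp : IsPGroup p Q := pCore_isPGroup
  have hQn : Q.Normal := inferInstance
  by_contra hnormal
  have hNlt : N < Zz := by
    refine lt_of_le_of_ne hNZ ?_
    intro heq
    apply hnormal
    rw [← heq]
    exact normalCore_normal _
  have hSZ : (P : Subgroup X) ≤ normalizer (Zz : Set X) := by
    intro s hs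
    obtain ⟨t, rfl⟩ := hrange s hs
    exact normalizer_img_of_inv hτ (fun A hA => (h𝒜 A hA).1) ⟨A₀, hA₀⟩ hinv
  obtain ⟨y, hyZ, hyN, hyK⟩ := exists_central_mod (p := p) (P : Subgroup X) P.isPGroup' N Zz hSZ hZS hNlt
  have hyS : y ∈ (P : Subgroup X) := hZS hyZ
  have hst : ∀ (R : Subgroup X) [R.Normal], R ≤ Q → ∀ a ∈ (P : Subgroup X),
      ⁅⁅R, zpowers a⁆, zpowers a⁆ = ⊥ →
        (QuotientGroup.mk a : X ⧸ centralizer (R : Set X)) ∈
          pCore p (X ⧸ centralizer (R : Set X)) :=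
    fun R _ hRU a ha hq =>
      stable_of_abelian_complement hp hr.comm hr.coprime hr.normal hr.quot P R hRU a ha hq
  have hyKQ : y ∈ sectionKernel Q N := by
    rw [mem_sectionKernel_iff] at hyK ⊢
    exact fun x hx => hyK x (hQP hx)
  -- `y ∈ Q`
  have hyQ : y ∈ Q := by
    have h0 : ⁅⁅Q, zpowers y⁆, zpowers y⁆ = ⊥ := by
      have h1 : ⁅Q, zpowers y⁆ ≤ N := by
        rw [commutator_le]
        intro q hq t ht
        have htK : t ∈ sectionKernel Q N := (zpowers_le.2 hyKQ) ht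
        rw [mem_sectionKernel_iff] at htK
        rw [← commutatorElement_inv]
        exact inv_mem (htK q hq)
      rw [eq_bot_iff, commutator_le]
      intro x hx t ht
      obtain ⟨k, rfl⟩ := mem_zpowers_iff.1 ht
      rw [mem_bot, commutatorElement_eq_one_iff_mul_comm]
      exact ((show Commute x y from hZc _ (hNZ (h1 hx)) _ hyZ).zpow_right k).eq
    have h1 := hst Q le_rfl y hyS h0
    obtain ⟨D, hD, hyD, hDp⟩ := exists_D_of_mem_pCore h1
    have hDq : IsPGroup p D := by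
      rintro ⟨x, hx⟩
      obtain ⟨n, hn⟩ := hDp x hx
      have h3 : x ^ p ^ n ∈ Q := hr.constr hn
      obtain ⟨m, hm⟩ := hQp ⟨_, h3⟩
      have h4 : (x ^ p ^ n) ^ p ^ m = 1 := congrArg Subtype.val hm
      refine ⟨n + m, Subtype.ext ?_⟩
      show x ^ p ^ (n + m) = 1
      rw [pow_add, pow_mul]
      exact h4
    exact le_pCore hD hDq hyD
  -- the subgroup `R`
  have hNQ : N ≤ Q := le_pCore hNn (P.isPGroup'.to_le (hNZ.trans hZS))
  set R : Subgroup X := normalClosure ((N : Set X) ∪ {y}) with hR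
  have hRn : R.Normal := normalClosure_normal
  have hRQ : R ≤ Q := by
    apply normalClosure_le_normal
    rintro x (hx | hx)
    · exact hNQ hx
    · rw [Set.mem_singleton_iff] at hx
      rw [hx]
      exact hyQ
  have hRS : R ≤ (P : Subgroup X) := hRQ.trans hQP
  have hyR : y ∈ R := subset_normalClosure (Or.inr rfl)
  have hNR : N ≤ R := fun x hx => subset_normalClosure (Or.inl hx)
  have hRcomm : ∀ r ∈ R, ∀ s ∈ R, ⁅r, s⁆ ∈ N := by
    have hKn : (sectionKernel Q N).Normal := sectionKernel_normal Q N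
    have h1 : R ≤ sectionKernel Q N := by
      apply normalClosure_le_normal
      rintro x (hx | hx)
      · rw [SetLike.mem_coe, mem_sectionKernel_iff]
        intro q _
        have e2 : ⁅x, q⁆ = x * (q * x⁻¹ * q⁻¹) := by
          rw [commutatorElement_def]
          group
        rw [e2]
        exact mul_mem hx (hNn.conj_mem _ (inv_mem hx) q)
      · rw [Set.mem_singleton_iff] at hx
        rw [hx]
        exact hyKQ
    intro r hr s hs
    exact (mem_sectionKernel_iff.1 (h1 hr)) s (hRQ hs)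
  have hRC : R ≤ centralizer (N : Set X) := by
    have hCn : (centralizer (N : Set X)).Normal := normal_centralizer
    apply normalClosure_le_normal
    rintro x (hx | hx)
    · rw [SetLike.mem_coe, mem_centralizer_iff]
      intro n hn
      exact hZc _ (hNZ hn) _ (hNZ hx)
    · rw [Set.mem_singleton_iff] at hx
      rw [hx, SetLike.mem_coe, mem_centralizer_iff]
      intro n hn
      exact hZc _ (hNZ hn) _ hyZ
  have hNc : ∀ n ∈ N, ∀ r ∈ R, Commute n r := fun n hn r hr => mem_centralizer_iff.1 (hRC hr) n hn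
  -- pull back to `Ω`
  let B₁ : Subgroup T := R.comap τ
  let B : Subgroup Ω := B₁.map T.subtype
  have hBT : B ≤ T := Subgroup.map_subtype_le _
  have hBmem : ∀ t : T, (t : Ω) ∈ B ↔ τ t ∈ R := by
    intro t
    constructor
    · rintro ⟨z, hz, hzt⟩
      have : z = t := Subtype.ext hzt
      rw [← this]
      exact hz
    · intro hz
      exact ⟨t, hz, rfl⟩
  have hB1c : ∀ c ∈ ⁅B₁, B₁⁆, τ c ∈ N := by
    intro c hc
    have h1 : ⁅B₁, B₁⁆ ≤ N.comap τ := by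
      rw [commutator_le]
      intro a ha b hb
      show τ ⁅a, b⁆ ∈ N
      rw [map_commutatorElement]
      exact hRcomm _ ha _ hb
    exact h1 hc
  have hB2 : ⁅⁅B, B⁆, B⁆ = ⊥ := by
    have h1 : ⁅⁅B₁, B₁⁆, B₁⁆ = ⊥ := by
      rw [eq_bot_iff, commutator_le]
      intro c hc b hb
      rw [mem_bot]
      apply hτ
      rw [map_commutatorElement, map_one, commutatorElement_eq_one_iff_mul_comm]
      exact (hNc _ (hB1c c hc) _ hb).eq
    have h2 : ⁅⁅B, B⁆, B⁆ = ⁅⁅B₁, B₁⁆, B₁⁆.map T.subtype := by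
      rw [Subgroup.map_commutator, Subgroup.map_commutator]
    rw [h2, h1, Subgroup.map_bot]
  have hBc : ∀ A ∈ 𝒜, ⁅B, B⁆ ≤ A := by
    intro A hA
    have h2 : ⁅B, B⁆ = ⁅B₁, B₁⁆.map T.subtype := by
      rw [Subgroup.map_commutator]
    rw [h2]
    rintro _ ⟨c, hc, rfl⟩
    exact (hmemZ c).1 (hNZ (hB1c c hc)) A hA
  -- some member does not contain `B`
  have hex : ∃ A ∈ 𝒜, ¬ B ≤ A := by
    by_contra hall
    push_neg at hall
    have hRZ : R ≤ Zz := by
      intro r hr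
      obtain ⟨t, rfl⟩ := hrange r (hRS hr)
      exact (hmemZ t).2 fun A hA => hall A hA ((hBmem t).2 hr)
    exact hyN (normal_le_normalCore.2 hRZ hyR)
  obtain ⟨A₁, hA₁, hBA₁⟩ := hex
  obtain ⟨A', hA', h1, h2, h3⟩ := hrep B hBT hB2 ⟨A₁, hA₁, hBc A₁ hA₁, hBA₁⟩
  have hA'T : A' ≤ T := (h𝒜 A' hA').1
  -- the image of `A'` acts quadratically
  have hA'c : IsMulCommutative (img τ A') := by
    refine ⟨⟨?_⟩⟩
    rintro ⟨_, s, hs, rfl⟩ ⟨_, t, ht, rfl⟩
    apply Subtype.ext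
    show τ s * τ t = τ t * τ s
    rw [← map_mul, ← map_mul]
    congr 1
    exact Subtype.ext ((h𝒜 A' hA').2 _ hs _ ht)
  have hRN : R ≤ normalizer (img τ A' : Set X) := by
    intro r hr
    obtain ⟨t, rfl⟩ := hrange r (hRS hr)
    have ht : (t : Ω) ∈ B := (hBmem t).2 hr
    refine Cfsg.Agent.Lib.FusionExt.NormalSubgroup.mem_normalizer_of_conj_le ?_
    rintro _ ⟨a, ha, rfl⟩
    refine ⟨t * a * t⁻¹, ?_, by rw [map_mul, map_mul, map_inv]⟩
    exact (Subgroup.mem_normalizer_iff.1 (h3 ht) _).1 ha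
  have hCRn : (centralizer (R : Set X)).Normal := normal_centralizer
  let K : Subgroup X := (pCore p (X ⧸ centralizer (R : Set X))).comap (QuotientGroup.mk' (centralizer (R : Set X)))
  have hKn : K.Normal := Subgroup.Normal.comap inferInstance _
  have hA'K : img τ A' ≤ K := by
    intro a ha
    have haP : a ∈ (P : Subgroup X) := by
      obtain ⟨t, -, rfl⟩ := ha
      rw [hP]
      exact ⟨t, rfl⟩
    exact hst R hRQ a haP (commutator_zpowers_eq_bot hA'c hRN ha)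
  have hQK : Q ≤ K := by
    intro q hq
    have hmap : (Q.map (QuotientGroup.mk' (centralizer (R : Set X)))).Normal :=
      Subgroup.Normal.map hQn _ (QuotientGroup.mk'_surjective _)
    exact le_pCore hmap (hQp.map _) ⟨q, hq, rfl⟩
  -- the subgroup `D`
  let D₁ : Subgroup T := ((P : Subgroup X) ⊓ K).comap τ
  let D : Subgroup Ω := D₁.map T.subtype
  have hDT : D ≤ T := Subgroup.map_subtype_le _
  have hDmem : ∀ t : T, (t : Ω) ∈ D ↔ τ t ∈ (P : Subgroup X) ⊓ K := by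
    intro t
    constructor
    · rintro ⟨z, hz, hzt⟩
      have : z = t := Subtype.ext hzt
      rw [← this]
      exact hz
    · intro hz
      exact ⟨t, hz, rfl⟩
  have hA'D : A' ≤ D := by
    intro a ha
    refine (hDmem ⟨a, hA'T ha⟩).2 ⟨?_, hA'K ⟨⟨a, hA'T ha⟩, ha, rfl⟩⟩
    rw [hP]
    exact ⟨_, rfl⟩
  have hyD : ∀ t : T, τ t = y → (t : Ω) ∈ D := by
    intro t ht
    refine (hDmem t).2 ⟨?_, ?_⟩
    · rw [ht]
      exact hyS
    · rw [ht]
      exact hQK (hRQ hyR)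
  -- all conjugates of `y` lie in the image of `A'`
  have hconj : ∀ g : X, g * y * g⁻¹ ∈ img τ A' := by
    intro g
    obtain ⟨k, hk, n, hn, e⟩ := Cfsg.Agent.Lib.PLocal.AlperinG.exists_frattini_normal P K g⁻¹
    have hk' : k⁻¹ ∈ K := inv_mem hk
    -- factor `k⁻¹`
    have hsyl : (QuotientGroup.mk' (centralizer (R : Set X))) k⁻¹ ∈
        ((P.mapSurjective (QuotientGroup.mk'_surjective (centralizer (R : Set X))) : Sylow p _) : Subgroup _) :=
      pCore_le_sylow _ hk'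
    rw [Sylow.coe_mapSurjective] at hsyl
    obtain ⟨s, hs, hse⟩ := hsyl
    have hsK : s ∈ K := by
      refine Subgroup.mem_comap.2 ?_
      rw [hse]
      exact hk'
    have hc : s⁻¹ * k⁻¹ ∈ centralizer (R : Set X) := by
      have h5 : (QuotientGroup.mk' (centralizer (R : Set X))) (s⁻¹ * k⁻¹) = 1 := by
        rw [map_mul, map_inv, hse, inv_mul_cancel]
      rw [QuotientGroup.mk'_apply, QuotientGroup.eq_one_iff] at h5
      exact h5
    have hcy : (s⁻¹ * k⁻¹) * y = y * (s⁻¹ * k⁻¹) := (mem_centralizer_iff.1 hc y hyR).symm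
    set u : X := n⁻¹ * s with hu
    have hg : g = u * (s⁻¹ * k⁻¹) := by
      have h6 : g = (g⁻¹)⁻¹ := (inv_inv g).symm
      rw [h6, e, hu]
      group
    have hconj1 : g * y * g⁻¹ = u * y * u⁻¹ := by
      rw [hg]
      calc u * (s⁻¹ * k⁻¹) * y * (u * (s⁻¹ * k⁻¹))⁻¹ = u * ((s⁻¹ * k⁻¹) * y) * (s⁻¹ * k⁻¹)⁻¹ * u⁻¹ := by group
        _ = u * (y * (s⁻¹ * k⁻¹)) * (s⁻¹ * k⁻¹)⁻¹ * u⁻¹ := by rw [hcy]
        _ = u * y * u⁻¹ := by group
    have hPK : s ∈ (P : Subgroup X) ⊓ K := ⟨hs, hsK⟩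
    have hDN : s ∈ normalizer (((P : Subgroup X) ⊓ K : Subgroup X) : Set X) := Subgroup.le_normalizer hPK
    have huN : u ∈ normalizer (((P : Subgroup X) ⊓ K : Subgroup X) : Set X) :=
      mul_mem (inv_mem hn) hDN
    have hv : ∀ d : D, ∃ d' : D, u * τ ⟨d, hDT d.2⟩ * u⁻¹ = τ ⟨d', hDT d'.2⟩ := by
      intro d
      have h7 : τ ⟨d, hDT d.2⟩ ∈ (P : Subgroup X) ⊓ K := (hDmem ⟨d, hDT d.2⟩).1 d.2
      have h8 := (mem_normalizer_iff.1 huN _).1 h7
      obtain ⟨t, ht⟩ := hrange _ h8.1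
      refine ⟨⟨t, (hDmem t).2 (by rw [ht]; exact h8)⟩, ?_⟩
      exact ht.symm
    obtain ⟨y₀, hy₀⟩ := hrange y hyS
    have hy₀D := hyD y₀ hy₀
    obtain ⟨d', hd'⟩ := hv ⟨y₀, hy₀D⟩
    have hfin := hinv D hDT ⟨A', hA', hA'D⟩ u hv ⟨y₀, hy₀D⟩ d'
      (fun A hA _ => (hmemZ y₀).1 (by rw [hy₀]; exact hyZ) A hA) hd' A' hA' hA'D
    rw [hconj1]
    have e3 : u * y * u⁻¹ = τ ⟨d', hDT d'.2⟩ := by
      rw [← hd']
      show u * y * u⁻¹ = u * τ y₀ * u⁻¹
      rw [hy₀]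
    rw [e3]
    exact ⟨⟨d', hDT d'.2⟩, hfin, rfl⟩
  have hNA' : N ≤ img τ A' := by
    intro n hn
    obtain ⟨t, rfl⟩ := hrange n (hZS (hNZ hn))
    exact ⟨t, (hmemZ t).1 (hNZ hn) A' hA', rfl⟩
  have hRA' : R ≤ img τ A' := by
    rw [hR, normalClosure, closure_le]
    intro x hx
    obtain ⟨s, hs, hsx⟩ := Group.mem_conjugatesOfSet_iff.1 hx
    obtain ⟨g, rfl⟩ := isConj_iff.1 hsx
    rcases hs with hs | hs
    · exact hNA' (hNn.conj_mem s hs g)
    · rw [Set.mem_singleton_iff] at hs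
      rw [hs]
      exact hconj g
  apply h2
  rintro _ ⟨t, ht, rfl⟩
  exact (mem_img hτ).1 (hRA' ht)

end group

section reduction

variable {Ω : Type v} [Group Ω] {T : Subgroup Ω} {p : ℕ} [Fact p.Prime] {L : Type u} [Group L] [Finite L]

theorem subgroupOf_pCore_le (H : Subgroup L) : (pCore p L).subgroupOf H ≤ pCore p H :=
  le_pCore inferInstance (IsPGroup.comap_of_injective pCore_isPGroup H.subtype H.subtype_injective)

theorem pPrimeCore_eq_bot_of_le (hc : centralizer (pCore p L : Set L) ≤ pCore p L) (H : Subgroup L)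
    (hPH : pCore p L ≤ H) : pPrimeCore p H = ⊥ := by
  rw [eq_bot_iff]
  intro x hx
  have h1 : (x : L) ∈ pCore p L := by
    apply hc
    rw [mem_centralizer_iff]
    intro q hq
    have h2 : (⟨q, hPH hq⟩ : H) ∈ pCore p H := subgroupOf_pCore_le H hq
    have h3 := commute_of_mem_pCore_of_mem_pPrimeCore h2 hx
    exact congrArg Subtype.val h3
  have h2 : x ∈ pCore p H := subgroupOf_pCore_le H h1
  rw [← pCore_inf_pPrimeCore (p := p) (G := H)]
  exact ⟨h2, hx⟩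

theorem hasNormalPComplement_quot_of_le (hPC : HasNormalPComplement p (L ⧸ pCore p L)) (H : Subgroup L) :
    HasNormalPComplement p (H ⧸ pCore p H) := by
  classical
  let f : H →* (L ⧸ pCore p L) := (QuotientGroup.mk' (pCore p L)).comp H.subtype
  have h1 : HasNormalPComplement p (H ⧸ f.ker) :=
    Cfsg.Agent.Lib.Transfer.Basic.hasNormalPComplement_of_injective (QuotientGroup.kerLift f)
      (QuotientGroup.kerLift_injective f) hPC
  have hker : f.ker ≤ (pCore p H).comap (MonoidHom.id H) := by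
    intro x hx
    have h2 : (x : L) ∈ pCore p L := by
      have h3 : (QuotientGroup.mk' (pCore p L)) (x : L) = 1 := hx
      rwa [QuotientGroup.mk'_apply, QuotientGroup.eq_one_iff] at h3
    exact subgroupOf_pCore_le H h2
  refine Cfsg.Agent.Lib.Transfer.Basic.hasNormalPComplement_of_surjective
    (QuotientGroup.map f.ker (pCore p H) (MonoidHom.id H) hker) ?_ h1
  intro z
  obtain ⟨x, rfl⟩ := QuotientGroup.mk_surjective z
  exact ⟨QuotientGroup.mk x, rfl⟩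

/-- The group-theoretic form of the criterion. -/
theorem pc_of_normalizer (hp : p ≠ 2) (P : Sylow p L) (hc : centralizer (pCore p L : Set L) ≤ pCore p L)
    (hPC : HasNormalPComplement p (L ⧸ pCore p L)) (τ : T →* L) (hτ : Function.Injective τ)
    (hP : (P : Subgroup L) = τ.range) (𝒜 : Set (Subgroup Ω))
    (h𝒜 : ∀ A ∈ 𝒜, A ≤ T ∧ ∀ a ∈ A, ∀ b ∈ A, a * b = b * a) (hne : 𝒜.Nonempty) (hinv : InvCond 𝒜 τ)
    (hrep : RepCond 𝒜 T) (hN : HasNormalPComplement p (normalizer (img τ (⨅ A ∈ 𝒜, A) : Set L))) :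
    HasNormalPComplement p L := by
  classical
  have key : ∀ (n : ℕ) (H : Subgroup L), Nat.card H = n → (P : Subgroup L) ≤ H → HasNormalPComplement p H := by
    intro n
    induction n using Nat.strong_induction_on with
    | _ n ih =>
    intro H hn hPH
    by_contra hnot
    let PH : Sylow p H := P.subtype hPH
    have hτm : ∀ t : T, τ t ∈ H := fun t => hPH (by rw [hP]; exact ⟨t, rfl⟩)
    let τH : T →* H := τ.codRestrict H hτm
    have hτH : Function.Injective τH := fun a b hab => hτ (congrArg Subtype.val hab)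
    have hPHr : (PH : Subgroup H) = τH.range := by
      ext x
      rw [Sylow.coe_subtype, Subgroup.mem_subgroupOf, hP]
      constructor
      · rintro ⟨t, ht⟩
        exact ⟨t, Subtype.ext ht⟩
      · rintro ⟨t, ht⟩
        exact ⟨t, congrArg Subtype.val ht⟩
    have hinvH : InvCond 𝒜 τH := by
      intro D hD hex g hg d d' hd hdd
      refine hinv D hD hex (g : L) (fun d => ?_) d d' hd ?_
      · obtain ⟨d', h⟩ := hg d
        exact ⟨d', congrArg Subtype.val h⟩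
      · exact congrArg Subtype.val hdd
    have hO : pPrimeCore p H = ⊥ := pPrimeCore_eq_bot_of_le hc H ((pCore_le_sylow P).trans hPH)
    have hmin : ∀ Y : Subgroup H, Y ≠ ⊤ → (PH : Subgroup H) ≤ Y → HasNormalPComplement p Y := by
      intro Y hY hPY
      have hlt : Nat.card (Y.map H.subtype) < n := by
        rw [← hn, Subgroup.card_map_of_injective H.subtype_injective]
        have h := Cfsg.Agent.Lib.PGroups.Basic.card_lt_of_lt (lt_top_iff_ne_top.2 hY)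
        rwa [Subgroup.card_top] at h
      have hle : (P : Subgroup L) ≤ Y.map H.subtype := by
        intro x hx
        refine ⟨⟨x, hPH hx⟩, hPY ?_, rfl⟩
        rw [Sylow.coe_subtype]
        exact hx
      exact Cfsg.Agent.Lib.Transfer.Basic.hasNormalPComplement_of_mulEquiv
        (Y.equivMapOfInjective H.subtype H.subtype_injective).symm (ih _ hlt _ rfl hle)
    obtain ⟨Q₀, hr⟩ := exists_reduced hO hnot (hasNormalPComplement_quot_of_le hPC H) PH hmin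
    have hnorm := normal_img hp hr τH hτH hPHr 𝒜 h𝒜 hne hinvH hrep
    have hle : H ≤ normalizer (img τ (⨅ A ∈ 𝒜, A) : Set L) := by
      intro h hh
      refine Cfsg.Agent.Lib.FusionExt.NormalSubgroup.mem_normalizer_of_conj_le ?_
      rintro _ ⟨z, hz, rfl⟩
      have h1 := hnorm.conj_mem _ ⟨z, hz, rfl⟩ ⟨h, hh⟩
      obtain ⟨w, hw, hwe⟩ := h1
      exact ⟨w, hw, congrArg Subtype.val hwe⟩
    exact hnot (Cfsg.Agent.Lib.Transfer.Basic.hasNormalPComplement_of_injective (Subgroup.inclusion hle)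
      (Subgroup.inclusion_injective hle) hN)
  exact Cfsg.Agent.Lib.Transfer.Basic.hasNormalPComplement_of_mulEquiv Subgroup.topEquiv (key _ ⊤ rfl le_top)

end reduction

section realized

open Cfsg.FusionSystem Cfsg.Agent.Lib.Fusion.Basic Cfsg.Agent.Lib.FusionTheory.Bad
  Cfsg.Agent.Lib.FusionTheory.GT Cfsg.Agent.Lib.FusionExt.Normal Cfsg.Agent.Lib.FusionExt.Factor
  Cfsg.Agent.Lib.Transfer.Frobenius

variable {Ω : Type u} [Group Ω] {T : Subgroup Ω} [Finite T] {p : ℕ} [Fact p.Prime] (E : FusionSystem T)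
  {L : Type u} [Group L] {ι : T →* L}

/-- A conjugation of `L` that stabilizes the image of `D ≤ T` gives an automorphism of `D` in the system. -/
theorem exists_aut_of_conj (hreal : E.IsRealizedBy ι) {D : Subgroup Ω} (hD : D ≤ T) (g : L)
    (hv : ∀ d : D, ∃ d' : D, g * ι ⟨d, hD d.2⟩ * g⁻¹ = ι ⟨d', hD d'.2⟩) :
    ∃ α ∈ E.autGroup D, (∀ x : D, ι ⟨((α x : D) : Ω), hD (α x).2⟩ = g * ι ⟨x, hD x.2⟩ * g⁻¹) ∧
      orderOf α ∣ orderOf g := by
  have hinj := hreal.1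
  obtain ⟨φ, hφ, hφS, hφv⟩ := exists_hom_of_conj E hreal hD g (fun x => by
    obtain ⟨d', h⟩ := hv x
    rw [h]
    exact ⟨_, rfl⟩)
  have hφR : ∀ x : D, φ x ∈ D := by
    intro x
    obtain ⟨d', h⟩ := hv x
    have h1 := hφv x
    rw [h] at h1
    have h2 := hinj h1
    have h3 : φ x = d' := congrArg Subtype.val h2
    rw [h3]
    exact d'.2
  have hφinj := E.injective_of_mem hφ
  have hfD : Finite D := finite_of_le hD
  have hφr : φ.range = D := by
    apply le_antisymm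
    · rintro _ ⟨x, rfl⟩
      exact hφR x
    · let f : D → D := fun x => ⟨φ x, hφR x⟩
      have hfi : Function.Injective f := fun a b hab => hφinj (congrArg Subtype.val hab)
      have hfs := Finite.injective_iff_surjective.1 hfi
      intro y hy
      obtain ⟨x, hx⟩ := hfs ⟨y, hy⟩
      exact ⟨x, congrArg Subtype.val hx⟩
  have hαm : (isoOf φ hφinj hφr : MulAut _) ∈ E.autGroup D := mem_autGroup_of_hom E hφ _ (fun x => rfl)
  have hαv : ∀ x : D, ι ⟨((isoOf φ hφinj hφr x : D) : Ω), hD (isoOf φ hφinj hφr x).2⟩ = g * ι ⟨x, hD x.2⟩ * g⁻¹ :=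
    fun x => hφv x
  generalize (isoOf φ hφinj hφr : MulAut D) = α at hαm hαv
  refine ⟨α, hαm, hαv, ?_⟩
  have hαpow : ∀ (n : ℕ) (x : D), ι ⟨(((α ^ n) x : D) : Ω), hD ((α ^ n) x).2⟩ =
      g ^ n * ι ⟨x, hD x.2⟩ * (g ^ n)⁻¹ := by
    intro n
    induction n with
    | zero => intro x; simp
    | succ n ih =>
      intro x
      have e : (α ^ (n + 1)) x = (α ^ n) (α x) := by
        rw [pow_succ]
        rfl
      rw [e, ih, hαv, pow_succ]
      group
  apply orderOf_dvd_of_pow_eq_one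
  ext x
  have h1 := hαpow (orderOf g) x
  rw [pow_orderOf_eq_one] at h1
  simp only [one_mul, inv_one, mul_one] at h1
  have h2 := hinj h1
  exact congrArg (fun y : T => (y : Ω)) h2

/-- Normal subgroups of the system lie in `O_p` of a model. -/
theorem mem_pCore_of_isNormal (hT : IsPGroup p T) (hG : E.IsModel p L ι) {Q : Subgroup Ω} (hQ : E.IsNormal Q)
    {q : T} (hq : (q : Ω) ∈ Q) : ι q ∈ pCore p L := by
  obtain ⟨hfin, hreal, ⟨P₀, hP₀⟩, hc⟩ := hG
  have hinj := hreal.1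
  have hTN := sc_le_normalizer E (isNormal_stronglyClosed E hQ)
  have hcr : pCore p L ≤ ι.range := by
    rw [← hP₀]
    exact pCore_le_sylow P₀
  let N : Subgroup L := img ι Q
  have hNp : IsPGroup p N := (hT.to_subgroup (Q.subgroupOf T)).map ι
  have hNn : N.Normal := by
    constructor
    rintro _ ⟨q', hq', rfl⟩ g
    have hq'' : (q' : Ω) ∈ Q := hq'
    let O₀ : Subgroup Ω := (pCore p L).comap ι |>.map T.subtype
    have hO₀T : O₀ ≤ T := Subgroup.map_subtype_le _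
    have hO₀mem : ∀ t : T, (t : Ω) ∈ O₀ ↔ ι t ∈ pCore p L := by
      intro t
      constructor
      · rintro ⟨z, hz, hzt⟩
        have : z = t := Subtype.ext hzt
        rw [← this]
        exact hz
      · intro hz
        exact ⟨t, hz, rfl⟩
    have hv : ∀ x : O₀, g * ι ⟨x, hO₀T x.2⟩ * g⁻¹ ∈ ι.range := fun x =>
      hcr ((pCore_normal p L).conj_mem _ ((hO₀mem _).1 x.2) g)
    obtain ⟨φ, hφ, hφS, hφv⟩ := exists_hom_of_conj E hreal hO₀T g hv
    obtain ⟨ψ, hψ, hψ1, hψ2⟩ := hQ.2 O₀ φ hφ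
    have hsup : O₀ ⊔ Q ≤ T := sup_le hO₀T hQ.1
    have hψS : ∀ x : ↥(O₀ ⊔ Q), ψ x ∈ T := fun x => val_mem E hψ x
    obtain ⟨g', hg'⟩ := (hreal.2 _ hsup ψ hψS).1 hψ
    have hz : g'⁻¹ * g ∈ pCore p L := by
      apply hc
      rw [mem_centralizer_iff]
      intro w hw
      obtain ⟨t, rfl⟩ := hcr hw
      have htO : (t : Ω) ∈ O₀ := (hO₀mem t).2 hw
      have h1 := hg' ⟨t, Subgroup.mem_sup_left htO⟩
      have h2 := hφv ⟨t, htO⟩
      have h3 : ψ ⟨t, Subgroup.mem_sup_left htO⟩ = φ ⟨t, htO⟩ := hψ1 ⟨t, htO⟩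
      have h4 : g' * ι t * g'⁻¹ = g * ι t * g⁻¹ := by
        have h5 : ι ⟨ψ ⟨t, Subgroup.mem_sup_left htO⟩, hψS _⟩ = ι ⟨φ ⟨t, htO⟩, hφS _⟩ := by
          congr 1
          exact Subtype.ext h3
        rw [h1, h2] at h5
        exact h5
      have h6 : (g'⁻¹ * g) * ι t * (g'⁻¹ * g)⁻¹ = ι t := by
        calc (g'⁻¹ * g) * ι t * (g'⁻¹ * g)⁻¹ = g'⁻¹ * (g * ι t * g⁻¹) * g' := by group
          _ = g'⁻¹ * (g' * ι t * g'⁻¹) * g' := by rw [h4]
          _ = ι t := by group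
      exact (mul_inv_eq_iff_eq_mul.1 h6).symm
    obtain ⟨o, ho⟩ := hcr hz
    have hg : g = g' * ι o := by
      rw [ho]
      group
    have hq₂ : ((o * q' * o⁻¹ : T) : Ω) ∈ Q := (Subgroup.mem_normalizer_iff.1 (hTN o.2) _).1 hq''
    have h7 := hg' ⟨_, Subgroup.mem_sup_right hq₂⟩
    have h8 : ψ ⟨_, Subgroup.mem_sup_right hq₂⟩ ∈ Q := hψ2.le ⟨⟨_, Subgroup.mem_sup_right hq₂⟩, hq₂, rfl⟩
    refine ⟨⟨_, hψS ⟨_, Subgroup.mem_sup_right hq₂⟩⟩, h8, ?_⟩
    show ι ⟨ψ ⟨_, Subgroup.mem_sup_right hq₂⟩, hψS _⟩ = g * ι q' * g⁻¹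
    rw [h7, hg]
    have e : (⟨((o * q' * o⁻¹ : T) : Ω), hsup (Subgroup.mem_sup_right hq₂)⟩ : T) = o * q' * o⁻¹ := rfl
    rw [e, map_mul, map_mul, map_inv]
    group
  exact le_pCore hNn hNp ⟨q, hq, rfl⟩

/-- The quotient by `O_p` of a model has a normal `p`-complement when `p'`-automorphisms are trivial
modulo a normal subgroup. -/
theorem pc_quot (hT : IsPGroup p T) (hG : E.IsModel p L ι) {Q : Subgroup Ω} (hQ : E.IsNormal Q)
    (hmod : ∀ R : Subgroup Ω, R ≤ T → ∀ α ∈ E.autGroup R, (orderOf α).Coprime p → ∀ x : R,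
      (x : Ω)⁻¹ * ((α x : R) : Ω) ∈ Q) :
    HasNormalPComplement p (L ⧸ pCore p L) := by
  classical
  have hG' := hG
  obtain ⟨hfin, hreal, ⟨P₀, hP₀⟩, hc⟩ := hG
  have hinj := hreal.1
  have hcore : pCore p L ≤ (P₀ : Subgroup L) := pCore_le_sylow P₀
  refine hasNormalPComplement_of_frobeniusCond (frobeniusCond_of_sylow
    (P₀.mapSurjective (QuotientGroup.mk'_surjective (pCore p L))) ?_)
  intro Qb hQb gb hgb hco
  rw [Sylow.coe_mapSurjective] at hQb
  obtain ⟨g₀, rfl⟩ := QuotientGroup.mk'_surjective (pCore p L) gb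
  obtain ⟨a, b, hab, -, ⟨k, hk⟩, hb, ⟨m, hm⟩, -⟩ :=
    Cfsg.Agent.Lib.Core.Residual.exists_pPart_pPrimePart p g₀ (isOfFinOrder_of_finite _)
  have hbm : QuotientGroup.mk' (pCore p L) b = QuotientGroup.mk' (pCore p L) g₀ := by
    have h1 : QuotientGroup.mk' (pCore p L) a = 1 := by
      have h2 : (QuotientGroup.mk' (pCore p L) a) ^ p ^ k = 1 := by
        rw [← map_pow, hk, map_one]
      have h3 : QuotientGroup.mk' (pCore p L) a = (QuotientGroup.mk' (pCore p L) g₀) ^ m := by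
        rw [← map_zpow]
        congr 1
        exact hm.symm
      have h4 : orderOf (QuotientGroup.mk' (pCore p L) a) ∣ p ^ k := orderOf_dvd_of_pow_eq_one h2
      have h5 : orderOf (QuotientGroup.mk' (pCore p L) a) ∣ orderOf (QuotientGroup.mk' (pCore p L) g₀) := by
        rw [h3]
        exact orderOf_dvd_of_pow_eq_one (by
          rw [← zpow_natCast, ← zpow_mul, mul_comm, zpow_mul, zpow_natCast, pow_orderOf_eq_one, one_zpow])
      have h6 := Nat.Coprime.coprime_dvd_left h5 hco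
      have h7 : Nat.Coprime (orderOf (QuotientGroup.mk' (pCore p L) a)) (p ^ k) := h6.pow_right k
      have h8 := Nat.Coprime.eq_one_of_dvd h7 h4
      exact orderOf_eq_one_iff.1 h8
    rw [← hab, map_mul, h1, one_mul]
  let pre : Subgroup L := Qb.comap (QuotientGroup.mk' (pCore p L))
  have hpreP : pre ≤ (P₀ : Subgroup L) := by
    intro x hx
    obtain ⟨s, hs, hse⟩ := hQb hx
    have h1 : s⁻¹ * x ∈ pCore p L := by
      have h2 : QuotientGroup.mk' (pCore p L) (s⁻¹ * x) = 1 := by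
        rw [map_mul, map_inv, hse, inv_mul_cancel]
      rwa [QuotientGroup.mk'_apply, QuotientGroup.eq_one_iff] at h2
    have h3 := mul_mem hs (hcore h1)
    rwa [mul_inv_cancel_left] at h3
  have hbN : b ∈ normalizer (pre : Set L) := by
    refine Subgroup.mem_normalizer_iff.2 fun y => ?_
    have h1 := Subgroup.mem_normalizer_iff.1 hgb (QuotientGroup.mk' (pCore p L) y)
    show QuotientGroup.mk' (pCore p L) y ∈ Qb ↔ QuotientGroup.mk' (pCore p L) (b * y * b⁻¹) ∈ Qb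
    rw [map_mul, map_mul, map_inv, hbm]
    exact h1
  let R : Subgroup Ω := (pre.comap ι).map T.subtype
  have hRT : R ≤ T := Subgroup.map_subtype_le _
  have hRmem : ∀ t : T, (t : Ω) ∈ R ↔ ι t ∈ pre := by
    intro t
    constructor
    · rintro ⟨z, hz, hzt⟩
      have : z = t := Subtype.ext hzt
      rw [← this]
      exact hz
    · intro hz
      exact ⟨t, hz, rfl⟩
  have hrange : ∀ x ∈ pre, ∃ t : T, ι t = x := by
    intro x hx
    have := hpreP hx
    rw [hP₀] at this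
    exact this
  obtain ⟨α, hα, hαv, hαo⟩ := exists_aut_of_conj E hreal hRT b (fun d => by
    have h1 := (Subgroup.mem_normalizer_iff.1 hbN _).1 ((hRmem ⟨d, hRT d.2⟩).1 d.2)
    obtain ⟨t, ht⟩ := hrange _ h1
    refine ⟨⟨t, (hRmem t).2 (by rw [ht]; exact h1)⟩, ht.symm⟩)
  have hαc : (orderOf α).Coprime p := Nat.Coprime.coprime_dvd_left hαo hb
  rw [← hbm]
  refine mem_centralizer_iff'.2 fun y hy => ?_
  obtain ⟨y₀, rfl⟩ := QuotientGroup.mk'_surjective (pCore p L) y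
  obtain ⟨t, rfl⟩ := hrange y₀ hy
  have htR : (t : Ω) ∈ R := (hRmem t).2 hy
  have h1 := hmod R hRT α hα hαc ⟨t, htR⟩
  have h2 : ι ⟨(⟨t, htR⟩ : R)⁻¹ * (α ⟨t, htR⟩ : R), hRT (mul_mem (inv_mem htR) (α ⟨t, htR⟩).2)⟩ ∈ pCore p L :=
    mem_pCore_of_isNormal E hT hG' hQ h1
  have h3 : (⟨(⟨t, htR⟩ : R)⁻¹ * (α ⟨t, htR⟩ : R), hRT (mul_mem (inv_mem htR) (α ⟨t, htR⟩).2)⟩ : T) =
      t⁻¹ * ⟨((α ⟨t, htR⟩ : R) : Ω), hRT (α ⟨t, htR⟩).2⟩ := rfl
  rw [h3, map_mul, map_inv, hαv ⟨t, htR⟩] at h2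
  have h4 : QuotientGroup.mk' (pCore p L) ((ι t)⁻¹ * (b * ι ⟨((⟨t, htR⟩ : R) : Ω), hRT htR⟩ * b⁻¹)) = 1 := by
    rw [QuotientGroup.mk'_apply, QuotientGroup.eq_one_iff]
    exact h2
  rw [map_mul, map_inv, inv_mul_eq_one, map_mul, map_mul, map_inv] at h4
  exact h4.symm

/-- The normalizer of the image of `W` has a normal `p`-complement when no bad automorphism normalizes `W`. -/
theorem pc_normalizer [Finite L] (hreal : E.IsRealizedBy ι) (P₀ : Sylow p L)
    (hP₀ : (P₀ : Subgroup L) = ι.range) {W : Subgroup Ω} (hWT : W ≤ T) (hTN : T ≤ normalizer (W : Set Ω))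
    (hno : ¬ BadAt E p W) : HasNormalPComplement p (normalizer (img ι W : Set L)) := by
  classical
  have hinj := hreal.1
  set WL : Subgroup L := img ι W with hWL
  have hmemW : ∀ t : T, (t : Ω) ∈ W ↔ ι t ∈ WL := fun t => (mem_img hinj).symm
  have hWLr : WL ≤ ι.range := by
    rintro _ ⟨z, -, rfl⟩
    exact ⟨z, rfl⟩
  have hPN : (P₀ : Subgroup L) ≤ normalizer (WL : Set L) := by
    rw [hP₀]
    rintro _ ⟨t, rfl⟩
    refine Cfsg.Agent.Lib.FusionExt.NormalSubgroup.mem_normalizer_of_conj_le fun y hy => ?_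
    obtain ⟨w, rfl⟩ := hWLr hy
    have h1 := (hmemW w).2 hy
    have h2 : ((t * w * t⁻¹ : T) : Ω) ∈ W := (Subgroup.mem_normalizer_iff.1 (hTN t.2) w).1 h1
    have h3 := (hmemW _).1 h2
    rwa [map_mul, map_mul, map_inv] at h3
  refine hasNormalPComplement_of_frobeniusCond (frobeniusCond_of_sylow (P₀.subtype hPN) ?_)
  intro Q₁ hQ₁ g hg hco
  have hQ₁P : Q₁.map (normalizer (WL : Set L)).subtype ≤ (P₀ : Subgroup L) := by
    rintro _ ⟨y, hy, rfl⟩
    have := hQ₁ hy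
    rw [Sylow.coe_subtype] at this
    exact Subgroup.mem_subgroupOf.1 this
  set R₂ : Subgroup L := Q₁.map (normalizer (WL : Set L)).subtype ⊔ WL with hR₂
  have hR₂r : R₂ ≤ ι.range := sup_le (hQ₁P.trans hP₀.le) hWLr
  have hgN1 : (g : L) ∈ normalizer ((Q₁.map (normalizer (WL : Set L)).subtype : Subgroup L) : Set L) := by
    refine Cfsg.Agent.Lib.FusionExt.NormalSubgroup.mem_normalizer_of_conj_le ?_
    rintro _ ⟨y, hy, rfl⟩
    exact ⟨g * y * g⁻¹, (Subgroup.mem_normalizer_iff.1 hg y).1 hy, rfl⟩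
  have hgR₂ : (g : L) ∈ normalizer (R₂ : Set L) :=
    Cfsg.Agent.Lib.Fusion.KSystem.mem_normalizer_sup hgN1 g.2
  let R : Subgroup Ω := (R₂.comap ι).map T.subtype
  have hRT : R ≤ T := Subgroup.map_subtype_le _
  have hRmem : ∀ t : T, (t : Ω) ∈ R ↔ ι t ∈ R₂ := by
    intro t
    constructor
    · rintro ⟨z, hz, hzt⟩
      have : z = t := Subtype.ext hzt
      rw [← this]
      exact hz
    · intro hz
      exact ⟨t, hz, rfl⟩
  obtain ⟨α, hαm, hαv, hαo⟩ := exists_aut_of_conj E hreal hRT (g : L) (fun d => by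
    have h1 := (Subgroup.mem_normalizer_iff.1 hgR₂ _).1 ((hRmem ⟨d, hRT d.2⟩).1 d.2)
    obtain ⟨t, ht⟩ := hR₂r h1
    refine ⟨⟨t, (hRmem t).2 (by rw [ht]; exact h1)⟩, ht.symm⟩)
  have hco' : (orderOf α).Coprime p := by
    have h2 : orderOf (g : L) = orderOf g := Subgroup.orderOf_coe g
    rw [h2] at hαo
    exact Nat.Coprime.coprime_dvd_left hαo hco
  have hWR : W ≤ R := by
    intro w hw
    exact (hRmem ⟨w, hWT hw⟩).2 (Subgroup.mem_sup_right ((hmemW ⟨w, hWT hw⟩).1 hw))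
  have hα1 : α = 1 := by
    by_contra hne
    refine hno ⟨_, hWR, le_inf hRT (hRT.trans hTN), α, hαm, ?_, hco', hne⟩
    intro x hx
    refine (hmemW ⟨_, hRT (α x).2⟩).2 ?_
    rw [hαv]
    exact (Subgroup.mem_normalizer_iff.1 g.2 _).1 ((hmemW ⟨x, hRT x.2⟩).1 hx)
  refine mem_centralizer_iff'.2 fun y hy => ?_
  have hyR : (y : L) ∈ R₂ := Subgroup.mem_sup_left ⟨y, hy, rfl⟩
  obtain ⟨t, ht⟩ := hR₂r hyR
  have htR : (t : Ω) ∈ R := (hRmem t).2 (by rw [ht]; exact hyR)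
  have h1 := hαv ⟨t, htR⟩
  rw [hα1] at h1
  have h2 : (⟨(t : Ω), hRT htR⟩ : T) = t := rfl
  simp only [MulAut.one_apply, h2, ht] at h1
  exact Subtype.ext h1.symm

/-- The core of the criterion, for a constrained system. -/
theorem badAt_I (hp : p ≠ 2) (hT : IsPGroup p T) (hG : E.IsModel p L ι) {Q : Subgroup Ω} (hQ : E.IsNormal Q)
    (hmod : ∀ R : Subgroup Ω, R ≤ T → ∀ α ∈ E.autGroup R, (orderOf α).Coprime p → ∀ x : R,
      (x : Ω)⁻¹ * ((α x : R) : Ω) ∈ Q)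
    (hbad : BadAt E p (⊥ : Subgroup Ω)) (𝒜 : Set (Subgroup Ω))
    (h𝒜 : ∀ A ∈ 𝒜, A ≤ T ∧ ∀ a ∈ A, ∀ b ∈ A, a * b = b * a) (hne : 𝒜.Nonempty)
    (hinv : ∀ D : Subgroup Ω, D ≤ T → (∃ A ∈ 𝒜, A ≤ D) → ∀ α ∈ E.autGroup D, ∀ x : D,
      (∀ A ∈ 𝒜, A ≤ D → (x : Ω) ∈ A) → ∀ A ∈ 𝒜, A ≤ D → ((α x : D) : Ω) ∈ A)
    (hrep : RepCond 𝒜 T) : BadAt E p (⨅ A ∈ 𝒜, A) := by
  classical
  by_contra hno
  have hG' := hG
  obtain ⟨hfin, hreal, ⟨P₀, hP₀⟩, hc⟩ := hG
  have hinj := hreal.1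
  have hinvL : InvCond 𝒜 ι := by
    intro D hD hex g hv d d' hd hdd A hA hAD
    obtain ⟨α, hα, hαv, -⟩ := exists_aut_of_conj E hreal hD g hv
    have h1 := hinv D hD hex α hα d hd A hA hAD
    have h2 := hαv d
    have h3 : ι ⟨((α d : D) : Ω), hD (α d).2⟩ = ι ⟨d', hD d'.2⟩ := by
      rw [h2, hdd]
    have h4 := hinj h3
    have h5 : ((α d : D) : Ω) = d' := congrArg (fun y : T => (y : Ω)) h4
    rw [← h5]
    exact h1
  obtain ⟨A₀, hA₀⟩ := hne
  have hWT : (⨅ A ∈ 𝒜, A) ≤ T := by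
    intro x hx
    exact (h𝒜 A₀ hA₀).1 (mem_I.1 hx A₀ hA₀)
  have hTN : T ≤ normalizer ((⨅ A ∈ 𝒜, A : Subgroup Ω) : Set Ω) := by
    intro t ht
    have h1 := normalizer_img_of_inv (t := ⟨t, ht⟩) hinj (fun A hA => (h𝒜 A hA).1) ⟨A₀, hA₀⟩ hinvL
    refine Subgroup.mem_normalizer_iff.2 fun y => ⟨fun hy => ?_, fun hy => ?_⟩
    · have hyT := hWT hy
      have h2 := (Subgroup.mem_normalizer_iff.1 h1 (ι ⟨y, hyT⟩)).1 ((mem_img hinj).2 hy)
      rw [← map_inv, ← map_mul, ← map_mul] at h2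
      exact (mem_img hinj).1 h2
    · have hyT : y ∈ T := by
        have hm := hWT hy
        have e : y = t⁻¹ * (t * y * t⁻¹) * t := by group
        rw [e]
        exact T.mul_mem (T.mul_mem (T.inv_mem ht) hm) ht
      have h2 := (Subgroup.mem_normalizer_iff.1 h1 (ι ⟨y, hyT⟩)).2 (by
        rw [← map_inv, ← map_mul, ← map_mul]
        exact (mem_img hinj).2 hy)
      exact (mem_img hinj).1 h2
  have hNpc := pc_normalizer E hreal P₀ hP₀ hWT hTN hno
  have hPC := pc_quot E hT hG' hQ hmod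
  have hLc := pc_of_normalizer hp P₀ hc hPC ι hinj hP₀ 𝒜 h𝒜 ⟨A₀, hA₀⟩ hinvL hrep hNpc
  exact not_badAt_of_frobeniusCond E hreal hT (frobeniusCond_of_hasNormalPComplement hLc) hbad

end realized

section main

open Cfsg.FusionSystem Cfsg.Agent.Lib.Fusion.Basic Cfsg.Agent.Lib.FusionTheory.Bad
  Cfsg.Agent.Lib.FusionTheory.GT Cfsg.Agent.Lib.FusionExt.Normal Cfsg.Agent.Lib.FusionExt.Factor
  Cfsg.Agent.Lib.FusionExt.FactorExt Cfsg.Agent.Lib.Transfer.Frobenius Cfsg.Agent.Lib.PLocal.Thompson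
  Cfsg.Agent.Lib.FusionExt.Solvable Cfsg.Agent.Lib.FusionExt.FactorSat Cfsg.Agent.Lib.Fusion.NormSystem
  Cfsg.Agent.Lib.Fusion.KSystem Cfsg.Agent.Lib.Fusion.ModelNormalizer Cfsg.Agent.Lib.Fusion.Saturation2

variable {p : ℕ} [Fact p.Prime]

/-- A non-inner saturated system gives the data of the criterion, `p` odd. -/
theorem exists_data {Ω : Type u} [Group Ω] {S : Subgroup Ω} [Finite S] (hS : IsPGroup p S) (F : FusionSystem S)
    (hF : F.IsSaturated p) (hp : p ≠ 2) (hne : ∃ P : Subgroup Ω, F.Hom P ≠ (innerFusionSystem S).Hom P) :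
    ∃ Q : Subgroup Ω, normalizerIn S Q = S ∧ ∃ E : FusionSystem (normalizerIn S Q), E.IsSubsystemOf F ∧
      E.IsConstrained p ∧ BadAt E p (⊥ : Subgroup Ω) ∧ E.IsNormal Q ∧
      ∀ R : Subgroup Ω, R ≤ normalizerIn S Q → ∀ α ∈ E.autGroup R, (orderOf α).Coprime p → ∀ x : R,
        (x : Ω)⁻¹ * ((α x : R) : Ω) ∈ Q := by
  classical
  have hbad := badAt_bot_of_not_inner F hS hF hne
  have hS1 : S ≠ ⊥ := by
    obtain ⟨P, hP, α, -, -, hne⟩ := (badAt_bot_iff F).1 hbad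
    intro h0
    apply ne_bot_of_badAt_aut hne
    rw [eq_bot_iff, ← h0]
    exact hP
  have hzj : BadAt F p (zjOf 0 S) := gt_main hp _ Ω S hS rfl F hF S (stronglyClosed_top F) hbad
  obtain ⟨Q, ⟨hQ1, hQS, hSQ, hQbad⟩, hQmax⟩ := exists_max_nat
    (fun Q : Subgroup Ω => Q ≠ ⊥ ∧ Q ≤ S ∧ S ≤ Subgroup.normalizer (Q : Set Ω) ∧ BadAt F p Q)
    (fun Q => Nat.card Q) (Nat.card S) (fun Q hQ => card_le_of_le_finite hQ.2.1)
    ⟨zjOf 0 S, zj_ne_bot inferInstance hS hS1, zjOf_le 0 S, fun g hg => zj_normalizer (Subgroup.le_normalizer hg), hzj⟩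
  have hTtop : normalizerIn S Q = S := inf_eq_left.2 hSQ
  have hQfn : F.IsFullyNormalized Q := by
    refine ⟨hQS, fun R' _ => ?_⟩
    rw [hTtop]
    exact card_le_of_le_finite inf_le_left
  obtain ⟨E, hE⟩ := exists_normalizerSystem F hQS
  have hEs := isSaturated_normalizerSystem hS F hF hQfn E hE
  have hEbad := badAt_bot_of_normalizerSystem F hE hQbad
  have hEsub : E.IsSubsystemOf F := fun P φ hφ => by
    rw [hE P] at hφ
    exact hφ.1
  have hTS : normalizerIn S Q ≤ S := inf_le_left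
  have hTfin : Finite ↥(normalizerIn S Q) := finite_of_le hTS
  have hTp : IsPGroup p ↥(normalizerIn S Q) := hS.to_le hTS
  have hQnorm : E.IsNormal Q := normalizerSystem_isNormal F hQS hE
  have hmax : ∀ R : Subgroup Ω, Q < R → R ≤ normalizerIn S Q →
      normalizerIn S Q ≤ Subgroup.normalizer (R : Set Ω) → ¬ BadAt E p R := by
    intro R hQR hRT hRN hRbad
    have h1 := hRbad.mono F hEsub
    have hRS : R ≤ S := hRT.trans hTS
    have hSN : S ≤ Subgroup.normalizer (R : Set Ω) := by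
      rw [← hTtop]
      exact hRN
    have hR1 : R ≠ ⊥ := by
      rintro rfl
      exact not_lt_bot hQR
    have h3 := hQmax R ⟨hR1, hRS, hSN, h1⟩
    have hRf : Finite R := finite_of_le hRS
    have h4 := card_lt_of_lt_finite hRf hQR
    omega
  have hsc := isNormal_stronglyClosed E hQnorm
  haveI hnormal : (Q.subgroupOf (normalizerIn S Q)).Normal := subgroupOf_normal E hsc
  let θ : ↥(normalizerIn S Q) →* (↥(normalizerIn S Q) ⧸ Q.subgroupOf (normalizerIn S Q)) :=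
    QuotientGroup.mk' (Q.subgroupOf (normalizerIn S Q))
  have hθ : ∀ s : ↥(normalizerIn S Q), θ s = 1 ↔ (s : Ω) ∈ Q := by
    intro s
    exact QuotientGroup.eq_one_iff s
  obtain ⟨Ē, hĒ⟩ := exists_isFactorSystem E θ hsc hθ (S' := θ.range) rfl
  have hMor := isSurjectiveMorphism_of_isFactorSystem E θ hTp hEs hsc hĒ
  have hĒs := image_isSaturated θ E Ē hTp hEs hMor
  have hquot : ¬ BadAt Ē p (⊥ : Subgroup _) := by
    intro hb
    have hfr : Finite θ.range := range_finite (θ := θ) rfl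
    have hpr : IsPGroup p θ.range := range_isPGroup (θ := θ) hTp rfl
    have hrange1 : θ.range ≠ ⊥ := by
      intro h0
      obtain ⟨P, hP, α, -, -, hne⟩ := (badAt_bot_iff Ē).1 hb
      apply ne_bot_of_badAt_aut hne
      rw [eq_bot_iff, ← h0]
      exact hP
    have hIH := gt_main hp _ _ θ.range hpr rfl Ē hĒs θ.range (stronglyClosed_top Ē) hb
    have h1 := hIH.of_factor E θ hĒ (zjOf_le 0 _)
    refine hmax _ ?_ (preimageAlong_le θ _) ?_ h1
    · refine lt_of_le_of_ne (le_preimageAlong θ hθ hQnorm.1 _) fun h2 => ?_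
      have hW := zj_ne_bot hfr hpr hrange1
      obtain ⟨y, hy, hy1⟩ := (Subgroup.bot_or_exists_ne_one _).resolve_left hW
      obtain ⟨s, rfl⟩ := (zjOf_le 0 _) hy
      have h3 : (s : Ω) ∈ preimageAlong θ (zjOf 0 θ.range) := mem_preimageAlong.2 ⟨s.2, hy⟩
      rw [← h2] at h3
      exact hy1 ((hθ s).2 h3)
    · intro t ht
      refine Cfsg.Agent.Lib.FusionExt.FactorSat.mem_normalizer_preimage θ ht (zj_normalizer ?_)
      exact Subgroup.le_normalizer ⟨_, rfl⟩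
  have hEc := isConstrained_of_max hTp E hEs hQnorm hEbad hmax θ hĒ hquot
  refine ⟨Q, hTtop, E, hEsub, hEc, hEbad, hQnorm, ?_⟩
  intro R hR α hα hc x
  have hMor' := isSurjectiveMorphism_of_isFactorSystem E θ hTp hEs hsc hĒ
  have h1 := map_eq_of_not_badAt E θ hMor'.1 hĒ.2.2.1 hquot hR hα hc x
  exact (theta_eq_iff θ hĒ.2.1 _ _).1 h1.symm

/-- **The axiomatic Glauberman--Thompson criterion** (hard direction). -/
theorem main {Ω : Type u} [Group Ω] {S : Subgroup Ω} [Finite S] (hS : IsPGroup p S) (F : FusionSystem S)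
    (hF : F.IsSaturated p) (hp : p ≠ 2) (𝒜 : Set (Subgroup Ω))
    (h𝒜 : ∀ A ∈ 𝒜, A ≤ S ∧ ∀ a ∈ A, ∀ b ∈ A, a * b = b * a) (hne : 𝒜.Nonempty)
    (hinv : ∀ D : Subgroup Ω, D ≤ S → (∃ A ∈ 𝒜, A ≤ D) → ∀ α ∈ F.autGroup D, ∀ x : D,
      (∀ A ∈ 𝒜, A ≤ D → (x : Ω) ∈ A) → ∀ A ∈ 𝒜, A ≤ D → ((α x : D) : Ω) ∈ A)
    (hrep : RepCond 𝒜 S) (hno : ∃ P : Subgroup Ω, F.Hom P ≠ (innerFusionSystem S).Hom P) :
    BadAt F p (⨅ A ∈ 𝒜, A) := by
  obtain ⟨Q, hTtop, E, hEsub, hEc, hEbad, hQ, hmod⟩ := exists_data hS F hF hp hno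
  have hTS : normalizerIn S Q ≤ S := inf_le_left
  have hTfin : Finite ↥(normalizerIn S Q) := finite_of_le hTS
  have hTp : IsPGroup p ↥(normalizerIn S Q) := hS.to_le hTS
  obtain ⟨L, _, ι, hG⟩ := Cfsg.Agent.S5090.result p hTp E hEc
  have h := badAt_I E hp hTp hG hQ hmod hEbad 𝒜 (fun A hA => ⟨by rw [hTtop]; exact (h𝒜 A hA).1, (h𝒜 A hA).2⟩)
    hne (fun D hD hex α hα x hx A hA hAD => hinv D (hD.trans hTS) hex α
      ((mem_autGroup_iff F (hD.trans hTS) α).2 (hEsub _ ((mem_autGroup_iff E hD α).1 hα))) x hx A hA hAD) (by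
      rw [hTtop]
      exact hrep)
  exact h.mono F hEsub

end main

end Cfsg.Agent.Lib.FusionTheory.AxiomGT
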