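import Cfsg.Agent.Lib.FusionTheory.MaxClass
import Cfsg.Agent.Lib.Fusion.Thompson2

/-!
# A saturated system over a 2-group in which each element is conjugate into the centre
-/

set_option autoImplicit false
set_option linter.unusedSectionVars false
set_option linter.unusedVariables false

namespace Cfsg.Agent.Lib.FusionTheory.CenterConj

open Cfsg Cfsg.FusionSystem Cfsg.Agent.Lib.Fusion.Basic Cfsg.Agent.Lib.Fusion.Saturation
  Cfsg.Agent.Lib.Fusion.Saturation2 Cfsg.Agent.Lib.FusionTheory.MaxClass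

universe u

open scoped commutatorElement

section basic

variable {Ω : Type u} [Group Ω] {S : Subgroup Ω} [Finite S] (F : FusionSystem S)

/-- The centre of `S`, as a subgroup of the ambient group. -/
abbrev Zc (S : Subgroup Ω) : Subgroup Ω := S ⊓ Subgroup.centralizer (S : Set Ω)

theorem mem_Zc_comm {z s : Ω} (hz : z ∈ Zc S) (hs : s ∈ S) : s * z = z * s :=
  Subgroup.mem_centralizer_iff.1 hz.2 s hs

theorem isFullyNormalized_central {V : Subgroup Ω} (hV : V ≤ Zc S) : F.IsFullyNormalized V := by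
  refine isFullyNormalized_of_normalized F (hV.trans inf_le_left) (fun s hs => ?_)
  rw [Subgroup.mem_normalizer_iff]
  intro x
  constructor
  · intro hx
    have := mem_Zc_comm (hV hx) hs
    rwa [this, mul_inv_cancel_right]
  · intro hx
    have h2 := mem_Zc_comm (hV hx) (S.inv_mem hs)
    have h3 : s * x * s⁻¹ = x := by
      calc s * x * s⁻¹ = (s * x * s⁻¹) * s⁻¹ * s := by group
        _ = s⁻¹ * (s * x * s⁻¹) * s := by rw [h2]
        _ = x := by group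
    rwa [h3] at hx

variable (hS : IsPGroup 2 S) (hF : F.IsSaturated 2)

include hS hF

theorem eq_one_of_central {V : Subgroup Ω} (hV : V ≤ Zc S) {α : MulAut V} (hα : α ∈ F.autGroup V) {k : ℕ}
    (hk : α ^ 2 ^ k = 1) : α = 1 := by
  have hfn := isFullyNormalized_central F hV
  have hAut := isFullyAutomized_of_isFullyNormalized F hS hF hfn
  have hpg : IsPGroup 2 (Subgroup.zpowers α) := by
    rintro ⟨_, n, rfl⟩
    refine ⟨k, Subtype.ext ?_⟩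
    show (α ^ n) ^ 2 ^ k = 1
    rw [← zpow_natCast, zpow_comm, zpow_natCast, hk, one_zpow]
  obtain ⟨χ, hχ, hc⟩ := IsFullyAutomized.exists_conj F hAut hpg ((Subgroup.zpowers_le).2 hα)
  have h1 := hc α (Subgroup.mem_zpowers α)
  obtain ⟨g, hg, hgc⟩ := (mem_autInducedBy_iff S V _).1 h1
  have h2 : χ * α * χ⁻¹ = 1 := by
    ext x
    rw [hgc x]
    have := mem_Zc_comm (hV x.2) hg
    rw [this, mul_inv_cancel_right]
    rfl
  have e : α = χ⁻¹ * (χ * α * χ⁻¹) * χ := by group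
  rw [e, h2]
  group

theorem odd_orderOf_central {V : Subgroup Ω} (hV : V ≤ Zc S) {α : MulAut V} (hα : α ∈ F.autGroup V) :
    Odd (orderOf α) := by
  have hfinV : Finite V := finite_of_le (hV.trans inf_le_left)
  have hfinA : Finite (MulAut V) := finite_mulAut_of_finite (A := V)
  have hpos : 0 < orderOf α := orderOf_pos α
  by_contra hodd
  rw [Nat.not_odd_iff_even] at hodd
  obtain ⟨m, hm⟩ := hodd
  have h1 : (α ^ m) ^ 2 ^ 1 = 1 := by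
    rw [pow_one, ← pow_mul, show m * 2 = orderOf α by omega, pow_orderOf_eq_one]
  have h2 := eq_one_of_central F hS hF hV (Subgroup.pow_mem _ hα m) h1
  have h3 := orderOf_dvd_of_pow_eq_one h2
  have h4 := Nat.le_of_dvd (by omega) h3
  omega

theorem exists_aut_of_central {W : Subgroup Ω} (hW : W ≤ Zc S) {φ : W →* Ω} (hφ : φ ∈ F.Hom W) (hφZ : φ.range ≤ Zc S) :
    ∃ κ ∈ F.autGroup S, ∀ x : W, ((κ ⟨x, (hW x.2).1⟩ : S) : Ω) = φ x := by
  have hfn := isFullyNormalized_central F hφZ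
  have hrec := isReceptive_of_isFullyNormalized F hS hF hfn
  have hWS : W ≤ S := hW.trans inf_le_left
  have hT : S ≤ extender S W φ := by
    refine le_trans ?_ (centralizerIn_le_extender φ)
    refine fun s hs => ⟨hs, Subgroup.mem_centralizer_iff.2 fun x hx => ?_⟩
    exact (mem_Zc_comm (hW hx) hs).symm
  obtain ⟨ψ, hψ, hext⟩ := IsReceptive.exists_extension F hrec hφ rfl hT hWS
  have hr : ψ.range = S := by
    apply Subgroup.eq_of_le_of_card_ge (range_le F hψ)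
    rw [card_range F hψ]
  obtain ⟨κ, hκ, hκψ⟩ := exists_aut_of_range F hψ hr
  exact ⟨κ, hκ, fun x => (hκψ _).trans (hext x)⟩

omit hS hF in
theorem aut_mem_Zc (κ : MulAut S) {z : S} (hz : (z : Ω) ∈ Zc S) : ((κ z : S) : Ω) ∈ Zc S := by
  refine ⟨(κ z).2, Subgroup.mem_centralizer_iff.2 fun s hs => ?_⟩
  let s' : S := κ.symm ⟨s, hs⟩
  have hs' : κ s' = ⟨s, hs⟩ := κ.apply_symm_apply _
  have h1 : s' * z = z * s' := Subtype.ext (mem_Zc_comm hz s'.2)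
  have h2 := congrArg κ h1
  rw [map_mul, map_mul, hs'] at h2
  exact congrArg Subtype.val h2

omit hS hF in
theorem mem_cen_self {a : Ω} (ha : a ∈ S) : a ∈ centralizerIn S (Subgroup.zpowers a) := by
  refine ⟨ha, Subgroup.mem_centralizer_iff.2 ?_⟩
  rintro _ ⟨n, rfl⟩
  exact (Commute.zpow_self a n).eq

omit hS hF in
theorem zpowers_le_cen {a : Ω} (ha : a ∈ S) : Subgroup.zpowers a ≤ centralizerIn S (Subgroup.zpowers a) :=
  (Subgroup.zpowers_le).2 (mem_cen_self ha)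

omit hS hF in
theorem range_zpowers_le {a z : Ω} {φ : Subgroup.zpowers a →* Ω} (hφ : φ ⟨a, Subgroup.mem_zpowers a⟩ = z) :
    φ.range ≤ Subgroup.zpowers z := by
  rintro _ ⟨⟨_, n, rfl⟩, rfl⟩
  have e : (⟨(fun m : ℤ => a ^ m) n, ⟨n, rfl⟩⟩ : Subgroup.zpowers a) = ⟨a, Subgroup.mem_zpowers a⟩ ^ n := rfl
  refine ⟨n, ?_⟩
  show z ^ n = φ _
  rw [e, map_zpow, hφ]

theorem exists_central_ext {a z : Ω} (ha : a ∈ S) (hz : z ∈ Zc S) (h : F.IsConjElt a z) :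
    ∃ Φ ∈ F.Hom (centralizerIn S (Subgroup.zpowers a)), Φ ⟨a, mem_cen_self ha⟩ = z := by
  obtain ⟨φ, hφ, hφa⟩ := h
  have hV : φ.range ≤ Zc S := (range_zpowers_le hφa).trans ((Subgroup.zpowers_le).2 hz)
  have hfn := isFullyNormalized_central F hV
  have hrec := isReceptive_of_isFullyNormalized F hS hF hfn
  obtain ⟨Φ, hΦ, hext⟩ := IsReceptive.exists_extension F hrec hφ rfl (centralizerIn_le_extender φ) (zpowers_le_cen ha)
  exact ⟨Φ, hΦ, (hext ⟨a, Subgroup.mem_zpowers a⟩).trans hφa⟩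

/-- Two central conjugates of one element are conjugate under `Aut_F(S)`. -/
theorem exists_aut_of_two {a u v : Ω} {φ₁ φ₂ : Subgroup.zpowers a →* Ω} (h₁ : φ₁ ∈ F.Hom (Subgroup.zpowers a))
    (h₂ : φ₂ ∈ F.Hom (Subgroup.zpowers a)) (hu : φ₁ ⟨a, Subgroup.mem_zpowers a⟩ = u)
    (hv : φ₂ ⟨a, Subgroup.mem_zpowers a⟩ = v) (huZ : u ∈ Zc S) (hvZ : v ∈ Zc S) :
    ∃ κ ∈ F.autGroup S, ((κ ⟨u, huZ.1⟩ : S) : Ω) = v := by
  let e : Subgroup.zpowers a ≃* φ₁.range := isoOf φ₁ (F.injective_of_mem h₁) rfl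
  have he : isoHom e ∈ F.Hom (Subgroup.zpowers a) := isoHom_isoOf_mem F h₁ rfl
  let ν : φ₁.range →* Ω := φ₂.comp e.symm.toMonoidHom
  have hν : ν ∈ F.Hom φ₁.range :=
    comp_mem' F (isoHom_symm_mem F he) h₂ (fun v => (e.symm v).2) ν (fun _ => rfl)
  have hW : φ₁.range ≤ Zc S := (range_zpowers_le hu).trans ((Subgroup.zpowers_le).2 huZ)
  have hum : u ∈ φ₁.range := ⟨⟨a, Subgroup.mem_zpowers a⟩, hu⟩
  have hνu : ν ⟨u, hum⟩ = v := by
    have e2 : (⟨u, hum⟩ : φ₁.range) = e ⟨a, Subgroup.mem_zpowers a⟩ := Subtype.ext hu.symm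
    show φ₂ (e.symm ⟨u, hum⟩) = v
    rw [e2, MulEquiv.symm_apply_apply, hv]
  have hνZ : ν.range ≤ Zc S := by
    refine le_trans ?_ ((range_zpowers_le hv).trans ((Subgroup.zpowers_le).2 hvZ))
    rintro _ ⟨t, rfl⟩
    exact ⟨e.symm t, rfl⟩
  obtain ⟨κ, hκ, hκe⟩ := exists_aut_of_central F hS hF hW hν hνZ
  exact ⟨κ, hκ, (hκe ⟨u, hum⟩).trans hνu⟩

omit hS hF in
theorem mem_normalizer_of_finite {X : Subgroup Ω} [Finite X] {y : Ω} (h : ∀ x ∈ X, y * x * y⁻¹ ∈ X) :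
    y ∈ Subgroup.normalizer (X : Set Ω) := by
  let f : X → X := fun x => ⟨y * x * y⁻¹, h x x.2⟩
  have hinj : Function.Injective f := by
    intro a b hab
    have : y * (a : Ω) * y⁻¹ = y * b * y⁻¹ := congrArg Subtype.val hab
    exact Subtype.ext (mul_left_cancel (mul_right_cancel this))
  have hsurj := Finite.surjective_of_injective hinj
  rw [Subgroup.mem_normalizer_iff]
  intro x
  refine ⟨h x, fun hx => ?_⟩
  obtain ⟨u, hu⟩ := hsurj ⟨_, hx⟩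
  have : y * (u : Ω) * y⁻¹ = y * x * y⁻¹ := congrArg Subtype.val hu
  have e : (u : Ω) = x := mul_left_cancel (mul_right_cancel this)
  rw [← e]
  exact u.2

/-- **Step 1.** An element of `S` normalizing a cyclic subgroup of `S` centralizes it. -/
theorem conj_eq_of_mem_zpowers (h : ∀ x ∈ S, ∃ z ∈ Zc S, F.IsConjElt x z) {g y : Ω} (hg : g ∈ S) (hy : y ∈ S)
    (hm : y * g * y⁻¹ ∈ Subgroup.zpowers g) : y * g * y⁻¹ = g := by
  have hXS : Subgroup.zpowers g ≤ S := (Subgroup.zpowers_le).2 hg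
  have hfinX : Finite (Subgroup.zpowers g) := finite_of_le hXS
  have hN : y ∈ Subgroup.normalizer ((Subgroup.zpowers g : Subgroup Ω) : Set Ω) := by
    apply mem_normalizer_of_finite
    rintro _ ⟨n, rfl⟩
    have e : y * (fun m : ℤ => g ^ m) n * y⁻¹ = (y * g * y⁻¹) ^ n := (conj_zpow).symm
    rw [e]
    exact Subgroup.zpow_mem _ hm n
  let α : MulAut (Subgroup.zpowers g) := normAct _ hN
  have hα : α ∈ F.autGroup (Subgroup.zpowers g) :=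
    autInducedBy_le_autGroup F hXS (normAct_mem_autInducedBy S _ hN hy)
  obtain ⟨k, hk⟩ := hS ⟨y, hy⟩
  have hyk : y ^ 2 ^ k = 1 := congrArg Subtype.val hk
  have hαk : α ^ 2 ^ k = 1 := by
    have e : (⟨y, hN⟩ : Subgroup.normalizer ((Subgroup.zpowers g : Subgroup Ω) : Set Ω)) ^ 2 ^ k = 1 := Subtype.ext hyk
    have h2 := congrArg (Subgroup.zpowers g).normalizerMonoidHom e
    rw [map_pow, map_one] at h2
    exact h2
  obtain ⟨z, hz, φ, hφ, hφg⟩ := h g hg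
  have hV : φ.range ≤ Zc S := (range_zpowers_le hφg).trans ((Subgroup.zpowers_le).2 hz)
  have hinj := F.injective_of_mem hφ
  let e₁ : Subgroup.zpowers g ≃* φ.range := isoOf φ hinj rfl
  have he₁ : isoHom e₁ ∈ F.Hom (Subgroup.zpowers g) := isoHom_isoOf_mem F hφ rfl
  have hα' := congr_mem_autGroup F he₁ hα
  have hαk' : (MulAut.congr e₁ α) ^ 2 ^ k = 1 := by
    rw [← map_pow, hαk, map_one]
  have h1 := eq_one_of_central F hS hF hV hα' hαk'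
  have h2 : α = 1 := (map_eq_one_iff (MulAut.congr e₁) (MulAut.congr e₁).injective).1 h1
  have h3 := normAct_apply _ hN ⟨g, Subgroup.mem_zpowers g⟩
  show y * g * y⁻¹ = g
  rw [← h3]
  show ((α ⟨g, Subgroup.mem_zpowers g⟩ : Subgroup.zpowers g) : Ω) = g
  rw [h2]
  rfl

end basic

section main

variable {Ω : Type u} [Group Ω] {S : Subgroup Ω} [Finite S] (F : FusionSystem S)
variable (hS : IsPGroup 2 S) (hF : F.IsSaturated 2) (h : ∀ x ∈ S, ∃ z ∈ Zc S, F.IsConjElt x z)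

include hS hF h

/-- **Step 2.** Involutions commute. -/
theorem involutions_commute {t u : Ω} (ht : t ∈ S) (hu : u ∈ S) (ht2 : t ^ 2 = 1) (hu2 : u ^ 2 = 1) : t * u = u * t := by
  have htinv : t⁻¹ = t := by
    rw [inv_eq_iff_mul_eq_one, ← pow_two, ht2]
  have huinv : u⁻¹ = u := by
    rw [inv_eq_iff_mul_eq_one, ← pow_two, hu2]
  have h1 : t * (t * u) * t⁻¹ = (t * u)⁻¹ := by
    rw [mul_inv_rev, htinv, huinv, ← mul_assoc, ← pow_two, ht2, one_mul]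
  have h2 := conj_eq_of_mem_zpowers F hS hF h (S.mul_mem ht hu) ht
    (by rw [h1]; exact Subgroup.inv_mem _ (Subgroup.mem_zpowers _))
  have h3 : (t * u)⁻¹ = u * t := by rw [mul_inv_rev, htinv, huinv]
  rw [h1, h3] at h2
  exact h2.symm

omit hS hF h in
/-- The subgroup of elements of order at most two. -/
def invSub (hc : ∀ t ∈ S, ∀ u ∈ S, t ^ 2 = 1 → u ^ 2 = 1 → t * u = u * t) : Subgroup Ω where
  carrier := {x | x ∈ S ∧ x ^ 2 = 1}
  mul_mem' := fun {a b} ha hb => ⟨S.mul_mem ha.1 hb.1, by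
    rw [(show Commute a b from hc a ha.1 b hb.1 ha.2 hb.2).mul_pow, ha.2, hb.2, one_mul]⟩
  one_mem' := ⟨S.one_mem, one_pow 2⟩
  inv_mem' := fun {a} ha => ⟨S.inv_mem ha.1, by rw [inv_pow, ha.2, inv_one]⟩

omit hS hF h in
theorem invSub_sc (hc : ∀ t ∈ S, ∀ u ∈ S, t ^ 2 = 1 → u ^ 2 = 1 → t * u = u * t) : F.StronglyClosed (invSub hc) := by
  refine ⟨fun x hx => hx.1, fun Q hQ φ hφ x => ⟨val_mem F hφ x, ?_⟩⟩
  have h1 : x ^ 2 = 1 := Subtype.ext (hQ x.2).2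
  rw [← map_pow, h1, map_one]

/-- **The central step.** -/
theorem comm_of_central {U : Subgroup Ω} (hU : F.StronglyClosed U) (hUZ : U ≤ Zc S)
    (hcomm : ∀ a ∈ S, ∀ b ∈ S, a * b * a⁻¹ * b⁻¹ ∈ U) {x y : Ω} (hx : x ∈ S) (hy : y ∈ S) : x * y = y * x := by
  classical
  have hw : y * x * y⁻¹ * x⁻¹ ∈ U := hcomm y hy x hx
  generalize hwd : y * x * y⁻¹ * x⁻¹ = w at hw
  have hwx : w * x = y * x * y⁻¹ := by rw [← hwd]; group
  have hwZ := hUZ hw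
  obtain ⟨z, hz, hconj⟩ := h x hx
  obtain ⟨Φ, hΦ, hΦx⟩ := exists_central_ext F hS hF hx hz hconj
  have hXS : Subgroup.zpowers x ≤ S := (Subgroup.zpowers_le).2 hx
  have hZC : Zc S ≤ centralizerIn S (Subgroup.zpowers x) := fun u hu =>
    ⟨hu.1, Subgroup.mem_centralizer_iff.2 fun t ht => mem_Zc_comm hu (hXS ht)⟩
  have hUC := hUZ.trans hZC
  have hw₁ : Φ ⟨w, hUC hw⟩ ∈ U :=
    hU.2 U le_rfl (Φ.comp (Subgroup.inclusion hUC)) (restrict_mem F hUC hΦ) ⟨w, hw⟩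
  let D : Subgroup Ω := Subgroup.zpowers x ⊔ Subgroup.zpowers w
  have hDC : D ≤ centralizerIn S (Subgroup.zpowers x) :=
    sup_le (zpowers_le_cen hx) ((Subgroup.zpowers_le).2 (hUC hw))
  have hDS : D ≤ S := hDC.trans inf_le_left
  have hfinD : Finite D := finite_of_le hDS
  let ρ : D →* Ω := Φ.comp (Subgroup.inclusion hDC)
  have hρ : ρ ∈ F.Hom D := restrict_mem F hDC hΦ
  have hρZ : ∀ d : D, ρ d ∈ Zc S := by
    have key : D ≤ ((Zc S).comap Φ).map (centralizerIn S (Subgroup.zpowers x)).subtype := by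
      refine sup_le ((Subgroup.zpowers_le).2 ⟨⟨x, mem_cen_self hx⟩, ?_, rfl⟩) ((Subgroup.zpowers_le).2 ⟨⟨w, hUC hw⟩, hUZ hw₁, rfl⟩)
      show Φ _ ∈ Zc S
      rw [hΦx]
      exact hz
    intro d
    obtain ⟨c, hc, hcd⟩ := key d.2
    have e : c = Subgroup.inclusion hDC d := Subtype.ext hcd
    rw [e] at hc
    exact hc
  have hwc : ∀ {s : Ω}, s ∈ S → s * w = w * s := fun hs => mem_Zc_comm hwZ hs
  have hywy : y⁻¹ * w * y = w := by
    rw [hwc (S.inv_mem hy), mul_assoc, inv_mul_cancel, mul_one]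
  have hyxy : y⁻¹ * x * y = w⁻¹ * x := by
    have e : y⁻¹ * (w * x) * y = x := by rw [hwx]; group
    have e2 : y⁻¹ * (w * x) * y = (y⁻¹ * w * y) * (y⁻¹ * x * y) := by group
    rw [e2, hywy] at e
    exact eq_inv_mul_iff_mul_eq.2 e
  have hDy : ∀ d ∈ D, y⁻¹ * d * y ∈ D := by
    have hle : D ≤ D.comap (MulAut.conj y⁻¹).toMonoidHom := by
      refine sup_le ((Subgroup.zpowers_le).2 ?_) ((Subgroup.zpowers_le).2 ?_)
      · show y⁻¹ * x * y⁻¹⁻¹ ∈ D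
        rw [inv_inv, hyxy]
        exact D.mul_mem (D.inv_mem (Subgroup.mem_sup_right (Subgroup.mem_zpowers w))) (Subgroup.mem_sup_left (Subgroup.mem_zpowers x))
      · show y⁻¹ * w * y⁻¹⁻¹ ∈ D
        rw [inv_inv, hywy]
        exact Subgroup.mem_sup_right (Subgroup.mem_zpowers w)
    intro d hd
    have := hle hd
    have e : (MulAut.conj y⁻¹).toMonoidHom d = y⁻¹ * d * y := by
      show y⁻¹ * d * y⁻¹⁻¹ = _
      rw [inv_inv]
    rwa [Subgroup.mem_comap, e] at this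
  let σ : D →* D :=
    { toFun := fun d => ⟨y⁻¹ * d * y, hDy d d.2⟩
      map_one' := by
        apply Subtype.ext
        show y⁻¹ * 1 * y = 1
        group
      map_mul' := by
        intro a b
        apply Subtype.ext
        show y⁻¹ * ((a : Ω) * b) * y = (y⁻¹ * a * y) * (y⁻¹ * b * y)
        group }
  let θ : D →* Ω := ρ.comp σ
  have hχ : D.subtype.comp σ ∈ F.Hom D :=
    conj_mem' F hDS (S.inv_mem hy) _ (fun d => by
      show y⁻¹ * d * y = y⁻¹ * d * y⁻¹⁻¹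
      rw [inv_inv])
  have hθ : θ ∈ F.Hom D := comp_mem' F hχ hρ (fun d => (σ d).2) θ (fun _ => rfl)
  have hinj := F.injective_of_mem hρ
  let e₁ : D ≃* ρ.range := isoOf ρ hinj rfl
  have he₁ : isoHom e₁ ∈ F.Hom D := isoHom_isoOf_mem F hρ rfl
  let μ : ρ.range →* Ω := θ.comp e₁.symm.toMonoidHom
  have hμ : μ ∈ F.Hom ρ.range :=
    comp_mem' F (isoHom_symm_mem F he₁) hθ (fun v => (e₁.symm v).2) μ (fun _ => rfl)
  have hμρ : ∀ d : D, μ ⟨ρ d, ⟨d, rfl⟩⟩ = θ d := by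
    intro d
    show θ (e₁.symm ⟨ρ d, ⟨d, rfl⟩⟩) = θ d
    have e : (⟨ρ d, ⟨d, rfl⟩⟩ : ρ.range) = e₁ d := rfl
    rw [e, MulEquiv.symm_apply_apply]
  have hfinR : Finite ρ.range := finite_of_le (range_le F hρ)
  have hμr : μ.range = ρ.range := by
    apply Subgroup.eq_of_le_of_card_ge
    · rintro _ ⟨v, rfl⟩
      exact ⟨σ (e₁.symm v), rfl⟩
    · rw [card_range F hμ]
  obtain ⟨α, hα, hαμ⟩ := exists_aut_of_range F hμ hμr
  have hV : ρ.range ≤ Zc S := by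
    rintro _ ⟨d, rfl⟩
    exact hρZ d
  have hodd := odd_orderOf_central F hS hF hV hα
  let dx : D := ⟨x, Subgroup.mem_sup_left (Subgroup.mem_zpowers x)⟩
  let dw : D := ⟨w, Subgroup.mem_sup_right (Subgroup.mem_zpowers w)⟩
  let vz : ρ.range := ⟨ρ dx, ⟨dx, rfl⟩⟩
  let vw : ρ.range := ⟨ρ dw, ⟨dw, rfl⟩⟩
  have hαw : α vw = vw := by
    apply Subtype.ext
    rw [hαμ]
    show μ ⟨ρ dw, ⟨dw, rfl⟩⟩ = ρ dw
    rw [hμρ]
    show ρ (σ dw) = ρ dw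
    have e : σ dw = dw := Subtype.ext hywy
    rw [e]
  have hαzw : α (vz * vw) = vz := by
    apply Subtype.ext
    rw [hαμ]
    have e : (vz * vw : ρ.range) = ⟨ρ (dx * dw), ⟨dx * dw, rfl⟩⟩ := by
      apply Subtype.ext
      show ρ dx * ρ dw = ρ (dx * dw)
      rw [map_mul]
    rw [e, hμρ]
    show ρ (σ (dx * dw)) = ρ dx
    have e2 : σ (dx * dw) = dx := by
      apply Subtype.ext
      show y⁻¹ * (x * w) * y = x
      rw [hwc hx, hwx]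
      group
    rw [e2]
  have hαz : α vz = vz * vw⁻¹ := by
    have e := hαzw
    rw [map_mul, hαw] at e
    exact eq_mul_inv_of_mul_eq e
  have hαn : ∀ n : ℕ, (α ^ n) vw = vw ∧ (α ^ n) vz = vz * (vw⁻¹) ^ n := by
    intro n
    induction n with
    | zero => exact ⟨rfl, by simp⟩
    | succ n ih =>
      obtain ⟨h1, h2⟩ := ih
      refine ⟨?_, ?_⟩
      · rw [pow_succ, MulAut.mul_apply, hαw, h1]
      · rw [pow_succ, MulAut.mul_apply, hαz, map_mul, map_inv, h1, h2, mul_assoc, ← pow_succ]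
  have hm := (hαn (orderOf α)).2
  rw [pow_orderOf_eq_one] at hm
  have hvw1 : (vw⁻¹) ^ orderOf α = 1 := by
    have e : vz = vz * (vw⁻¹) ^ orderOf α := hm
    exact (mul_eq_left.1 e.symm)
  have hvw2 : vw ^ orderOf α = 1 := by
    rw [inv_pow, inv_eq_one] at hvw1
    exact hvw1
  obtain ⟨k, hk⟩ := hS ⟨ρ dw, (hρZ dw).1⟩
  have hvw3 : vw ^ 2 ^ k = 1 := by
    apply Subtype.ext
    have h9 : (ρ dw) ^ 2 ^ k = 1 := congrArg Subtype.val hk
    exact h9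
  have hvw : vw = 1 := by
    have h1 := orderOf_dvd_of_pow_eq_one hvw2
    have h2 := orderOf_dvd_of_pow_eq_one hvw3
    have h3 : Nat.Coprime (orderOf α) (2 ^ k) := Nat.Coprime.pow_right k (Nat.coprime_two_right.2 hodd)
    have h4 := Nat.Coprime.eq_one_of_dvd ((Nat.Coprime.coprime_dvd_left h1 h3)) h2
    exact orderOf_eq_one_iff.1 h4
  have hρw : ρ dw = ρ 1 := by
    rw [map_one]
    exact congrArg Subtype.val hvw
  have hdw : dw = 1 := hinj hρw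
  have hw1 : w = 1 := congrArg Subtype.val hdw
  rw [hw1, one_mul] at hwx
  have e : y * x = x * y := by
    calc y * x = (y * x * y⁻¹) * y := by group
      _ = x * y := by rw [← hwx]
  exact e.symm

omit hS hF h in
theorem exists_preimage {X D : Subgroup Ω} [Finite X] (hXD : X ≤ D) {Ψ : D →* Ω} (hinj : Function.Injective Ψ)
    (hv : ∀ x ∈ X, ∀ hx : x ∈ D, Ψ ⟨x, hx⟩ ∈ X) {y : Ω} (hy : y ∈ X) : ∃ x ∈ X, ∃ hx : x ∈ D, Ψ ⟨x, hx⟩ = y := by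
  let f : X → X := fun x => ⟨Ψ ⟨x, hXD x.2⟩, hv x x.2 _⟩
  have finj : Function.Injective f := by
    intro a b hab
    have := congrArg Subtype.val hab
    have h2 := hinj this
    have h3 : (a : Ω) = b := congrArg (fun t : D => (t : Ω)) h2
    exact Subtype.ext h3
  obtain ⟨x, hx⟩ := Finite.surjective_of_injective finj ⟨y, hy⟩
  exact ⟨x, x.2, hXD x.2, congrArg Subtype.val hx⟩

omit hS hF h in
theorem commutator_mul_central {G : Type*} [Group G] {ρ ρ' c d : G} (h1 : Commute ρ c) (h2 : Commute ρ d)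
    (h3 : Commute ρ' c) (h4 : Commute ρ' d) (h5 : Commute ρ ρ') :
    (ρ * c) * (ρ' * d) * (ρ * c)⁻¹ * (ρ' * d)⁻¹ = c * d * c⁻¹ * d⁻¹ := by
  have hX : Commute ρ (c * d * c⁻¹ * d⁻¹) := ((h1.mul_right h2).mul_right h1.inv_right).mul_right h2.inv_right
  have hX' : Commute ρ' (c * d * c⁻¹ * d⁻¹) := ((h3.mul_right h4).mul_right h3.inv_right).mul_right h4.inv_right
  have e1 : d⁻¹ * ρ⁻¹ = ρ⁻¹ * d⁻¹ := (h2.inv_inv).eq.symm
  calc (ρ * c) * (ρ' * d) * (ρ * c)⁻¹ * (ρ' * d)⁻¹ = ρ * (c * ρ') * d * c⁻¹ * ρ⁻¹ * (d⁻¹ * ρ'⁻¹) := by group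
    _ = ρ * (ρ' * c) * d * c⁻¹ * ρ⁻¹ * (d⁻¹ * ρ'⁻¹) := by rw [h3.eq]
    _ = ρ * ρ' * (c * d * c⁻¹) * (ρ⁻¹ * d⁻¹) * ρ'⁻¹ := by group
    _ = ρ * ρ' * (c * d * c⁻¹) * (d⁻¹ * ρ⁻¹) * ρ'⁻¹ := by rw [e1]
    _ = ρ * (ρ' * (c * d * c⁻¹ * d⁻¹)) * ρ⁻¹ * ρ'⁻¹ := by group
    _ = ρ * ((c * d * c⁻¹ * d⁻¹) * ρ') * ρ⁻¹ * ρ'⁻¹ := by rw [hX'.eq]
    _ = (ρ * (c * d * c⁻¹ * d⁻¹)) * (ρ' * ρ⁻¹) * ρ'⁻¹ := by group
    _ = ((c * d * c⁻¹ * d⁻¹) * ρ) * (ρ⁻¹ * ρ') * ρ'⁻¹ := by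
        rw [hX.eq, (h5.inv_left).eq.symm]
    _ = c * d * c⁻¹ * d⁻¹ := by group

omit hS hF h in
/-- The centralizer of the subgroup of elements of order at most two. -/
abbrev C0 (hc : ∀ t ∈ S, ∀ u ∈ S, t ^ 2 = 1 → u ^ 2 = 1 → t * u = u * t) : Subgroup Ω := centralizerIn S (invSub hc)

omit hS hF h in
theorem invSub_le_C0 (hc : ∀ t ∈ S, ∀ u ∈ S, t ^ 2 = 1 → u ^ 2 = 1 → t * u = u * t) : invSub hc ≤ C0 hc := fun r hr =>
  ⟨hr.1, Subgroup.mem_centralizer_iff.2 fun t ht => hc t ht.1 r hr.1 ht.2 hr.2⟩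

omit hS hF h in
theorem Zc_le_C0 (hc : ∀ t ∈ S, ∀ u ∈ S, t ^ 2 = 1 → u ^ 2 = 1 → t * u = u * t) : Zc S ≤ C0 hc := fun z hz =>
  ⟨hz.1, Subgroup.mem_centralizer_iff.2 fun t ht => mem_Zc_comm hz ht.1⟩

omit hS hF h in
theorem image_invSub (hc : ∀ t ∈ S, ∀ u ∈ S, t ^ 2 = 1 → u ^ 2 = 1 → t * u = u * t) {D : Subgroup Ω} (hD : invSub hc ≤ D)
    {Ψ : D →* Ω} (hΨ : Ψ ∈ F.Hom D) {x : Ω} (hx : x ∈ invSub hc) (hxD : x ∈ D) : Ψ ⟨x, hxD⟩ ∈ invSub hc :=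
  (invSub_sc F hc).2 _ le_rfl (Ψ.comp (Subgroup.inclusion hD)) (restrict_mem F hD hΨ) ⟨x, hx⟩

omit hS hF h in
theorem image_C0 (hc : ∀ t ∈ S, ∀ u ∈ S, t ^ 2 = 1 → u ^ 2 = 1 → t * u = u * t) {D : Subgroup Ω} (hD : C0 hc ≤ D)
    {Ψ : D →* Ω} (hΨ : Ψ ∈ F.Hom D) {c : Ω} (hcm : c ∈ C0 hc) (hcD : c ∈ D) : Ψ ⟨c, hcD⟩ ∈ C0 hc := by
  have hRD := (invSub_le_C0 hc).trans hD
  have hfinR : Finite (invSub hc) := finite_of_le (fun x hx => hx.1)
  refine ⟨val_mem F hΨ _, Subgroup.mem_centralizer_iff.2 fun r hr => ?_⟩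
  obtain ⟨r', hr', hr'D, e⟩ := exists_preimage hRD (F.injective_of_mem hΨ) (fun x hx hxD => image_invSub F hc hRD hΨ hx hxD) hr
  rw [← e, ← map_mul, ← map_mul]
  congr 1
  apply Subtype.ext
  exact Subgroup.mem_centralizer_iff.1 hcm.2 r' hr'

omit hS hF h in
theorem image_comm (hc : ∀ t ∈ S, ∀ u ∈ S, t ^ 2 = 1 → u ^ 2 = 1 → t * u = u * t) {D : Subgroup Ω} (hD : C0 hc ≤ D)
    {Ψ : D →* Ω} (hΨ : Ψ ∈ F.Hom D) {t : Ω} (ht : t ∈ ⁅C0 hc, C0 hc⁆) (htD : t ∈ D) : Ψ ⟨t, htD⟩ ∈ ⁅C0 hc, C0 hc⁆ := by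
  have key : ⁅C0 hc, C0 hc⁆ ≤ ((⁅C0 hc, C0 hc⁆ : Subgroup Ω).comap Ψ).map D.subtype := by
    rw [Subgroup.commutator_le]
    intro c hcm d hdm
    refine ⟨⁅(⟨c, hD hcm⟩ : D), (⟨d, hD hdm⟩ : D)⁆, ?_, rfl⟩
    show Ψ (⁅(⟨c, hD hcm⟩ : D), (⟨d, hD hdm⟩ : D)⁆) ∈ (⁅C0 hc, C0 hc⁆ : Subgroup Ω)
    rw [map_commutatorElement]
    exact Subgroup.commutator_mem_commutator (image_C0 F hc hD hΨ hcm _) (image_C0 F hc hD hΨ hdm _)
  obtain ⟨x, hx, hxt⟩ := key ht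
  have e : x = ⟨t, htD⟩ := Subtype.ext hxt
  rw [← e]
  exact hx

omit hS hF h in
theorem comm_le_Zc (hc : ∀ t ∈ S, ∀ u ∈ S, t ^ 2 = 1 → u ^ 2 = 1 → t * u = u * t)
    (hcomm : ∀ a ∈ S, ∀ b ∈ S, a * b * a⁻¹ * b⁻¹ ∈ invSub hc) : ⁅C0 hc, C0 hc⁆ ≤ Zc S := by
  rw [Subgroup.commutator_le]
  intro c hcm d hdm
  refine ⟨S.mul_mem (S.mul_mem (S.mul_mem hcm.1 hdm.1) (S.inv_mem hcm.1)) (S.inv_mem hdm.1),
    Subgroup.mem_centralizer_iff.2 fun s hs => ?_⟩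
  have hρ := hcomm s hs c hcm.1
  have hρ' := hcomm s hs d hdm.1
  have e1 : s * c * s⁻¹ = (s * c * s⁻¹ * c⁻¹) * c := by group
  have e2 : s * d * s⁻¹ = (s * d * s⁻¹ * d⁻¹) * d := by group
  have hcρ : ∀ r ∈ invSub hc, ∀ x ∈ C0 hc, Commute r x := fun r hr x hx =>
    Subgroup.mem_centralizer_iff.1 (show x ∈ Subgroup.centralizer ((invSub hc : Subgroup Ω) : Set Ω) from hx.2) r hr
  have h1 : s * (c * d * c⁻¹ * d⁻¹) * s⁻¹ = c * d * c⁻¹ * d⁻¹ := by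
    calc s * (c * d * c⁻¹ * d⁻¹) * s⁻¹
        = (s * c * s⁻¹) * (s * d * s⁻¹) * (s * c * s⁻¹)⁻¹ * (s * d * s⁻¹)⁻¹ := by group
      _ = ((s * c * s⁻¹ * c⁻¹) * c) * ((s * d * s⁻¹ * d⁻¹) * d) * ((s * c * s⁻¹ * c⁻¹) * c)⁻¹ * ((s * d * s⁻¹ * d⁻¹) * d)⁻¹ := by
          rw [← e1, ← e2]
      _ = c * d * c⁻¹ * d⁻¹ := commutator_mul_central (hcρ _ hρ _ hcm) (hcρ _ hρ _ hdm) (hcρ _ hρ' _ hcm) (hcρ _ hρ' _ hdm)
          (hc _ hρ.1 _ hρ'.1 hρ.2 hρ'.2)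
  show s * (c * d * c⁻¹ * d⁻¹) = (c * d * c⁻¹ * d⁻¹) * s
  calc s * (c * d * c⁻¹ * d⁻¹) = (s * (c * d * c⁻¹ * d⁻¹) * s⁻¹) * s := by group
    _ = (c * d * c⁻¹ * d⁻¹) * s := by rw [h1]

omit hS hF h in
theorem comm_le_invSub (hc : ∀ t ∈ S, ∀ u ∈ S, t ^ 2 = 1 → u ^ 2 = 1 → t * u = u * t)
    (hcomm : ∀ a ∈ S, ∀ b ∈ S, a * b * a⁻¹ * b⁻¹ ∈ invSub hc) : ⁅C0 hc, C0 hc⁆ ≤ invSub hc := by
  rw [Subgroup.commutator_le]
  intro c hcm d hdm
  exact hcomm c hcm.1 d hdm.1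

/-- The commutator subgroup of the centralizer is strongly closed. -/
theorem comm_sc (hc : ∀ t ∈ S, ∀ u ∈ S, t ^ 2 = 1 → u ^ 2 = 1 → t * u = u * t)
    (hcomm : ∀ a ∈ S, ∀ b ∈ S, a * b * a⁻¹ * b⁻¹ ∈ invSub hc) : F.StronglyClosed ⁅C0 hc, C0 hc⁆ := by
  have hUZ := comm_le_Zc hc hcomm
  have hUR := comm_le_invSub hc hcomm
  refine ⟨hUZ.trans inf_le_left, fun Q hQ φ hφ x => ?_⟩
  have hxU : (x : Ω) ∈ ⁅C0 hc, C0 hc⁆ := hQ x.2
  have hu' : φ x ∈ invSub hc := (invSub_sc F hc).2 Q (hQ.trans hUR) φ hφ x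
  obtain ⟨z', hz', hconj⟩ := h _ hu'.1
  obtain ⟨Φ, hΦ, hΦe⟩ := exists_central_ext F hS hF hu'.1 hz' hconj
  have hD : C0 hc ≤ centralizerIn S (Subgroup.zpowers (φ x)) := by
    refine fun c hc' => ⟨hc'.1, Subgroup.mem_centralizer_iff.2 ?_⟩
    rintro _ ⟨n, rfl⟩
    have h1 : Commute (φ x) c := Subgroup.mem_centralizer_iff.1 hc'.2 _ hu'
    exact h1.zpow_left n
  -- the two central conjugates of `x`
  have hxS : (x : Ω) ∈ S := (hUZ hxU).1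
  have hzx : Subgroup.zpowers (x : Ω) ≤ Q := (Subgroup.zpowers_le).2 x.2
  let φ₀ : Subgroup.zpowers (x : Ω) →* Ω := φ.comp (Subgroup.inclusion hzx)
  have hφ₀ : φ₀ ∈ F.Hom _ := restrict_mem F hzx hφ
  have hφ₀z : ∀ t : Subgroup.zpowers (x : Ω), φ₀ t ∈ Subgroup.zpowers (φ x) := by
    rintro ⟨_, n, rfl⟩
    refine ⟨n, ?_⟩
    have e : Subgroup.inclusion hzx (⟨(fun m : ℤ => (x : Ω) ^ m) n, ⟨n, rfl⟩⟩ : Subgroup.zpowers (x : Ω)) = x ^ n := rfl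
    show φ x ^ n = φ (Subgroup.inclusion hzx _)
    rw [e, map_zpow]
  let φ₂ : Subgroup.zpowers (x : Ω) →* Ω :=
    (Φ.comp (Subgroup.inclusion (zpowers_le_cen hu'.1))).comp (φ₀.codRestrict _ hφ₀z)
  have hφ₂ : φ₂ ∈ F.Hom _ := comp_mem' F hφ₀ (restrict_mem F (zpowers_le_cen hu'.1) hΦ) hφ₀z φ₂ (fun _ => rfl)
  obtain ⟨κ, hκ, hκe⟩ := exists_aut_of_two F hS hF (a := (x : Ω)) (subtype_mem F ((Subgroup.zpowers_le).2 hxS)) hφ₂ rfl hΦe (hUZ hxU) hz'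
  have hκm := autHom_mem F le_rfl hκ
  have hz'U : z' ∈ ⁅C0 hc, C0 hc⁆ := by
    have h2 := image_comm F hc (D := S) (fun c hc' => hc'.1) hκm hxU hxS
    have h3 : autHom κ ⟨x, hxS⟩ = z' := hκe
    rwa [h3] at h2
  have hfinU : Finite ↥(⁅C0 hc, C0 hc⁆ : Subgroup Ω) := finite_of_le (hUZ.trans inf_le_left)
  have hUD := hUR.trans ((invSub_le_C0 hc).trans hD)
  obtain ⟨t, ht, htD, e⟩ := exists_preimage hUD (F.injective_of_mem hΦ)
    (fun y hy hyD => image_comm F hc hD hΦ hy hyD) hz'U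
  have e2 := F.injective_of_mem hΦ (e.trans hΦe.symm)
  have e3 : t = φ x := congrArg Subtype.val e2
  rw [← e3]
  exact ht

/-- The final step. -/
theorem mem_C0_of_sq (hc : ∀ t ∈ S, ∀ u ∈ S, t ^ 2 = 1 → u ^ 2 = 1 → t * u = u * t)
    (hcomm : ∀ a ∈ S, ∀ b ∈ S, a * b * a⁻¹ * b⁻¹ ∈ invSub hc)
    (hab : ∀ c ∈ C0 hc, ∀ d ∈ C0 hc, c * d = d * c) {y : Ω} (hy : y ∈ S) (hy2 : y ^ 2 ∈ C0 hc) : y ∈ C0 hc := by
  have ha : y ^ 2 ∈ S := hy2.1
  obtain ⟨ζ, hζ, φ, hφ, hφy⟩ := h y hy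
  have hza : Subgroup.zpowers (y ^ 2) ≤ Subgroup.zpowers y := (Subgroup.zpowers_le).2 (Subgroup.npow_mem_zpowers y 2)
  let φ₁ : Subgroup.zpowers (y ^ 2) →* Ω := φ.comp (Subgroup.inclusion hza)
  have hφ₁ : φ₁ ∈ F.Hom _ := restrict_mem F hza hφ
  have hφ₁a : φ₁ ⟨y ^ 2, Subgroup.mem_zpowers _⟩ = ζ ^ 2 := by
    have e : Subgroup.inclusion hza ⟨y ^ 2, Subgroup.mem_zpowers _⟩ = (⟨y, Subgroup.mem_zpowers y⟩ : Subgroup.zpowers y) ^ 2 := rfl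
    show φ (Subgroup.inclusion hza _) = _
    rw [e, map_pow, hφy]
  have hζ2 : ζ ^ 2 ∈ Zc S := (Zc S).pow_mem hζ 2
  obtain ⟨za, hza', hconj⟩ := h _ ha
  obtain ⟨Φ, hΦ, hΦa⟩ := exists_central_ext F hS hF ha hza' hconj
  have hD : C0 hc ≤ centralizerIn S (Subgroup.zpowers (y ^ 2)) := by
    refine fun c hc' => ⟨hc'.1, Subgroup.mem_centralizer_iff.2 ?_⟩
    rintro _ ⟨n, rfl⟩
    have h1 : Commute (y ^ 2) c := hab _ hy2 _ hc'
    exact h1.zpow_left n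
  obtain ⟨κ, hκ, hκe⟩ := exists_aut_of_two F hS hF hφ₁ (restrict_mem F (zpowers_le_cen ha) hΦ) hφ₁a hΦa hζ2 hza'
  -- the element `ξ = κ ζ`
  have hξ : ((κ ⟨ζ, hζ.1⟩ : S) : Ω) ∈ Zc S := aut_mem_Zc κ (z := ⟨ζ, hζ.1⟩) hζ
  have hκ2 : ((κ ⟨ζ, hζ.1⟩ : S) : Ω) ^ 2 = za := by
    rw [← hκe]
    have e : (⟨ζ ^ 2, hζ2.1⟩ : S) = (⟨ζ, hζ.1⟩ : S) ^ 2 := rfl
    rw [e, map_pow]
    rfl
  have hfinC : Finite (C0 hc) := finite_of_le inf_le_left
  obtain ⟨b, hb, hbD, e⟩ := exists_preimage hD (F.injective_of_mem hΦ)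
    (fun x hx hxD => image_C0 F hc hD hΦ hx hxD) (Zc_le_C0 hc hξ)
  have hb2 : b ^ 2 = y ^ 2 := by
    have h1 : Φ ((⟨b, hbD⟩ : centralizerIn S (Subgroup.zpowers (y ^ 2))) ^ 2) = Φ ⟨y ^ 2, mem_cen_self ha⟩ := by
      rw [map_pow, e, hκ2, hΦa]
    exact congrArg Subtype.val (F.injective_of_mem hΦ h1)
  -- squares in the centralizer are central
  have hy2Z : y ^ 2 ∈ Zc S := by
    refine ⟨ha, Subgroup.mem_centralizer_iff.2 fun s hs => ?_⟩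
    rw [← hb2]
    have hρ := hcomm s hs b hb.1
    have h1 : Commute (s * b * s⁻¹ * b⁻¹) b := Subgroup.mem_centralizer_iff.1 hb.2 _ hρ
    have e1 : s * b * s⁻¹ = (s * b * s⁻¹ * b⁻¹) * b := by group
    have h2 : (s * b * s⁻¹) ^ 2 = b ^ 2 := by
      rw [e1, h1.mul_pow, hρ.2, one_mul]
    have h3 : (s * b * s⁻¹) ^ 2 = s * b ^ 2 * s⁻¹ := conj_pow
    rw [h3] at h2
    calc s * b ^ 2 = (s * b ^ 2 * s⁻¹) * s := by group
      _ = b ^ 2 * s := by rw [h2]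
  -- now `y ^ 2` is the square of a central element
  obtain ⟨κ₂, hκ₂, hκ₂e⟩ := exists_aut_of_two F hS hF hφ₁ (subtype_mem F ((Subgroup.zpowers_le).2 ha)) hφ₁a rfl hζ2 hy2Z
  have hv := aut_mem_Zc κ₂ (z := ⟨ζ, hζ.1⟩) hζ
  have hκ₂e' : ((κ₂ ⟨ζ ^ 2, hζ2.1⟩ : S) : Ω) = y ^ 2 := hκ₂e
  have hv2 : ((κ₂ ⟨ζ, hζ.1⟩ : S) : Ω) ^ 2 = y ^ 2 := by
    rw [← hκ₂e']
    have e : (⟨ζ ^ 2, hζ2.1⟩ : S) = (⟨ζ, hζ.1⟩ : S) ^ 2 := rfl
    rw [e, map_pow]
    rfl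
  generalize ((κ₂ ⟨ζ, hζ.1⟩ : S) : Ω) = v at hv hv2
  have hcv : Commute y v⁻¹ := by
    have : y * v = v * y := mem_Zc_comm hv hy
    exact (show Commute y v from this).inv_right
  have h5 : (y * v⁻¹) ^ 2 = 1 := by
    rw [hcv.mul_pow, inv_pow, hv2, mul_inv_cancel]
  have h6 : y * v⁻¹ ∈ invSub hc := ⟨S.mul_mem hy (S.inv_mem hv.1), h5⟩
  have h7 := (C0 hc).mul_mem (invSub_le_C0 hc h6) (Zc_le_C0 hc hv)
  rwa [inv_mul_cancel_right] at h7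

/-- The whole of `S` centralizes the involutions. -/
theorem le_C0 (hc : ∀ t ∈ S, ∀ u ∈ S, t ^ 2 = 1 → u ^ 2 = 1 → t * u = u * t)
    (hcomm : ∀ a ∈ S, ∀ b ∈ S, a * b * a⁻¹ * b⁻¹ ∈ invSub hc)
    (hab : ∀ c ∈ C0 hc, ∀ d ∈ C0 hc, c * d = d * c) {y : Ω} (hy : y ∈ S) : y ∈ C0 hc := by
  have key : ∀ k : ℕ, ∀ y ∈ S, y ^ 2 ^ k ∈ C0 hc → y ∈ C0 hc := by
    intro k
    induction k with
    | zero =>
      intro y _ h1
      simpa using h1
    | succ k ih =>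
      intro y hy h1
      apply ih y hy
      apply mem_C0_of_sq F hS hF h hc hcomm hab (S.pow_mem hy _)
      rwa [← pow_mul, ← pow_succ]
  obtain ⟨k, hk⟩ := hS ⟨y, hy⟩
  apply key k y hy
  have : y ^ 2 ^ k = 1 := congrArg Subtype.val hk
  rw [this]
  exact Subgroup.one_mem _

/-- The quotient step. -/
theorem comm_mem_of_sc
    (IH : ∀ (Ω' : Type u) [Group Ω'] (S' : Subgroup Ω') [Finite S'], Nat.card S' < Nat.card S → IsPGroup 2 S' →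
      ∀ F' : FusionSystem S', F'.IsSaturated 2 → (∀ x ∈ S', ∃ z ∈ Zc S', F'.IsConjElt x z) → ∀ a ∈ S', ∀ b ∈ S', a * b = b * a)
    {U : Subgroup Ω} (hU : F.StronglyClosed U) (hne : U ≠ ⊥) {a b : Ω} (ha : a ∈ S) (hb : b ∈ S) :
    a * b * a⁻¹ * b⁻¹ ∈ U := by
  classical
  have hUS : U ≤ S := hU.1
  haveI hUn : (U.subgroupOf S).Normal :=
    (Subgroup.normal_subgroupOf_iff_le_normalizer hUS).2 (Cfsg.Agent.Lib.FusionExt.Normal.sc_le_normalizer F hU)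
  let θ : S →* (↥S ⧸ U.subgroupOf S) := QuotientGroup.mk' (U.subgroupOf S)
  have hθ : ∀ s : S, θ s = 1 ↔ (s : Ω) ∈ U := by
    intro s
    show ((s : ↥S ⧸ U.subgroupOf S)) = 1 ↔ _
    rw [QuotientGroup.eq_one_iff]
    rfl
  have hθr : θ.range = ⊤ := MonoidHom.range_eq_top.2 (QuotientGroup.mk'_surjective _)
  obtain ⟨E, hE⟩ := Cfsg.Agent.Lib.FusionExt.Factor.exists_isFactorSystem F θ hU hθ hθr
  have hsurj := Cfsg.Agent.Lib.FusionExt.FactorExt.isSurjectiveMorphism_of_isFactorSystem F θ hS hF hU hE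
  have hEs : E.IsSaturated 2 := Cfsg.Agent.Lib.FusionExt.FactorSat.image_isSaturated θ F E hS hF hsurj
  have hS'p : IsPGroup 2 ↥(⊤ : Subgroup (↥S ⧸ U.subgroupOf S)) := IsPGroup.to_subgroup (hS.to_quotient _) _
  have hcard : Nat.card ↥(⊤ : Subgroup (↥S ⧸ U.subgroupOf S)) < Nat.card S := by
    rw [Subgroup.card_top]
    have h1 := Subgroup.card_eq_card_quotient_mul_card_subgroup (U.subgroupOf S)
    have h2 : Nat.card ↥(U.subgroupOf S) = Nat.card U := Nat.card_congr (Subgroup.subgroupOfEquivOfLe hUS).toEquiv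
    have hfinU : Finite U := finite_of_le hUS
    have h3 : 1 < Nat.card U := by
      by_contra hc
      have hc2 : Nat.card U = 1 := by
        have : 0 < Nat.card U := Nat.card_pos
        omega
      exact hne (Subgroup.eq_bot_of_card_eq U hc2)
    have h4 : 0 < Nat.card (↥S ⧸ U.subgroupOf S) := Nat.card_pos
    rw [h1, h2]
    nlinarith
  have hE' : ∀ x ∈ (⊤ : Subgroup (↥S ⧸ U.subgroupOf S)), ∃ z ∈ Zc (⊤ : Subgroup (↥S ⧸ U.subgroupOf S)), E.IsConjElt x z := by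
    intro x _
    obtain ⟨s, rfl⟩ := QuotientGroup.mk'_surjective (U.subgroupOf S) x
    obtain ⟨z, hz, φ, hφ, hφs⟩ := h s s.2
    obtain ⟨φ', hφ', hP, hval, hP', hind⟩ := hsurj.1.2 _ φ hφ
    have hzS : z ∈ S := hz.1
    refine ⟨θ ⟨z, hzS⟩, ⟨Subgroup.mem_top _, Subgroup.mem_centralizer_iff.2 ?_⟩, ?_⟩
    · intro t _
      obtain ⟨t', rfl⟩ := QuotientGroup.mk'_surjective (U.subgroupOf S) t
      have h1 : t' * (⟨z, hzS⟩ : S) = ⟨z, hzS⟩ * t' := Subtype.ext (mem_Zc_comm hz t'.2)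
      have h2 := congrArg θ h1
      rwa [map_mul, map_mul] at h2
    · have hX : imageAlong θ (Subgroup.zpowers (s : Ω)) = Subgroup.zpowers (θ s) := by
        apply le_antisymm
        · rintro _ ⟨⟨t, ht⟩, ⟨n, hn⟩, rfl⟩
          refine ⟨n, ?_⟩
          have e : (⟨t, ht⟩ : S) = s ^ n := Subtype.ext hn.symm
          show θ s ^ n = θ ⟨t, ht⟩
          rw [e, map_zpow]
        · rw [Subgroup.zpowers_le]
          exact ⟨s, Subgroup.mem_zpowers (s : Ω), rfl⟩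
      have key : ∀ X : Subgroup (↥S ⧸ U.subgroupOf S), X = Subgroup.zpowers (θ s) → ∀ ψ ∈ E.Hom X, ∀ hm : θ s ∈ X,
          ψ ⟨θ s, hm⟩ = θ ⟨z, hzS⟩ → E.IsConjElt (θ s) (θ ⟨z, hzS⟩) := by
        rintro X rfl ψ hψ hm e
        exact ⟨ψ, hψ, e⟩
      refine key _ hX φ' hφ' (hP' ⟨s, Subgroup.mem_zpowers _⟩) ?_
      have h1 := hind ⟨s, Subgroup.mem_zpowers _⟩
      have h2 : (⟨φ ⟨s, Subgroup.mem_zpowers _⟩, hval ⟨s, Subgroup.mem_zpowers _⟩⟩ : S) = ⟨z, hzS⟩ := Subtype.ext hφs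
      rw [h2] at h1
      exact h1
  have hab := IH _ ⊤ hcard hS'p E hEs hE' (θ ⟨a, ha⟩) (Subgroup.mem_top _) (θ ⟨b, hb⟩) (Subgroup.mem_top _)
  have h1 : θ (⟨a, ha⟩ * ⟨b, hb⟩ * (⟨a, ha⟩ : S)⁻¹ * (⟨b, hb⟩ : S)⁻¹) = 1 := by
    rw [map_mul, map_mul, map_mul, hab, map_inv, map_inv]
    group
  exact (hθ _).1 h1

end main

/-- The theorem, by induction on the order of `S`. -/
theorem main_thm : ∀ (n : ℕ) (Ω : Type u) [Group Ω] (S : Subgroup Ω) [Finite S], Nat.card S = n → IsPGroup 2 S →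
    ∀ F : FusionSystem S, F.IsSaturated 2 → (∀ x ∈ S, ∃ z ∈ Zc S, F.IsConjElt x z) → ∀ a ∈ S, ∀ b ∈ S, a * b = b * a := by
  intro n
  induction n using Nat.strong_induction_on with
  | _ n ih =>
  intro Ω _ S _ hn hS F hF h a ha b hb
  have IH : ∀ (Ω' : Type u) [Group Ω'] (S' : Subgroup Ω') [Finite S'], Nat.card S' < Nat.card S → IsPGroup 2 S' →
      ∀ F' : FusionSystem S', F'.IsSaturated 2 → (∀ x ∈ S', ∃ z ∈ Zc S', F'.IsConjElt x z) → ∀ a ∈ S', ∀ b ∈ S', a * b = b * a := by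
    intro Ω' _ S' _ hlt
    exact ih _ (hn ▸ hlt) Ω' S' rfl
  have hc : ∀ t ∈ S, ∀ u ∈ S, t ^ 2 = 1 → u ^ 2 = 1 → t * u = u * t :=
    fun t ht u hu h1 h2 => involutions_commute F hS hF h ht hu h1 h2
  by_cases hR : invSub hc = ⊥
  · -- then `S` is trivial
    have htriv : ∀ x ∈ S, x = 1 := by
      intro x hx
      by_contra hx1
      obtain ⟨k, hk⟩ := hS ⟨x, hx⟩
      have hxk : x ^ 2 ^ k = 1 := congrArg Subtype.val hk
      have hk0 : k ≠ 0 := by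
        rintro rfl
        apply hx1
        simpa using hxk
      have key : ∃ j : ℕ, x ^ 2 ^ j ≠ 1 ∧ x ^ 2 ^ (j + 1) = 1 := by
        by_contra hcon
        push Not at hcon
        have : ∀ j : ℕ, x ^ 2 ^ j ≠ 1 := by
          intro j
          induction j with
          | zero => simpa using hx1
          | succ j ihj => exact hcon j ihj
        exact this k hxk
      obtain ⟨j, hj1, hj2⟩ := key
      have hm : x ^ 2 ^ j ∈ invSub hc := ⟨S.pow_mem hx _, by rw [← pow_mul, ← pow_succ]; exact hj2⟩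
      rw [hR, Subgroup.mem_bot] at hm
      exact hj1 hm
    rw [htriv a ha, htriv b hb]
  have hcomm := fun a (ha : a ∈ S) b (hb : b ∈ S) => comm_mem_of_sc F hS hF h IH (invSub_sc F hc) hR ha hb
  by_cases hU : (⁅C0 hc, C0 hc⁆ : Subgroup Ω) = ⊥
  · -- the centralizer is abelian
    have hab : ∀ c ∈ C0 hc, ∀ d ∈ C0 hc, c * d = d * c := by
      intro c hcm d hdm
      have h1 : ⁅c, d⁆ ∈ (⁅C0 hc, C0 hc⁆ : Subgroup Ω) := Subgroup.commutator_mem_commutator hcm hdm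
      rw [hU, Subgroup.mem_bot] at h1
      exact commutatorElement_eq_one_iff_mul_comm.1 h1
    have hRZ : invSub hc ≤ Zc S := fun r hr =>
      ⟨hr.1, Subgroup.mem_centralizer_iff.2 fun s hs => (le_C0 F hS hF h hc hcomm hab hs).2 |> fun h2 =>
        (Subgroup.mem_centralizer_iff.1 h2 r hr).symm⟩
    exact comm_of_central F hS hF h (invSub_sc F hc) hRZ hcomm ha hb
  · have hsc := comm_sc F hS hF h hc hcomm
    have hcomm2 := fun a (ha : a ∈ S) b (hb : b ∈ S) => comm_mem_of_sc F hS hF h IH hsc hU ha hb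
    exact comm_of_central F hS hF h hsc (comm_le_Zc hc hcomm) hcomm2 ha hb

end Cfsg.Agent.Lib.FusionTheory.CenterConj
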