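import Cfsg.Agent.Lib.FusionTheory.NormalCrit
import Cfsg.Agent.S5145

/-!
# The centre of a system as a direct factor of `Z(S)`
-/

set_option autoImplicit false

namespace Cfsg.Agent.Lib.FusionTheory.CenterFactor

open Cfsg Cfsg.FusionSystem Cfsg.Agent.Lib.Fusion.Basic Cfsg.Agent.Lib.Fusion.Saturation
open Cfsg.Agent.Lib.Fusion.Saturation2 Cfsg.Agent.Lib.Fusion.Alperin
open Cfsg.Agent.Lib.FusionTheory.Normal Cfsg.Agent.Lib.FusionTheory.NormalCrit

section abstract

variable {M G : Type*} [CommGroup M] [Group G] [Finite M] [Finite G] (ρ : G →* MulAut M) (T : Subgroup G)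

/-- The fixed points of a subgroup. -/
def fixedOf (H : Subgroup G) : Subgroup M where
  carrier := {y | ∀ h ∈ H, ρ h y = y}
  one_mem' := fun h _ => map_one _
  mul_mem' := fun {a b} ha hb h hh => by rw [map_mul, ha h hh, hb h hh]
  inv_mem' := fun {a} ha h hh => by rw [map_inv, ha h hh]

/-- The norm map. -/
noncomputable def normMap : M →* M :=
  letI := Fintype.ofFinite (G ⧸ T)
  ∏ c : G ⧸ T, ((ρ (Quotient.out c)).toMonoidHom : M →* M)

omit [Finite M] in
theorem normMap_apply (y : M) :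
    letI := Fintype.ofFinite (G ⧸ T)
    normMap ρ T y = ∏ c : G ⧸ T, ρ (Quotient.out c) y := by
  letI := Fintype.ofFinite (G ⧸ T)
  show (∏ c : G ⧸ T, ((ρ (Quotient.out c)).toMonoidHom : M →* M)) y = _
  rw [MonoidHom.finsetProd_apply]
  rfl

omit [Finite M] in
theorem normMap_mem_top {y : M} (hy : y ∈ fixedOf ρ T) : normMap ρ T y ∈ fixedOf ρ (⊤ : Subgroup G) := by
  letI := Fintype.ofFinite (G ⧸ T)
  rintro g -
  rw [normMap_apply, map_prod]
  have h1 : ∀ c : G ⧸ T, ρ g (ρ (Quotient.out c) y) = ρ (Quotient.out (g • c)) y := by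
    intro c
    have h3 : g • c = ((g * Quotient.out c : G) : G ⧸ T) := by
      conv_lhs => rw [← QuotientGroup.out_eq' c]
      rfl
    obtain ⟨h, hh⟩ := QuotientGroup.mk_out_eq_mul T (g * Quotient.out c)
    rw [h3]
    have e : Quotient.out (((g * Quotient.out c : G) : G ⧸ T)) = g * Quotient.out c * h := hh
    rw [e, map_mul, MulAut.mul_apply, hy h h.2, map_mul, MulAut.mul_apply]
  simp_rw [h1]
  exact Fintype.prod_equiv (MulAction.toPerm g) _ _ (fun c => rfl)

omit [Finite M] in
theorem normMap_of_fixed {y : M} (hy : y ∈ fixedOf ρ (⊤ : Subgroup G)) : normMap ρ T y = y ^ T.index := by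
  letI := Fintype.ofFinite (G ⧸ T)
  rw [normMap_apply]
  simp_rw [fun c => hy (Quotient.out c : G) trivial]
  rw [Finset.prod_const, Finset.card_univ, Subgroup.index, Nat.card_eq_fintype_card]

/-- **`C_M(G)` is a direct factor of `C_M(T)` when `|G : T|` is prime to `|M|`.** -/
theorem exists_complement_fixed (hc : T.index.Coprime (Nat.card M)) :
    ∃ K : Subgroup M, K ≤ fixedOf ρ T ∧ fixedOf ρ (⊤ : Subgroup G) ⊓ K = ⊥ ∧
      fixedOf ρ (⊤ : Subgroup G) ⊔ K = fixedOf ρ T := by
  have hle : fixedOf ρ (⊤ : Subgroup G) ≤ fixedOf ρ T := fun y hy h _ => hy h trivial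
  refine ⟨fixedOf ρ T ⊓ (normMap ρ T).ker, inf_le_left, ?_, ?_⟩
  · rw [eq_bot_iff]
    rintro y ⟨hy, -, hy2⟩
    have hy3 : normMap ρ T y = 1 := hy2
    rw [normMap_of_fixed ρ T hy] at hy3
    have h1 : orderOf y ∣ T.index := orderOf_dvd_of_pow_eq_one hy3
    have h2 : orderOf y ∣ Nat.card M := orderOf_dvd_natCard y
    have h3 := Nat.eq_one_of_dvd_coprimes hc h1 h2
    rw [Subgroup.mem_bot]
    exact orderOf_eq_one_iff.1 h3
  · apply le_antisymm
    · exact sup_le hle inf_le_left
    · intro y hy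
      have hw := normMap_mem_top ρ T hy
      -- an `index`-th root in the fixed points
      have hcard : (Nat.card ↥(fixedOf ρ (⊤ : Subgroup G))).Coprime T.index := by
        have h1 : Nat.card ↥(fixedOf ρ (⊤ : Subgroup G)) ∣ Nat.card M := Subgroup.card_subgroup_dvd_card _
        exact (Nat.Coprime.coprime_dvd_right h1 hc).symm
      let r := (powCoprime hcard).symm ⟨_, hw⟩
      have hr : (r : M) ^ T.index = normMap ρ T y := by
        have := (powCoprime hcard).apply_symm_apply ⟨_, hw⟩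
        exact congrArg Subtype.val this
      have h3 : normMap ρ T r = normMap ρ T y := by
        rw [normMap_of_fixed ρ T r.2, hr]
      have h4 : y * (r : M)⁻¹ ∈ fixedOf ρ T ⊓ (normMap ρ T).ker := by
        refine ⟨mul_mem hy ((fixedOf ρ T).inv_mem (hle r.2)), ?_⟩
        show normMap ρ T _ = 1
        rw [map_mul, map_inv, h3, mul_inv_cancel]
      have h5 := Subgroup.mul_mem_sup r.2 h4
      simpa using h5

end abstract

section fusion

variable {Ω : Type*} [Group Ω] {S : Subgroup Ω} (F : FusionSystem S) {p : ℕ}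

/-- The action of `Aut_F(Q)` on `Z(Q)`. -/
noncomputable def centerAct (Q : Subgroup Ω) : F.autGroup Q →* MulAut (Subgroup.center Q) where
  toFun a := Subgroup.centerCongr (a : MulAut Q)
  map_one' := by
    ext m
    rfl
  map_mul' a b := by
    ext m
    rfl

theorem centerAct_apply (Q : Subgroup Ω) (a : F.autGroup Q) (m : Subgroup.center Q) :
    ((centerAct F Q a m : Subgroup.center Q) : Q) = (a : MulAut Q) m := rfl

variable [Finite S] [Fact p.Prime] (hS : IsPGroup p S)

include hS in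
/-- **S5294.** -/
theorem center_direct_factor (hF : F.IsSaturated p) (hZ : S ⊓ Subgroup.centralizer (S : Set Ω) ≤ F.core) :
    ∃ K : Subgroup Ω, K ≤ S ⊓ Subgroup.centralizer (S : Set Ω) ∧ F.center ⊓ K = ⊥ ∧
      F.center ⊔ K = S ⊓ Subgroup.centralizer (S : Set Ω) := by
  have hQ : F.IsNormal F.core := Cfsg.Agent.S5145.result F
  set Q := F.core with hQdef
  have hQS : Q ≤ S := hQ.1
  have hfinQ : Finite Q := finite_of_le hQS
  have hSN : S ≤ Subgroup.normalizer (Q : Set Ω) :=
    StronglyClosed.le_normalizer F (IsNormal.stronglyClosed F hQ)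
  have hNS : normalizerIn S Q = S := inf_eq_left.2 hSN
  have hQn : F.IsFullyNormalized Q := by
    refine ⟨hQS, fun Q' _ => ?_⟩
    rw [hNS]
    exact card_le_of_le_finite inf_le_left
  obtain ⟨-, T', hT'⟩ := isFullyAutomized_of_isFullyNormalized F hS hF hQn
  let G := F.autGroup Q
  have hfinG : Finite G := inferInstance
  letI : CommGroup (Subgroup.center Q) :=
    { (inferInstance : Group (Subgroup.center Q)) with
      mul_comm := fun a b => Subtype.ext (Subgroup.mem_center_iff.1 b.2 (a : Q)) }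
  let ρ : G →* MulAut (Subgroup.center Q) := centerAct F Q
  let ι : (Subgroup.center Q) →* Ω := Q.subtype.comp (Subgroup.center Q).subtype
  have hι : Function.Injective ι := by
    intro a b hab
    exact Subtype.ext (Subtype.ext hab)
  have hιm : ∀ m : Subgroup.center Q, ι m = ((m : Q) : Ω) := fun _ => rfl
  have hMp : IsPGroup p (Subgroup.center Q) := (hS.to_le hQS).to_subgroup _
  obtain ⟨k, hk⟩ := IsPGroup.iff_card.1 hMp
  have hc : (T' : Subgroup G).index.Coprime (Nat.card (Subgroup.center Q)) := by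
    rw [hk]
    have hp : p.Prime := Fact.out
    exact Nat.Coprime.pow_right _ ((Nat.Prime.coprime_iff_not_dvd hp).2 T'.not_dvd_index).symm
  obtain ⟨K₀, hK₀, h1, h2⟩ := exists_complement_fixed ρ (T' : Subgroup G) hc
  -- the fixed points of `T` are `Z(S)`
  have hA : (fixedOf ρ (T' : Subgroup G)).map ι = S ⊓ Subgroup.centralizer (S : Set Ω) := by
    apply le_antisymm
    · rintro _ ⟨m, hm, rfl⟩
      refine ⟨hQS (m : Q).2, Subgroup.mem_centralizer_iff.2 fun s hs => ?_⟩
      have hsN := hSN hs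
      have hmem : (⟨normAct Q hsN, autInducedBy_le_autGroup F hQS (normAct_mem_autInducedBy S Q hsN hs)⟩ : G) ∈
          (T' : Subgroup G) := by
        rw [hT']
        exact normAct_mem_autInducedBy S Q hsN hs
      have h3 := hm _ hmem
      have h4 : s * ((m : Q) : Ω) * s⁻¹ = ((m : Q) : Ω) :=
        congrArg (fun t : Subgroup.center Q => ((t : Q) : Ω)) h3
      calc s * ι m = s * ((m : Q) : Ω) * s⁻¹ * s := by rw [hιm]; group
        _ = ι m * s := by rw [h4, hιm]
    · rintro z ⟨hzS, hzC⟩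
      have hzQ : z ∈ Q := hZ ⟨hzS, hzC⟩
      have hzM : (⟨z, hzQ⟩ : Q) ∈ Subgroup.center Q := by
        rw [Subgroup.mem_center_iff]
        intro y
        apply Subtype.ext
        exact Subgroup.mem_centralizer_iff.1 hzC y (hQS y.2)
      refine ⟨⟨⟨z, hzQ⟩, hzM⟩, ?_, rfl⟩
      intro t ht
      rw [hT'] at ht
      obtain ⟨s, hs, hsc⟩ := (mem_autInducedBy_iff S Q _).1 ht
      apply Subtype.ext
      apply Subtype.ext
      have h3 := hsc ⟨z, hzQ⟩
      have h4 : s * z = z * s := Subgroup.mem_centralizer_iff.1 hzC s hs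
      have h5 : s * z * s⁻¹ = z := by rw [h4]; group
      exact h3.trans h5
  -- the fixed points of `Aut_F(Q)` are `Z(F)`
  have hB : (fixedOf ρ (⊤ : Subgroup G)).map ι = F.center := by
    apply le_antisymm
    · apply le_sSup
      have hWQ : (fixedOf ρ (⊤ : Subgroup G)).map ι ≤ Q := by
        rintro _ ⟨m, -, rfl⟩
        exact (m : Q).2
      refine ⟨hWQ.trans hQS, fun P φ hφ => ?_⟩
      obtain ⟨ψ, hψ, h3, h4⟩ := hQ.2 P φ hφ
      have hle : P ⊔ (fixedOf ρ (⊤ : Subgroup G)).map ι ≤ P ⊔ Q := sup_le_sup_left hWQ P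
      refine ⟨ψ.comp (Subgroup.inclusion hle), restrict_mem F hle hψ, fun x => h3 x, ?_⟩
      rintro ⟨_, m, hm, rfl⟩
      have hle2 : Q ≤ P ⊔ Q := le_sup_right
      have hψ₀ : ψ.comp (Subgroup.inclusion hle2) ∈ F.Hom Q := restrict_mem F hle2 hψ
      have hr : (ψ.comp (Subgroup.inclusion hle2)).range = Q := by
        conv_rhs => rw [← h4]
        apply le_antisymm
        · rintro _ ⟨x, rfl⟩
          exact ⟨Subgroup.inclusion hle2 x, x.2, rfl⟩
        · rintro _ ⟨x, hx, rfl⟩
          exact ⟨⟨x, hx⟩, rfl⟩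
      obtain ⟨a, ha, hax⟩ := exists_aut_of_range F hψ₀ hr
      have h5 := hm ⟨a, ha⟩ trivial
      have h6 : ((a (m : Q) : Q) : Ω) = ((m : Q) : Ω) := congrArg (fun t : Subgroup.center Q => ((t : Q) : Ω)) h5
      have h7 := hax (m : Q)
      rw [h6] at h7
      exact h7.symm
    · apply sSup_le
      intro Q' hQ'
      have hQ'S : Q' ≤ S := hQ'.1
      have hQ'c : Q' ≤ Subgroup.centralizer (S : Set Ω) :=
        (le_sSup hQ').trans (center_le_centralizer F)
      intro q hq
      have hqZ : q ∈ S ⊓ Subgroup.centralizer (S : Set Ω) := ⟨hQ'S hq, hQ'c hq⟩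
      have hqQ : q ∈ Q := hZ hqZ
      have hqM : (⟨q, hqQ⟩ : Q) ∈ Subgroup.center Q := by
        rw [Subgroup.mem_center_iff]
        intro y
        apply Subtype.ext
        exact Subgroup.mem_centralizer_iff.1 hqZ.2 y (hQS y.2)
      refine ⟨⟨⟨q, hqQ⟩, hqM⟩, ?_, rfl⟩
      rintro a -
      obtain ⟨ψ, -, h3, h4⟩ := hQ'.2 Q (autHom (a : MulAut Q)) (autHom_mem F hQS a.2)
      have h5 := h3 ⟨q, hqQ⟩
      have h6 := h4 ⟨q, hq⟩
      have h7 : Subgroup.inclusion (le_sup_left : Q ≤ Q ⊔ Q') ⟨q, hqQ⟩ =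
          Subgroup.inclusion (le_sup_right : Q' ≤ Q ⊔ Q') ⟨q, hq⟩ := Subtype.ext rfl
      rw [h7, h6] at h5
      apply Subtype.ext
      apply Subtype.ext
      exact h5.symm
  refine ⟨K₀.map ι, ?_, ?_, ?_⟩
  · rw [← hA]
    exact Subgroup.map_mono hK₀
  · rw [← hB, ← Subgroup.map_inf _ _ ι hι, h1, Subgroup.map_bot]
  · rw [← hB, ← Subgroup.map_sup, h2, hA]

end fusion

end Cfsg.Agent.Lib.FusionTheory.CenterFactor
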