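import Cfsg.Agent.Lib.FusionTheory.ClassTwo
import Cfsg.Agent.Lib.FG7.Dedekind

/-!
# Groups whose centre has index `p²`
-/

set_option autoImplicit false
set_option linter.unusedSectionVars false
set_option linter.unusedVariables false

namespace Cfsg.Agent.Lib.FusionTheory.CenterIndex

open Cfsg Cfsg.FusionSystem Cfsg.Agent.Lib.Fusion.Basic Cfsg.Agent.Lib.Fusion.Saturation
  Cfsg.Agent.Lib.Fusion.Saturation2 Cfsg.Agent.Lib.Fusion.Alperin Cfsg.Agent.Lib.FusionTheory.Normal
  Cfsg.Agent.Lib.FusionTheory.Transvect Cfsg.Agent.Lib.FusionTheory.TransPair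
  Cfsg.Agent.Lib.FusionTheory.Essential Cfsg.Agent.Lib.FusionTheory.ClassTwo

section group

variable {G : Type*} [Group G]

/-- The commutator map with `w`, in a group of class at most two. -/
def commHomG (hc : ∀ a b : G, a * b * a⁻¹ * b⁻¹ ∈ Subgroup.center G) (w : G) : G →* Subgroup.center G where
  toFun y := ⟨y * w * y⁻¹ * w⁻¹, hc y w⟩
  map_one' := by ext; simp
  map_mul' a b := by
    ext
    show a * b * w * (a * b)⁻¹ * w⁻¹ = a * w * a⁻¹ * w⁻¹ * (b * w * b⁻¹ * w⁻¹)
    have hb := hc b w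
    have hcomm := Subgroup.mem_center_iff.1 hb (a * w * a⁻¹ * w⁻¹)
    rw [hcomm]
    have e1 := Subgroup.mem_center_iff.1 hb a
    calc a * b * w * (a * b)⁻¹ * w⁻¹ = a * (b * w * b⁻¹ * w⁻¹) * w * a⁻¹ * w⁻¹ := by group
      _ = (b * w * b⁻¹ * w⁻¹) * a * w * a⁻¹ * w⁻¹ := by rw [e1]
      _ = _ := by group

theorem commHomG_apply (hc : ∀ a b : G, a * b * a⁻¹ * b⁻¹ ∈ Subgroup.center G) (w y : G) :
    ((commHomG hc w y : Subgroup.center G) : G) = y * w * y⁻¹ * w⁻¹ := rfl

theorem mem_ker_commHomG (hc : ∀ a b : G, a * b * a⁻¹ * b⁻¹ ∈ Subgroup.center G) (w y : G) :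
    y ∈ (commHomG hc w).ker ↔ y * w = w * y := by
  rw [MonoidHom.mem_ker, Subtype.ext_iff, commHomG_apply]
  show y * w * y⁻¹ * w⁻¹ = 1 ↔ _
  constructor
  · intro h
    have h2 : y * w * y⁻¹ = w := mul_inv_eq_one.1 h
    exact mul_inv_eq_iff_eq_mul.1 h2
  · intro h
    rw [h]
    group

variable [Finite G] {p : ℕ} [hp : Fact p.Prime]

theorem index_eq_of_between {M : Subgroup G} (hidx : (Subgroup.center G).index = p ^ 2) (h1 : Subgroup.center G < M)
    (h2 : M ≠ ⊤) : M.index = p := by
  have hpp := hp.out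
  have e := Subgroup.relIndex_mul_index h1.le
  rw [hidx] at e
  have hd : M.index ∣ p ^ 2 := ⟨_, by rw [← e, mul_comm]⟩
  obtain ⟨k, hk, hkv⟩ := (Nat.dvd_prime_pow hpp).1 hd
  have hr : (Subgroup.center G).relIndex M ≠ 1 := by
    intro h
    have h3 := Subgroup.relIndex_eq_one.1 h
    exact h1.not_ge h3
  have hm : M.index ≠ 1 := fun h => h2 (Subgroup.index_eq_one.1 h)
  interval_cases k
  · rw [pow_zero] at hkv
    exact absurd hkv hm
  · simpa using hkv
  · exfalso
    rw [hkv] at e
    apply hr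
    have hpos : 0 < p ^ 2 := pow_pos hpp.pos 2
    exact Nat.eq_of_mul_eq_mul_right hpos (by rw [e, one_mul])

theorem center_lt_of_not_mem {y : G} (hy : y ∉ Subgroup.center G) : Subgroup.center G < Subgroup.center G ⊔ Subgroup.zpowers y :=
  lt_of_le_of_ne le_sup_left fun e => hy (e ▸ Subgroup.mem_sup_right (Subgroup.mem_zpowers y))

theorem center_sup_ne_top {y : G} (hy : y ∉ Subgroup.center G) : Subgroup.center G ⊔ Subgroup.zpowers y ≠ ⊤ := by
  intro e
  apply hy
  rw [Subgroup.mem_center_iff]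
  intro g
  have hle : Subgroup.center G ⊔ Subgroup.zpowers y ≤ Subgroup.centralizer ({y} : Set G) := by
    refine sup_le ?_ ?_
    · intro c hc
      rw [Subgroup.mem_centralizer_singleton_iff]
      exact (Subgroup.mem_center_iff.1 hc y).symm
    · rw [Subgroup.zpowers_le, Subgroup.mem_centralizer_singleton_iff]
  rw [e] at hle
  have := hle (Subgroup.mem_top g)
  rw [Subgroup.mem_centralizer_singleton_iff] at this
  exact this

theorem isCoatom_center_sup (hidx : (Subgroup.center G).index = p ^ 2) {y : G} (hy : y ∉ Subgroup.center G) :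
    IsCoatom (Subgroup.center G ⊔ Subgroup.zpowers y) := by
  have h := index_eq_of_between hidx (center_lt_of_not_mem hy) (center_sup_ne_top hy)
  exact Cfsg.Agent.Lib.PGroups.Basic.isCoatom_of_index_prime (h ▸ hp.out)

/-- The structure of a `p`-group whose centre has index at most `p²`. -/
theorem exists_class_two (hG : IsPGroup p G) (hna : ∃ a b : G, a * b ≠ b * a)
    (hidx : (Subgroup.center G).index ≤ p ^ 2) :
    (Subgroup.center G).index = p ^ 2 ∧ ∃ Z₀ : Subgroup G, Nat.card Z₀ = p ∧ Z₀ ≤ Subgroup.center G ∧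
      ∀ a b : G, a * b * a⁻¹ * b⁻¹ ∈ Z₀ := by
  classical
  have hpp := hp.out
  obtain ⟨a₀, b₀, hab⟩ := hna
  obtain ⟨n, hn⟩ := IsPGroup.iff_card.1 hG
  have hd : (Subgroup.center G).index ∣ p ^ n := hn ▸ Subgroup.index_dvd_card _
  obtain ⟨k, hk, hkv⟩ := (Nat.dvd_prime_pow hpp).1 hd
  have hk2 : k ≤ 2 := by
    rw [hkv] at hidx
    exact (Nat.pow_le_pow_iff_right hpp.one_lt).1 hidx
  have hidx2 : (Subgroup.center G).index = p ^ 2 := by
    interval_cases k
    · exfalso
      have h1 : Subgroup.center G = ⊤ := Subgroup.index_eq_one.1 (by simpa using hkv)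
      apply hab
      exact Subgroup.mem_center_iff.1 (h1 ▸ Subgroup.mem_top b₀) a₀
    · exfalso
      have hcard : Nat.card (G ⧸ Subgroup.center G) = p := by
        rw [← Subgroup.index_eq_card, hkv, pow_one]
      have : IsCyclic (G ⧸ Subgroup.center G) := isCyclic_of_prime_card hcard
      apply hab
      exact commutative_of_cyclic_center_quotient (QuotientGroup.mk' (Subgroup.center G)) (by
        rw [QuotientGroup.ker_mk']) a₀ b₀
    · exact hkv
  refine ⟨hidx2, ?_⟩
  have hcard : Nat.card (G ⧸ Subgroup.center G) = p ^ 2 := by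
    rw [← Subgroup.index_eq_card, hidx2]
  have hcomm := IsPGroup.commutative_of_card_eq_prime_sq hcard
  have hc : ∀ a b : G, a * b * a⁻¹ * b⁻¹ ∈ Subgroup.center G := by
    intro a b
    rw [← QuotientGroup.eq_one_iff (N := Subgroup.center G)]
    have := hcomm (a : G ⧸ Subgroup.center G) (b : G ⧸ Subgroup.center G)
    show ((a * b * a⁻¹ * b⁻¹ : G) : G ⧸ Subgroup.center G) = 1
    simp only [QuotientGroup.mk_mul, QuotientGroup.mk_inv]
    rw [this]
    group
  have ha₀ : a₀ ∉ Subgroup.center G := fun h => hab (Subgroup.mem_center_iff.1 h b₀).symm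
  let M := (commHomG hc a₀).ker
  have hMcen : Subgroup.center G ≤ M := fun y hy => (mem_ker_commHomG hc a₀ y).2 (Subgroup.mem_center_iff.1 hy a₀).symm
  have ha₀M : a₀ ∈ M := (mem_ker_commHomG hc a₀ a₀).2 rfl
  have hb₀M : b₀ ∉ M := fun h => hab ((mem_ker_commHomG hc a₀ b₀).1 h).symm
  have hMidx : M.index = p := index_eq_of_between hidx2
    (lt_of_le_of_ne hMcen fun e => ha₀ (e ▸ ha₀M)) (fun e => hb₀M (e ▸ Subgroup.mem_top b₀))
  have hrange : Nat.card (commHomG hc a₀).range = p := by
    rw [← Subgroup.index_ker]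
    exact hMidx
  have hgen : ∀ K : Subgroup G, Subgroup.center G ≤ K → a₀ ∈ K → b₀ ∈ K → K = ⊤ := by
    intro K h1 h2 h3
    have hle : Subgroup.center G ⊔ Subgroup.zpowers a₀ ≤ K := sup_le h1 (Subgroup.zpowers_le.2 h2)
    have hleM : Subgroup.center G ⊔ Subgroup.zpowers a₀ ≤ M := sup_le hMcen (Subgroup.zpowers_le.2 ha₀M)
    have hco := isCoatom_center_sup hidx2 ha₀
    refine hco.2 K (lt_of_le_of_ne hle fun e => ?_)
    exact hb₀M (hleM (e ▸ h3))
  let R := (commHomG hc a₀).range
  have hinv : ∀ a b : G, commHomG hc b a = (commHomG hc a b)⁻¹ := by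
    intro a b
    apply Subtype.ext
    show a * b * a⁻¹ * b⁻¹ = (b * a * b⁻¹ * a⁻¹)⁻¹
    group
  have hb : ∀ d : G, commHomG hc b₀ d ∈ R := by
    intro d
    have htop : R.comap (commHomG hc b₀) = ⊤ := by
      refine hgen _ (fun y hy => ?_) ?_ ?_
      · rw [Subgroup.mem_comap]
        have : commHomG hc b₀ y = 1 := (mem_ker_commHomG hc b₀ y).2 (Subgroup.mem_center_iff.1 hy b₀).symm
        rw [this]
        exact R.one_mem
      · rw [Subgroup.mem_comap, hinv]
        exact R.inv_mem ⟨b₀, rfl⟩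
      · rw [Subgroup.mem_comap]
        have : commHomG hc b₀ b₀ = 1 := (mem_ker_commHomG hc b₀ b₀).2 rfl
        rw [this]
        exact R.one_mem
    have : d ∈ R.comap (commHomG hc b₀) := by rw [htop]; trivial
    exact this
  have hall : ∀ c d : G, commHomG hc d c ∈ R := by
    intro c d
    have htop : R.comap (commHomG hc d) = ⊤ := by
      refine hgen _ (fun y hy => ?_) ?_ ?_
      · rw [Subgroup.mem_comap]
        have : commHomG hc d y = 1 := (mem_ker_commHomG hc d y).2 (Subgroup.mem_center_iff.1 hy d).symm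
        rw [this]
        exact R.one_mem
      · rw [Subgroup.mem_comap, hinv]
        exact R.inv_mem ⟨d, rfl⟩
      · rw [Subgroup.mem_comap, hinv]
        exact R.inv_mem (hb d)
    have : c ∈ R.comap (commHomG hc d) := by rw [htop]; trivial
    exact this
  refine ⟨R.map (Subgroup.center G).subtype, ?_, ?_, fun a b => ⟨_, hall a b, rfl⟩⟩
  · rw [← hrange]
    exact Nat.card_congr (Subgroup.equivMapOfInjective _ _ (Subgroup.subtype_injective _)).symm.toEquiv
  · rintro _ ⟨y, -, rfl⟩
    exact y.2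

/-- Extraspeciality. -/
theorem isExtraspecial_of (hG : IsPGroup p G) (hna : ∃ a b : G, a * b ≠ b * a) (hidx : (Subgroup.center G).index = p ^ 2)
    (hc : Nat.card (Subgroup.center G) = p) (hcomm : ∀ a b : G, a * b * a⁻¹ * b⁻¹ ∈ Subgroup.center G) :
    IsExtraspecial p G := by
  classical
  have hpp := hp.out
  obtain ⟨a₀, b₀, hab⟩ := hna
  have hle : commutator G ≤ Subgroup.center G := by
    rw [commutator_def, Subgroup.commutator_le]
    intro a _ b _
    exact hcomm a b
  have hcommeq : commutator G = Subgroup.center G := by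
    refine Subgroup.eq_of_le_of_card_ge hle ?_
    rw [hc]
    have hd : Nat.card (commutator G) ∣ p := by
      rw [← hc]
      exact Subgroup.card_dvd_of_le hle
    have hne : Nat.card (commutator G) ≠ 1 := by
      intro h
      rw [Subgroup.card_eq_one] at h
      apply hab
      have h1 : a₀ * b₀ * a₀⁻¹ * b₀⁻¹ ∈ commutator G := by
        rw [commutator_def]
        exact Subgroup.commutator_mem_commutator (Subgroup.mem_top _) (Subgroup.mem_top _)
      rw [h, Subgroup.mem_bot] at h1
      have h2 := mul_inv_eq_one.1 h1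
      exact mul_inv_eq_iff_eq_mul.1 h2
    exact (((Nat.dvd_prime hpp).1 hd).resolve_left hne).ge
  refine ⟨⟨hG, ?_, hcommeq⟩, hc⟩
  apply le_antisymm
  · -- the Frattini subgroup is central
    intro y hy
    by_contra hyc
    have hco := isCoatom_center_sup hidx hyc
    obtain ⟨-, b, -, hb⟩ := SetLike.lt_iff_le_and_exists.1 (lt_top_iff_ne_top.2 hco.1)
    have hbc : b ∉ Subgroup.center G := fun h => hb (Subgroup.mem_sup_left h)
    have hco2 := isCoatom_center_sup hidx hbc
    have hy2 : y ∈ Subgroup.center G ⊔ Subgroup.zpowers b := frattini_le_coatom hco2 hy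
    have hle2 : Subgroup.center G ⊔ Subgroup.zpowers y ≤ Subgroup.center G ⊔ Subgroup.zpowers b :=
      sup_le le_sup_left (Subgroup.zpowers_le.2 hy2)
    rcases hle2.lt_or_eq with h | e
    · exact hco2.1 (hco.2 _ h)
    · exact hb (e ▸ Subgroup.mem_sup_right (Subgroup.mem_zpowers b))
  · rw [← hcommeq]
    exact Cfsg.Agent.Lib.PGroups.Basic.commutator_le_frattini hG

end group

section fusion

variable {Ω : Type*} [Group Ω] {S : Subgroup Ω} {p : ℕ} [hp : Fact p.Prime] [Finite S] (F : FusionSystem S)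

/-- A nontrivial system with no normal subgroup is over a nonabelian group. -/
theorem nonabelian_of_core (hS : IsPGroup p S) (hF : F.IsSaturated p) (hS1 : S ≠ ⊥) (hcore : F.core = ⊥) :
    ∃ a b : S, a * b ≠ b * a := by
  by_contra hno
  push Not at hno
  apply hS1
  have hess : ∀ P : Subgroup Ω, F.IsEssential p P → P = S := by
    intro P hP
    refine le_antisymm hP.1.1 fun x hx => ?_
    refine hP.1.2 P (isConj_refl F hP.1.1) ⟨hx, Subgroup.mem_centralizer_iff.2 fun e he => ?_⟩
    exact congrArg Subtype.val (hno ⟨e, hP.1.1 he⟩ ⟨x, hx⟩)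
  have hN := isNormal_top_of_no_essential F hS hF hess
  have hle : S ≤ F.core := Cfsg.Agent.Lib.FusionExt.Constrained.le_core F hN
  rw [hcore] at hle
  exact le_bot_iff.1 hle

/-- The setup of `ClassTwo` from the index of the centre. -/
theorem exists_setup (hS : IsPGroup p S) (hna : ∃ a b : S, a * b ≠ b * a) (hZ : (Subgroup.center S).index ≤ p ^ 2) :
    (Subgroup.center S).index = p ^ 2 ∧ ∃ Z : Subgroup Ω, Setup p S Z := by
  obtain ⟨h1, Z₀, hc, hle, hcomm⟩ := exists_class_two hS hna hZ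
  refine ⟨h1, Z₀.map S.subtype, ?_, ?_, ?_, ?_⟩
  · rintro _ ⟨z, -, rfl⟩
    exact z.2
  · rw [← hc]
    exact Nat.card_congr (Subgroup.equivMapOfInjective _ _ S.subtype_injective).symm.toEquiv
  · rintro _ ⟨z, hz, rfl⟩ s hs
    exact congrArg Subtype.val (Subgroup.mem_center_iff.1 (hle hz) ⟨s, hs⟩)
  · intro a ha b hb
    exact ⟨_, hcomm ⟨a, ha⟩ ⟨b, hb⟩, rfl⟩

/-- From `Z(S) = Z`: the elementary part of the conclusion. -/
theorem conclusion_of_center_eq {Z : Subgroup Ω} (hs : Setup p S Z) (hS : IsPGroup p S) (hna : ∃ a b : S, a * b ≠ b * a)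
    (hidx : (Subgroup.center S).index = p ^ 2) (heq : S ⊓ Subgroup.centralizer (S : Set Ω) = Z) :
    IsExtraspecial p S ∧ Nat.card S = p ^ 3 := by
  have hmap : (Subgroup.center S).map S.subtype = Z := by
    rw [← heq]
    ext z
    constructor
    · rintro ⟨y, hy, rfl⟩
      exact mem_center_iff.1 hy
    · intro hz
      exact ⟨⟨z, hz.1⟩, mem_center_iff.2 hz, rfl⟩
  have hc : Nat.card (Subgroup.center S) = p := by
    rw [← hs.hZc, ← hmap]
    exact Nat.card_congr (Subgroup.equivMapOfInjective _ _ S.subtype_injective).toEquiv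
  refine ⟨isExtraspecial_of hS hna hidx hc fun a b => ?_, ?_⟩
  · rw [mem_center_iff, heq]
    exact_mod_cast hs.hcomm a a.2 b b.2
  · have := Subgroup.card_mul_index (Subgroup.center S)
    rw [hc, hidx] at this
    rw [← this]
    ring

theorem exists_essential {Z : Subgroup Ω} (hs : Setup p S Z) (hS : IsPGroup p S) (hF : F.IsSaturated p)
    (hcore : F.core = ⊥) : ∃ E, F.IsEssential p E := by
  by_contra hno
  push Not at hno
  have hN := isNormal_top_of_no_essential F hS hF (fun P hP => absurd hP (hno P))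
  have hle : S ≤ F.core := Cfsg.Agent.Lib.FusionExt.Constrained.le_core F hN
  rw [hcore, le_bot_iff] at hle
  have h1 : Z = ⊥ := le_bot_iff.1 (hle ▸ hs.hZS)
  have h2 := hs.hZc
  rw [h1, Subgroup.card_bot] at h2
  exact hp.out.ne_one h2.symm

/-- **The case of odd `p`.** -/
theorem odd_case {Z : Subgroup Ω} (hs : Setup p S Z) (hodd : Odd p) (hS : IsPGroup p S) (hF : F.IsSaturated p)
    (hcore : F.core = ⊥) : ∀ y : S, y ^ p = 1 := by
  classical
  have hpp := hp.out
  have h3 : 2 < p := by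
    obtain ⟨m, hm⟩ := hodd
    have := hpp.two_le
    omega
  have heq := hs.center_eq F hodd hS hF hcore
  have hZp : ∀ w ∈ Z, w ^ p = 1 := by
    intro w hw
    have h4 : (⟨w, hw⟩ : Z) ^ Nat.card Z = 1 := pow_card_eq_one'
    rw [hs.hZc] at h4
    exact congrArg Subtype.val h4
  have hpow : ∀ a b : S, (a * b) ^ p = a ^ p * b ^ p := by
    intro a b
    have hgZ : ((b * a * b⁻¹ * a⁻¹ : S) : Ω) ∈ Z := by exact_mod_cast hs.hcomm b b.2 a a.2
    have hcc : ∀ c : S, Commute c (b * a * b⁻¹ * a⁻¹) := fun c =>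
      Subtype.ext (hs.hcen _ hgZ c c.2)
    have h : b * a = (b * a * b⁻¹ * a⁻¹) * a * b := by group
    rw [Cfsg.Agent.Lib.FG7.Dedekind.mul_pow_eq (hcc a) (hcc b) h p]
    obtain ⟨k, hk⟩ := hpp.dvd_choose_self (k := 2) (by norm_num) h3
    have hgp : (b * a * b⁻¹ * a⁻¹) ^ p = 1 := Subtype.ext (by
      have := hZp _ hgZ
      exact_mod_cast this)
    rw [hk, pow_mul, hgp, one_pow, one_mul]
  let K : Subgroup S :=
    { carrier := {y | y ^ p = 1}
      mul_mem' := fun {a b} ha hb => by
        show (a * b) ^ p = 1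
        rw [hpow, show a ^ p = 1 from ha, show b ^ p = 1 from hb, one_mul]
      one_mem' := one_pow _
      inv_mem' := fun {a} ha => by
        show a⁻¹ ^ p = 1
        rw [inv_pow, show a ^ p = 1 from ha, inv_one] }
  by_contra hno
  push Not at hno
  obtain ⟨y₀, hy₀⟩ := hno
  have hKne : K ≠ ⊤ := fun e => hy₀ (show y₀ ∈ K from e ▸ Subgroup.mem_top y₀)
  -- essential subgroups all coincide with `K`
  have hEK : ∀ E, F.IsEssential p E → E.subgroupOf S = K := by
    intro E hE
    have hlt := IsEssential.lt F hS hF hE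
    have hES := hlt.le
    have hfinE : Finite E := finite_of_le hES
    obtain ⟨-, hi⟩ := hs.essential_facts F hS hF hE
    obtain ⟨x, hxS, hxE, hx, V₁, C, a, D⟩ := hs.exists_data F hS hF hE
    have hfixiff := hs.fix_iff F hS hF hE hxS hxE hx
    have hE1 : ∀ v : E, v ^ p = 1 := by
      intro v
      obtain ⟨w, hw, c, hc, h⟩ := D.split v
      have hcZ : (c : Ω) ∈ Z := by
        rw [← heq]
        exact (hfixiff c).1 (D.le_fix c hc)
      have hc1 := D.inter c hc (Subgroup.mem_subgroupOf.2 hcZ)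
      rw [h, hc1, mul_one]
      exact D.exp_V w hw
    have hle : E.subgroupOf S ≤ K := by
      intro v hv
      have := hE1 ⟨v, Subgroup.mem_subgroupOf.1 hv⟩
      have h2 : ((v : Ω)) ^ p = 1 := congrArg Subtype.val this
      exact Subtype.ext (by simpa using h2)
    have hco := Cfsg.Agent.Lib.PGroups.Basic.isCoatom_of_index_prime (hi ▸ hpp : (E.subgroupOf S).index.Prime)
    rcases hle.lt_or_eq with h | e
    · exact absurd (hco.2 _ h) hKne
    · exact e
  obtain ⟨E₀, hE₀⟩ := exists_essential F hs hS hF hcore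
  have hE₀S := hE₀.1.1
  have hmem : ∀ v : S, v ∈ K ↔ (v : Ω) ∈ E₀ := by
    intro v
    rw [← hEK E₀ hE₀, Subgroup.mem_subgroupOf]
  have hN : F.IsNormal E₀ := by
    apply isNormal_of_invariant F hS hF hE₀S
    intro P hP
    rcases hP with hPS | hP
    · subst hPS
      refine ⟨hE₀S, fun δ _ v hv => ?_⟩
      rw [← hmem] at hv ⊢
      show (δ v) ^ p = 1
      rw [← map_pow, show v ^ p = 1 from hv, map_one]
    · have e : E₀ = P := by
        have h1 := hEK E₀ hE₀
        have h2 := hEK P hP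
        apply le_antisymm
        · intro v hv
          have h4 : (⟨v, hE₀S hv⟩ : S) ∈ K := (hmem _).2 hv
          rw [← h2] at h4
          exact Subgroup.mem_subgroupOf.1 h4
        · intro v hv
          have h4 : (⟨v, hP.1.1 hv⟩ : S) ∈ K := by
            rw [← h2]
            exact Subgroup.mem_subgroupOf.2 hv
          exact (hmem _).1 h4
      rw [e]
      exact ⟨le_rfl, fun α _ x _ => (α x).2⟩
  have hle : E₀ ≤ ⊥ := hcore ▸ Cfsg.Agent.Lib.FusionExt.Constrained.le_core F hN
  have h1 : Z = ⊥ := le_bot_iff.1 ((hs.le_of_isCentric hE₀.1).trans hle)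
  have h2 := hs.hZc
  rw [h1, Subgroup.card_bot] at h2
  exact hpp.ne_one h2.symm

end fusion

end Cfsg.Agent.Lib.FusionTheory.CenterIndex
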