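import Cfsg.Agent.Lib.FusionTheory.CenterIndex

/-!
# Groups whose centre has index `4`: the case `p = 2`
-/

set_option autoImplicit false
set_option linter.unusedSectionVars false
set_option linter.unusedVariables false

namespace Cfsg.Agent.Lib.FusionTheory.CenterIndexTwo

open Cfsg Cfsg.FusionSystem Cfsg.Agent.Lib.Fusion.Basic Cfsg.Agent.Lib.Fusion.Saturation
  Cfsg.Agent.Lib.Fusion.Saturation2 Cfsg.Agent.Lib.Fusion.Alperin Cfsg.Agent.Lib.FusionTheory.Normal
  Cfsg.Agent.Lib.FusionTheory.Transvect Cfsg.Agent.Lib.FusionTheory.TransPair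
  Cfsg.Agent.Lib.FusionTheory.Essential Cfsg.Agent.Lib.FusionTheory.ClassTwo
  Cfsg.Agent.Lib.FusionTheory.CenterIndex

section group

variable {G : Type*} [Group G]

theorem pow_of_invol {a : G} (h : a * a = 1) (m : ℕ) : a ^ m = 1 ∨ a ^ m = a := by
  induction m with
  | zero => exact Or.inl (pow_zero a)
  | succ n ih =>
    rcases ih with h1 | h1
    · right
      rw [pow_succ, h1, one_mul]
    · left
      rw [pow_succ, h1, h]

theorem four_cosets [Finite G] (h4 : (Subgroup.center G).index = 4) {a b : G} (ha : a ∉ Subgroup.center G)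
    (hb : b ∉ Subgroup.center G) (hab : a⁻¹ * b ∉ Subgroup.center G) (haa : a * a = 1) (s : G) :
    s ∈ Subgroup.center G ∨ a⁻¹ * s ∈ Subgroup.center G ∨ b⁻¹ * s ∈ Subgroup.center G ∨
      (a * b)⁻¹ * s ∈ Subgroup.center G := by
  classical
  have : Fintype (G ⧸ Subgroup.center G) := Fintype.ofFinite _
  let π : G → G ⧸ Subgroup.center G := fun x => (x : G ⧸ Subgroup.center G)
  have hπ : ∀ x y : G, π x = π y ↔ x⁻¹ * y ∈ Subgroup.center G := fun x y => QuotientGroup.eq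
  have hainv : a⁻¹ = a := inv_eq_of_mul_eq_one_left haa
  have hone : ∀ x : G, π 1 = π x ↔ x ∈ Subgroup.center G := by
    intro x
    rw [hπ]
    simp
  have h1 : π 1 ≠ π a := fun h => ha ((hone a).1 h)
  have h2 : π 1 ≠ π b := fun h => hb ((hone b).1 h)
  have h3 : π 1 ≠ π (a * b) := fun h => hab (by
    have := (hone _).1 h
    rwa [hainv])
  have h4' : π a ≠ π b := fun h => hab ((hπ _ _).1 h)
  have h5 : π a ≠ π (a * b) := fun h => hb (by
    have := (hπ _ _).1 h
    rwa [inv_mul_cancel_left] at this)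
  have h6 : π b ≠ π (a * b) := fun h => ha (by
    have h7 := (hπ _ _).1 h
    have h8 := Subgroup.mem_center_iff.1 h7 b
    have e : a = b * (b⁻¹ * (a * b)) * b⁻¹ := by group
    rw [e, h8, mul_inv_cancel_right]
    exact h7)
  let A : Finset (G ⧸ Subgroup.center G) := {π 1, π a, π b, π (a * b)}
  have hA : A.card = 4 := by
    rw [Finset.card_insert_of_notMem (by simp [h1, h2, h3]), Finset.card_insert_of_notMem (by simp [h4', h5]),
      Finset.card_insert_of_notMem (by simp [h6]), Finset.card_singleton]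
  have hcard : Fintype.card (G ⧸ Subgroup.center G) = 4 := by
    rw [← Nat.card_eq_fintype_card, ← Subgroup.index_eq_card, h4]
  have hu : A = Finset.univ := Finset.eq_univ_of_card A (by rw [hA, hcard])
  have hs : π s ∈ A := by
    rw [hu]
    exact Finset.mem_univ _
  simp only [A, Finset.mem_insert, Finset.mem_singleton] at hs
  rcases hs with h | h | h | h
  · exact Or.inl ((hone s).1 h.symm)
  · exact Or.inr (Or.inl ((hπ _ _).1 h.symm))
  · exact Or.inr (Or.inr (Or.inl ((hπ _ _).1 h.symm)))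
  · exact Or.inr (Or.inr (Or.inr ((hπ _ _).1 h.symm)))

end group

section fusion

variable {Ω : Type*} [Group Ω] {S : Subgroup Ω} {p : ℕ} [hp : Fact p.Prime] [Finite S] (F : FusionSystem S)
variable {Z : Subgroup Ω}

/-- Extending an automorphism of `E` normalizing `⟨t⟩` to `S`. -/
theorem exists_extension (hs : Setup p S Z) (hS : IsPGroup p S) (hF : F.IsSaturated p) {E : Subgroup Ω}
    (hE : F.IsEssential p E) {x : Ω} (hxS : x ∈ S) (hxE : x ∉ E) (hx : x ∈ Subgroup.normalizer (E : Set Ω))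
    {n : MulAut E} (hn : n ∈ F.autGroup E) (hnt : n * normAct E hx * n⁻¹ ∈ Subgroup.zpowers (normAct E hx)) :
    ∃ β ∈ F.autGroup S, ∀ v : E, ((β ⟨v, hE.1.1 v.2⟩ : S) : Ω) = n v := by
  have hlt := IsEssential.lt F hS hF hE
  have hES := hlt.le
  obtain ⟨hab, hi⟩ := hs.essential_facts F hS hF hE
  have hRc := isReceptive_of_isFullyNormalized F hS hF hE.2.1
  have hnorm : ∀ t₀ ∈ autInducedBy S E, n * t₀ * n⁻¹ ∈ autInducedBy S E := by
    intro t₀ ht₀
    obtain ⟨k, rfl⟩ := Subgroup.mem_zpowers_iff.1 (autInducedBy_le_zpowers hS hES hab hi hxS hxE hx ht₀)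
    rw [← conj_zpow]
    refine Subgroup.zpow_mem _ ?_ k
    exact (Subgroup.zpowers_le.2 (normAct_mem_autInducedBy S E hx hxS)) hnt
  obtain ⟨ψ, hψ, hψv⟩ := Cfsg.Agent.Lib.FusionTheory.Weak.exists_ext_of_normalizes F hRc hn hnorm
  have hSN : S ≤ normalizerIn S E := fun y hy => ⟨hy, hs.mem_normalizer hE.1 hy⟩
  have hχ := restrict_mem F hSN hψ
  have hχr : (ψ.comp (Subgroup.inclusion hSN)).range = S := by
    refine Subgroup.eq_of_le_of_card_ge (range_le F hχ) ?_
    rw [card_range F hχ]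
  obtain ⟨β, hβ, hβv⟩ := exists_aut_of_range F hχ hχr
  refine ⟨β, hβ, fun v => ?_⟩
  rw [hβv]
  exact hψv v

/-- Restricting an automorphism of `S` preserving `E`. -/
theorem exists_restriction {E : Subgroup Ω} (hES : E ≤ S) {δ : MulAut S} (hδ : δ ∈ F.autGroup S)
    (hinv : ∀ v : E, ((δ ⟨v, hES v.2⟩ : S) : Ω) ∈ E) :
    ∃ g ∈ F.autGroup E, ∀ v : E, ((g v : E) : Ω) = δ ⟨v, hES v.2⟩ := by
  have hφ := autHom_mem F le_rfl hδ
  have hχ := restrict_mem F hES hφ
  have hfin : Finite E := finite_of_le hES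
  have hr : ((autHom δ).comp (Subgroup.inclusion hES)).range = E := by
    refine Subgroup.eq_of_le_of_card_ge ?_ ?_
    · rintro _ ⟨v, rfl⟩
      exact hinv v
    · rw [card_range F hχ]
  obtain ⟨g, hg, hgv⟩ := exists_aut_of_range F hχ hr
  exact ⟨g, hg, fun v => hgv v⟩

/-- The data of an essential subgroup at `p = 2`. -/
structure EssTwo (Z : Subgroup Ω) {E : Subgroup Ω} (hES : E ≤ S) (a : S) (C V : Subgroup S) : Prop where
  a_mem : (a : Ω) ∈ E
  a_nc : a ∉ Subgroup.center S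
  a_inv : a * a = 1
  two : ∀ v : S, (v : Ω) ∈ E → v ∈ Subgroup.center S ∨ a⁻¹ * v ∈ Subgroup.center S
  C_le : C ≤ Subgroup.center S
  C_split : ∀ y ∈ Subgroup.center S, ∃ z ∈ Z.subgroupOf S, ∃ c ∈ C, y = z * c
  C_int : ∀ c ∈ C, c ∈ Z.subgroupOf S → c = 1
  C_inv : ∀ g ∈ F.autGroup E, ∀ v : E, (⟨v, hES v.2⟩ : S) ∈ C → (⟨g v, hES (g v).2⟩ : S) ∈ C
  V_ge : Z.subgroupOf S ≤ V
  a_V : a ∈ V
  V_gen : ∀ w ∈ V, ∃ m : ℕ, ∃ z ∈ Z.subgroupOf S, w = a ^ m * z
  V_inv : ∀ g ∈ F.autGroup E, ∀ v : E, (⟨v, hES v.2⟩ : S) ∈ V → (⟨g v, hES (g v).2⟩ : S) ∈ V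
  foc : ∀ g ∈ F.autGroup E, ∀ v : E, ∃ w ∈ V, ∃ c ∈ Subgroup.center S, ∃ δ ∈ F.autGroup S,
    (⟨v, hES v.2⟩ : S)⁻¹ * ⟨g v, hES (g v).2⟩ = w * (c⁻¹ * δ c)

/-- The structure of an essential subgroup at `p = 2`. -/
theorem ess_two (hs : Setup p S Z) (hp2 : p = 2) (hS : IsPGroup p S) (hF : F.IsSaturated p) {E : Subgroup Ω}
    (hE : F.IsEssential p E) : ∃ (a : S) (C V : Subgroup S), EssTwo F Z hE.1.1 a C V := by
  classical
  have hlt := IsEssential.lt F hS hF hE
  have hES := hlt.le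
  have hfinE : Finite E := finite_of_le hES
  have hZE := hs.le_of_isCentric hE.1
  have hZSE := center_le_of_isCentric F hE.1
  obtain ⟨hab, hi⟩ := hs.essential_facts F hS hF hE
  obtain ⟨x, hxS, hxE, hx, V₁, C, a, D⟩ := hs.exists_data F hS hF hE
  have hfixiff := hs.fix_iff F hS hF hE hxS hxE hx
  let ι : E →* S := Subgroup.inclusion hES
  have hι : Function.Injective ι := Subgroup.inclusion_injective hES
  have hιv : ∀ v : E, ι v = ⟨v, hES v.2⟩ := fun v => rfl
  have hmemmap : ∀ (X : Subgroup E) (v : E), (⟨v, hES v.2⟩ : S) ∈ X.map ι ↔ v ∈ X := by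
    intro X v
    constructor
    · rintro ⟨u, hu, huv⟩
      rwa [← hι huv]
    · intro hv
      exact ⟨v, hv, rfl⟩
  have hcen : ∀ y : S, y ∈ Subgroup.center S → ∃ hy : (y : Ω) ∈ E, normAct E hx ⟨y, hy⟩ = ⟨y, hy⟩ := by
    intro y hy
    have hy' := mem_center_iff.1 hy
    exact ⟨hZSE hy', (hfixiff ⟨y, hZSE hy'⟩).2 hy'⟩
  have haa : a * a = 1 := by
    have h := D.exp_V a D.a_mem
    rw [hp2, pow_two] at h
    exact h
  have haa' : ι a * ι a = 1 := by
    rw [← map_mul, haa, map_one]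
  have hac : ι a ∉ Subgroup.center S := by
    intro h
    have h1 := mem_center_iff.1 h
    exact D.a_ne ((hfixiff a).2 h1)
  refine ⟨ι a, C.map ι, V₁.map ι, a.2, hac, haa', ?_, ?_, ?_, ?_, ?_, ?_, ?_, ?_, ?_, ?_⟩
  · -- the two cosets
    intro v hv
    obtain ⟨m, y, hy, hvy⟩ := D.a_split ⟨v, hv⟩
    have hyc : ι y ∈ Subgroup.center S := mem_center_iff.2 ((hfixiff y).1 hy)
    have hvy' : v = ι a ^ m * ι y := by
      rw [← map_pow, ← map_mul, ← hvy]
      rfl
    rcases pow_of_invol haa' m with h | h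
    · left
      rw [hvy', h, one_mul]
      exact hyc
    · right
      rw [hvy', h, inv_mul_cancel_left]
      exact hyc
  · rintro _ ⟨c, hc, rfl⟩
    exact mem_center_iff.2 ((hfixiff c).1 (D.le_fix c hc))
  · intro y hy
    obtain ⟨hyE, hyt⟩ := hcen y hy
    obtain ⟨z, hz, c, hc, h⟩ := D.fix_split ⟨y, hyE⟩ hyt
    refine ⟨ι z, Subgroup.mem_subgroupOf.2 (Subgroup.mem_subgroupOf.1 hz), ι c, ⟨c, hc, rfl⟩, ?_⟩
    rw [← map_mul, ← h]
    rfl
  · rintro _ ⟨c, hc, rfl⟩ hcZ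
    have := D.inter c hc (Subgroup.mem_subgroupOf.2 (Subgroup.mem_subgroupOf.1 hcZ))
    rw [this, map_one]
  · intro g hg v hv
    have h1 := (hmemmap C v).1 hv
    exact (hmemmap C _).2 (D.inv_C g hg v h1)
  · intro z hz
    have hz' : (z : Ω) ∈ Z := Subgroup.mem_subgroupOf.1 hz
    have h2 : (⟨z, hZE hz'⟩ : E) ∈ V₁ := D.Z_le (Subgroup.mem_subgroupOf.2 hz')
    exact ⟨_, h2, rfl⟩
  · exact ⟨a, D.a_mem, rfl⟩
  · rintro _ ⟨w, hw, rfl⟩
    obtain ⟨m, z, hz, h⟩ := D.a_gen w hw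
    refine ⟨m, ι z, Subgroup.mem_subgroupOf.2 (Subgroup.mem_subgroupOf.1 hz), ?_⟩
    rw [h, map_mul, map_pow]
  · intro g hg v hv
    have h1 := (hmemmap V₁ v).1 hv
    exact (hmemmap V₁ _).2 (D.inv_V g hg v h1)
  · -- the focal elements
    intro g hg v
    obtain ⟨l, hl, hlC, hlt'⟩ := D.frattini g hg
    have hn : l⁻¹ * g ∈ F.autGroup E := (F.autGroup E).mul_mem ((F.autGroup E).inv_mem hl) hg
    obtain ⟨β, hβ, hβv⟩ := exists_extension F hs hS hF hE hxS hxE hx hn hlt'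
    obtain ⟨w, hw, c, hc, h⟩ := D.split v
    have hgc : g c = (l⁻¹ * g) c := by
      have h1 : (l⁻¹ * g) c ∈ C := D.inv_C _ hn c hc
      have h2 := hlC _ h1
      have h3 : l ((l⁻¹ * g) c) = g c := by
        show l (l⁻¹ (g c)) = g c
        simp
      rw [← h3, h2]
    refine ⟨ι (w⁻¹ * g w), ⟨_, V₁.mul_mem (V₁.inv_mem hw) (D.inv_V g hg w hw), rfl⟩, ι c,
      mem_center_iff.2 ((hfixiff c).1 (D.le_fix c hc)), β, hβ, ?_⟩
    have hβc : β (ι c) = ι ((l⁻¹ * g) c) := Subtype.ext (hβv c)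
    rw [hβc, ← hgc, ← map_inv, ← map_mul, ← map_mul]
    show ι v⁻¹ * ι (g v) = _
    rw [← map_mul]
    congr 1
    rw [h, map_mul]
    have h2 := hab (c⁻¹ * g c) (w⁻¹ * g w)
    calc (w * c)⁻¹ * (g w * g c) = c⁻¹ * (w⁻¹ * g w) * g c := by group
      _ = (w⁻¹ * g w) * c⁻¹ * g c := by rw [hab c⁻¹]
      _ = _ := by group

/-! ### The group theory at `p = 2` -/

section two

variable (hs : Setup p S Z) (hp2 : p = 2) (hna : ∃ a b : S, a * b ≠ b * a)
  (h4 : (Subgroup.center S).index = 4)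

include hs in
theorem zz_le : Z.subgroupOf S ≤ Subgroup.center S := by
  intro z hz
  rw [Subgroup.mem_center_iff]
  intro g
  exact Subtype.ext (hs.hcen _ (Subgroup.mem_subgroupOf.1 hz) g g.2)

include hs in
theorem zz_comm (a b : S) : a * b * a⁻¹ * b⁻¹ ∈ Z.subgroupOf S := by
  rw [Subgroup.mem_subgroupOf]
  exact_mod_cast hs.hcomm a a.2 b b.2

include hs in
theorem zz_card : Nat.card (Z.subgroupOf S) = p := by
  have h1 : Nat.card (Z.subgroupOf S) = Nat.card Z := Nat.card_congr (Subgroup.subgroupOfEquivOfLe hs.hZS).toEquiv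
  rw [h1, hs.hZc]

include hs hp2 in
theorem zz_invol {z : S} (hz : z ∈ Z.subgroupOf S) : z * z = 1 := by
  have h1 : (⟨z, hz⟩ : Z.subgroupOf S) ^ Nat.card (Z.subgroupOf S) = 1 := pow_card_eq_one'
  rw [zz_card hs, hp2, pow_two] at h1
  exact congrArg Subtype.val h1

theorem center_char (δ : MulAut S) {y : S} (hy : y ∈ Subgroup.center S) : δ y ∈ Subgroup.center S := by
  rw [Subgroup.mem_center_iff] at hy ⊢
  intro g
  have h3 := hy (δ⁻¹ g)
  calc g * δ y = δ (δ⁻¹ g * y) := by simp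
    _ = δ (y * δ⁻¹ g) := by rw [h3]
    _ = _ := by simp

theorem center_char_iff (δ : MulAut S) {y : S} : δ y ∈ Subgroup.center S ↔ y ∈ Subgroup.center S := by
  refine ⟨fun h => ?_, center_char δ⟩
  have := center_char δ⁻¹ h
  simpa using this

include hs hp2 hna in
/-- Automorphisms of `S` fix `Z`. -/
theorem zz_fix (δ : MulAut S) {z : S} (hz : z ∈ Z.subgroupOf S) : δ z = z := by
  classical
  obtain ⟨a₀, b₀, hab⟩ := hna
  have hc₀ : a₀ * b₀ * a₀⁻¹ * b₀⁻¹ ≠ 1 := by
    intro h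
    have h2 := mul_inv_eq_one.1 h
    exact hab (mul_inv_eq_iff_eq_mul.1 h2)
  by_cases hz1 : z = 1
  · rw [hz1, map_one]
  obtain ⟨k, hk⟩ := exists_pow_of_card _ (zz_card hs) (zz_comm hs a₀ b₀) hc₀ hz
  have hδz : δ z ∈ Z.subgroupOf S := by
    rw [hk, map_pow]
    refine Subgroup.pow_mem _ ?_ k
    rw [map_mul, map_mul, map_mul, map_inv, map_inv]
    exact zz_comm hs _ _
  obtain ⟨r, hr⟩ := exists_pow_of_card _ (zz_card hs) hz hz1 hδz
  rcases pow_of_invol (zz_invol hs hp2 hz) r with h | h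
  · exfalso
    rw [h] at hr
    apply hz1
    have : δ z = δ 1 := by rw [hr, map_one]
    exact δ.injective this
  · rw [hr, h]

include hs hp2 h4 in
/-- Three involutions in distinct cosets of the centre: a contradiction. -/
theorem no_three (hsq : ∀ y ∈ Subgroup.center S, ∀ z ∈ Z.subgroupOf S, y * y = z → z = 1)
    {a b c : S} (ha : a ∉ Subgroup.center S) (hb : b ∉ Subgroup.center S) (hab : a⁻¹ * b ∉ Subgroup.center S)
    (haa : a * a = 1) (hbb : b * b = 1) (hcc : c * c = 1) : c⁻¹ * (a * b) ∉ Subgroup.center S := by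
  intro hy
  have hainv : a⁻¹ = a := inv_eq_of_mul_eq_one_left haa
  have hbinv : b⁻¹ = b := inv_eq_of_mul_eq_one_left hbb
  have h1 : a * b = c * (c⁻¹ * (a * b)) := by group
  have h2 : (c⁻¹ * (a * b)) * (c⁻¹ * (a * b)) = a * b * a⁻¹ * b⁻¹ := by
    obtain ⟨y, hyd⟩ : ∃ y, y = c⁻¹ * (a * b) := ⟨_, rfl⟩
    rw [← hyd] at hy h1 ⊢
    have hc := Subgroup.mem_center_iff.1 hy c
    calc y * y = c * c * (y * y) := by rw [hcc, one_mul]
      _ = (c * y) * (c * y) := by
        calc c * c * (y * y) = c * (c * y) * y := by group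
          _ = c * (y * c) * y := by rw [hc]
          _ = _ := by group
      _ = (a * b) * (a * b) := by rw [← h1]
      _ = a * b * a⁻¹ * b⁻¹ := by
        rw [hainv, hbinv]
        group
  have h3 := hsq _ hy _ (zz_comm hs a b) h2
  have hcomm : a * b = b * a := by
    have h5 := mul_inv_eq_one.1 h3
    exact mul_inv_eq_iff_eq_mul.1 h5
  apply ha
  rw [Subgroup.mem_center_iff]
  intro s
  symm
  have hs' := four_cosets h4 ha hb hab haa s
  rcases hs' with h | h | h | h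
  · exact (Subgroup.mem_center_iff.1 h a)
  · have e : s = a * (a⁻¹ * s) := by group
    have hc := Subgroup.mem_center_iff.1 h a
    rw [e]
    calc a * (a * (a⁻¹ * s)) = a * ((a⁻¹ * s) * a) := by rw [← hc]
      _ = _ := by group
  · have e : s = b * (b⁻¹ * s) := by group
    have hc := Subgroup.mem_center_iff.1 h a
    rw [e]
    calc a * (b * (b⁻¹ * s)) = (a * b) * (b⁻¹ * s) := by group
      _ = (b * a) * (b⁻¹ * s) := by rw [hcomm]
      _ = b * (a * (b⁻¹ * s)) := by group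
      _ = b * ((b⁻¹ * s) * a) := by rw [← hc]
      _ = _ := by group
  · have e : s = (a * b) * ((a * b)⁻¹ * s) := by group
    have hc := Subgroup.mem_center_iff.1 h a
    rw [e]
    calc a * (a * b * ((a * b)⁻¹ * s)) = a * (a * b) * ((a * b)⁻¹ * s) := by group
      _ = (a * b) * (a * ((a * b)⁻¹ * s)) := by
        rw [show a * (a * b) = a * (b * a) by rw [hcomm]]
        group
      _ = (a * b) * (((a * b)⁻¹ * s) * a) := by rw [← hc]
      _ = _ := by group

include hs hp2 h4 in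
/-- Automorphisms in `Aut_F(S)` fix the cosets of the centre containing involutions. -/
theorem coset_fix (hS : IsPGroup p S) (hF : F.IsSaturated p)
    (hsq : ∀ y ∈ Subgroup.center S, ∀ z ∈ Z.subgroupOf S, y * y = z → z = 1)
    {δ : MulAut S} (hδ : δ ∈ F.autGroup S) {a : S} (ha : a ∉ Subgroup.center S) (haa : a * a = 1) :
    a⁻¹ * δ a ∈ Subgroup.center S := by
  classical
  by_contra hno
  have ha' : δ a ∉ Subgroup.center S := fun h => ha ((center_char_iff δ).1 h)
  have ha'a' : δ a * δ a = 1 := by rw [← map_mul, haa, map_one]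
  have ha''a'' : δ (δ a) * δ (δ a) = 1 := by rw [← map_mul, ha'a', map_one]
  have h2 : a⁻¹ * δ (δ a) ∈ Subgroup.center S := by
    rcases four_cosets h4 ha ha' hno haa (δ (δ a)) with h | h | h | h
    · exact absurd ((center_char_iff δ).1 h) ha'
    · exact h
    · exfalso
      apply hno
      have e : (δ a)⁻¹ * δ (δ a) = δ (a⁻¹ * δ a) := by simp [map_mul, map_inv]
      rw [e] at h
      exact (center_char_iff δ).1 h
    · exfalso
      have h3 := Subgroup.inv_mem _ h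
      have e : ((a * δ a)⁻¹ * δ (δ a))⁻¹ = (δ (δ a))⁻¹ * (a * δ a) := by group
      rw [e] at h3
      exact no_three hs hp2 h4 hsq ha ha' hno haa ha'a' ha''a'' h3
  -- the square of `δ` fixes the coset
  have hρ : ∀ k : ℕ, a⁻¹ * ((δ * δ) ^ k) a ∈ Subgroup.center S := by
    intro k
    induction k with
    | zero => simp
    | succ k ih =>
      rw [pow_succ', MulAut.mul_apply]
      have e : ((δ * δ) ^ k) a = a * (a⁻¹ * ((δ * δ) ^ k) a) := by group
      rw [e, map_mul, ← mul_assoc]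
      have h5 : (δ * δ) (a⁻¹ * ((δ * δ) ^ k) a) ∈ Subgroup.center S := center_char _ ih
      have h6 : a⁻¹ * (δ * δ) a ∈ Subgroup.center S := h2
      exact Subgroup.mul_mem _ h6 h5
  obtain ⟨q, hq, hqm⟩ := exists_pow_mem_autInduced F hS hF hδ
  have hqodd : Odd q := by
    rw [hp2, Nat.coprime_two_right] at hq
    exact hq
  obtain ⟨k, rfl⟩ := hqodd
  obtain ⟨g, hg, hv⟩ := (mem_autInducedBy_iff S S _).1 hqm
  have h7 : a⁻¹ * (δ ^ (2 * k + 1)) a ∈ Subgroup.center S := by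
    have e : (δ ^ (2 * k + 1)) a = ⟨g, hg⟩ * a * (⟨g, hg⟩ : S)⁻¹ := Subtype.ext (hv a)
    rw [e]
    have h8 := zz_le hs (zz_comm hs a⁻¹ ⟨g, hg⟩)
    rw [inv_inv] at h8
    have e3 : a⁻¹ * (⟨g, hg⟩ * a * (⟨g, hg⟩ : S)⁻¹) = a⁻¹ * ⟨g, hg⟩ * a * (⟨g, hg⟩ : S)⁻¹ := by group
    rw [e3]
    exact h8
  have e : (δ ^ (2 * k + 1)) a = δ (((δ * δ) ^ k) a) := by
    rw [pow_succ', MulAut.mul_apply, pow_mul, pow_two]
  rw [e] at h7
  apply hno
  have h9 := hρ k
  have e2 : ((δ * δ) ^ k) a = a * (a⁻¹ * ((δ * δ) ^ k) a) := by group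
  rw [e2, map_mul, ← mul_assoc] at h7
  have h10 := center_char δ h9
  have h11 := Subgroup.mul_mem _ h7 (Subgroup.inv_mem _ h10)
  rwa [mul_inv_cancel_right] at h11

include hs hp2 in
/-- An index-two version of the data. -/
theorem hsq_of_data {E : Subgroup Ω} {hES : E ≤ S} {a : S} {C V : Subgroup S} (D : EssTwo F Z hES a C V) :
    ∀ y ∈ Subgroup.center S, ∀ z ∈ Z.subgroupOf S, y * y = z → z = 1 := by
  intro y hy z hz hyz
  obtain ⟨z₁, hz₁, c, hc, rfl⟩ := D.C_split y hy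
  have h1 : z₁ * z₁ = 1 := zz_invol hs hp2 hz₁
  have hzc := Subgroup.mem_center_iff.1 (zz_le hs hz₁) c
  have h2 : z = c * c := by
    rw [← hyz]
    calc z₁ * c * (z₁ * c) = z₁ * (c * z₁) * c := by group
      _ = z₁ * (z₁ * c) * c := by rw [hzc]
      _ = (z₁ * z₁) * c * c := by group
      _ = _ := by rw [h1, one_mul]
  have h3 : c * c ∈ C := C.mul_mem hc hc
  rw [← h2] at h3
  exact D.C_int z h3 hz

include hs hp2 h4 in
/-- An automorphism of `S` preserves an essential subgroup. -/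
theorem preserves {E : Subgroup Ω} {hES : E ≤ S} {a : S} {C V : Subgroup S} (D : EssTwo F Z hES a C V)
    (hS : IsPGroup p S) (hF : F.IsSaturated p) (hcen : S ⊓ Subgroup.centralizer (S : Set Ω) ≤ E)
    {δ : MulAut S} (hδ : δ ∈ F.autGroup S) (v : S) (hv : (v : Ω) ∈ E) : ((δ v : S) : Ω) ∈ E := by
  have hsq := hsq_of_data F hs hp2 D
  have hce : ∀ y : S, y ∈ Subgroup.center S → (y : Ω) ∈ E := fun y hy => hcen (mem_center_iff.1 hy)
  rcases D.two v hv with h | h
  · exact hce _ (center_char δ h)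
  · obtain ⟨y, hyd⟩ : ∃ y, y = a⁻¹ * v := ⟨_, rfl⟩
    rw [← hyd] at h
    have e : v = a * y := by rw [hyd]; group
    rw [e, map_mul]
    have h1 := coset_fix F hs hp2 h4 hS hF hsq hδ D.a_nc D.a_inv
    have e2 : δ a = a * (a⁻¹ * δ a) := by group
    have h2 : ((δ a : S) : Ω) ∈ E := by
      rw [e2]
      exact E.mul_mem D.a_mem (hce _ h1)
    exact E.mul_mem h2 (hce _ (center_char δ h))

/-- Consequences of the data for `Aut_F(S)`. -/
theorem data_aut {E : Subgroup Ω} {hES : E ≤ S} {a : S} {C V : Subgroup S} (D : EssTwo F Z hES a C V)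
    {δ : MulAut S} (hδ : δ ∈ F.autGroup S) (hpres : ∀ v : S, (v : Ω) ∈ E → ((δ v : S) : Ω) ∈ E) :
    (∀ v ∈ E.subgroupOf S, v ∈ C → δ v ∈ C) ∧ (∀ v ∈ E.subgroupOf S, v ∈ V → δ v ∈ V) := by
  obtain ⟨g, hg, hgv⟩ := exists_restriction F hES hδ (fun v => hpres _ v.2)
  constructor
  · intro v hv hvC
    have h1 := D.C_inv g hg ⟨v, Subgroup.mem_subgroupOf.1 hv⟩ hvC
    have e : (⟨g ⟨v, Subgroup.mem_subgroupOf.1 hv⟩, hES (g ⟨v, Subgroup.mem_subgroupOf.1 hv⟩).2⟩ : S) = δ v :=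
      Subtype.ext (hgv _)
    rwa [e] at h1
  · intro v hv hvC
    have h1 := D.V_inv g hg ⟨v, Subgroup.mem_subgroupOf.1 hv⟩ hvC
    have e : (⟨g ⟨v, Subgroup.mem_subgroupOf.1 hv⟩, hES (g ⟨v, Subgroup.mem_subgroupOf.1 hv⟩).2⟩ : S) = δ v :=
      Subtype.ext (hgv _)
    rwa [e] at h1

/-- The commutator of `Z(S)` with `Aut_F(S)`. -/
def kk : Subgroup S :=
  Subgroup.closure {k | ∃ y ∈ Subgroup.center S, ∃ δ ∈ F.autGroup S, k = y⁻¹ * δ y}

theorem kk_le_center : kk F ≤ Subgroup.center S := by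
  refine (Subgroup.closure_le _).2 ?_
  rintro _ ⟨y, hy, δ, -, rfl⟩
  exact Subgroup.mul_mem _ (Subgroup.inv_mem _ hy) (center_char δ hy)

theorem hyp_le_of_gen (hS : IsPGroup p S) (hF : F.IsSaturated p) (N : Subgroup Ω)
    (h : ∀ P : Subgroup Ω, (P = S ∨ F.IsEssential p P) → ∀ α ∈ F.autGroup P, ∀ x : P, (x : Ω)⁻¹ * ((α x : P) : Ω) ∈ N) :
    F.hyperfocalSubgroup p ≤ N := by
  have key : ∀ (P : Subgroup Ω) (φ : P →* Ω), φ ∈ F.Hom P → ∀ x : P, (x : Ω)⁻¹ * φ x ∈ N := by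
    refine alperin_induction F hS hF (fun P φ => ∀ x : P, (x : Ω)⁻¹ * φ x ∈ N) ?_ ?_ ?_ ?_
    · intro P hP α hα x
      exact h P hP α hα x
    · intro P Q hQP φ _ hC x
      exact hC (Subgroup.inclusion hQP x)
    · intro P Q R e e' _ _ h1 h2 x
      have e3 : (x : Ω)⁻¹ * isoHom (e.trans e') x = ((x : Ω)⁻¹ * isoHom e x) * ((e x : Ω)⁻¹ * isoHom e' (e x)) := by
        rw [isoHom_apply, isoHom_apply, isoHom_apply]
        simp
      rw [e3]
      exact N.mul_mem (h1 x) (h2 (e x))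
    · intro P Q e _ h1 y
      have h2 := N.inv_mem (h1 (e.symm y))
      rw [isoHom_apply] at h2 ⊢
      simpa using h2
  refine (Cfsg.Agent.Lib.FusionExt.Hyperfocal.hyperfocal_le_focal F).trans ?_
  refine (Subgroup.closure_le _).2 ?_
  rintro _ ⟨P, φ, x, hφ, rfl⟩
  exact key P φ hφ x

include hs hp2 hna h4 in
theorem kk_le_C (hS : IsPGroup p S) (hF : F.IsSaturated p) {E : Subgroup Ω} {hES : E ≤ S} {a : S} {C V : Subgroup S}
    (D : EssTwo F Z hES a C V) (hcen : S ⊓ Subgroup.centralizer (S : Set Ω) ≤ E) : kk F ≤ C := by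
  refine (Subgroup.closure_le _).2 ?_
  rintro _ ⟨y, hy, δ, hδ, rfl⟩
  obtain ⟨z, hz, c, hc, rfl⟩ := D.C_split y hy
  rw [map_mul, zz_fix hs hp2 hna δ hz]
  have hcE : c ∈ E.subgroupOf S := Subgroup.mem_subgroupOf.2 (hcen (mem_center_iff.1 (D.C_le hc)))
  have h1 := (data_aut F D hδ (preserves F hs hp2 h4 D hS hF hcen hδ)).1 c hcE hc
  have e : (z * c)⁻¹ * (z * δ c) = c⁻¹ * δ c := by group
  rw [e]
  exact C.mul_mem (C.inv_mem hc) h1

include hs hp2 in
/-- Two essential subgroups with involutions in the same coset of the centre coincide. -/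
theorem eq_of_coset (hS : IsPGroup p S) (hF : F.IsSaturated p) {E E' : Subgroup Ω} (hE : F.IsEssential p E) (hE' : F.IsEssential p E')
    {a a' : S} {C C' V V' : Subgroup S} (D : EssTwo F Z hE.1.1 a C V) (D' : EssTwo F Z hE'.1.1 a' C' V')
    (h : a⁻¹ * a' ∈ Subgroup.center S) : E' = E := by
  have hcE := center_le_of_isCentric F hE.1
  have hce : ∀ y : S, y ∈ Subgroup.center S → (y : Ω) ∈ E := fun y hy => hcE (mem_center_iff.1 hy)
  have hle : E' ≤ E := by
    intro v hv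
    rcases D'.two ⟨v, hE'.1.1 hv⟩ hv with h1 | h1
    · exact hce _ h1
    · have e : (⟨v, hE'.1.1 hv⟩ : S) = a * (a⁻¹ * a') * (a'⁻¹ * ⟨v, hE'.1.1 hv⟩) := by group
      have h2 : ((a * (a⁻¹ * a') * (a'⁻¹ * ⟨v, hE'.1.1 hv⟩) : S) : Ω) ∈ E :=
        E.mul_mem (E.mul_mem D.a_mem (hce _ h)) (hce _ h1)
      rw [← e] at h2
      exact h2
  obtain ⟨-, hi'⟩ := hs.essential_facts F hS hF hE'
  have hco := Cfsg.Agent.Lib.PGroups.Basic.isCoatom_of_index_prime (hi' ▸ hp.out : (E'.subgroupOf S).index.Prime)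
  have hlt := IsEssential.lt F hS hF hE
  have hsub : E'.subgroupOf S ≤ E.subgroupOf S := fun v hv => Subgroup.mem_subgroupOf.2 (hle (Subgroup.mem_subgroupOf.1 hv))
  rcases hsub.lt_or_eq with h1 | h1
  · exfalso
    have h2 := hco.2 _ h1
    exact hlt.ne (le_antisymm hlt.le (Subgroup.subgroupOf_eq_top.1 h2))
  · apply le_antisymm hle
    intro v hv
    have h2 : (⟨v, hE.1.1 hv⟩ : S) ∈ E.subgroupOf S := Subgroup.mem_subgroupOf.2 hv
    rw [← h1] at h2
    exact Subgroup.mem_subgroupOf.1 h2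

include hs hp2 hna h4 in
/-- **The main step at `p = 2`.** -/
theorem two_case (hS : IsPGroup p S) (hF : F.IsSaturated p) (hcore : F.core = ⊥) (hhyp : F.hyperfocalSubgroup p = S) :
    S ⊓ Subgroup.centralizer (S : Set Ω) = Z ∧ ∃ a b : S, a * a = 1 ∧ b * b = 1 ∧ a ∉ Subgroup.center S ∧
      b ∉ Subgroup.center S ∧ a⁻¹ * b ∉ Subgroup.center S := by
  classical
  have hpp := hp.out
  obtain ⟨E₁, hE₁⟩ := exists_essential F hs hS hF hcore
  obtain ⟨a, C₁, V₁, D₁⟩ := ess_two F hs hp2 hS hF hE₁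
  have hsq := hsq_of_data F hs hp2 D₁
  have hcE : ∀ E, F.IsEssential p E → S ⊓ Subgroup.centralizer (S : Set Ω) ≤ E := fun E hE => center_le_of_isCentric F hE.1
  by_cases hall : ∀ P, F.IsEssential p P → P = E₁
  · -- one essential subgroup
    exfalso
    have hlt := IsEssential.lt F hS hF hE₁
    obtain ⟨-, hi⟩ := hs.essential_facts F hS hF hE₁
    have hi2 : (E₁.subgroupOf S).index = 2 := by rw [hi, hp2]
    have hgenS : ∀ δ ∈ F.autGroup S, ∀ x : S, (x : Ω)⁻¹ * ((δ x : S) : Ω) ∈ E₁ := by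
      intro δ hδ x
      have hp1 := preserves F hs hp2 h4 D₁ hS hF (hcE E₁ hE₁) hδ
      have hp2' := preserves F hs hp2 h4 D₁ hS hF (hcE E₁ hE₁) ((F.autGroup S).inv_mem hδ)
      have h1 : x⁻¹ * δ x ∈ E₁.subgroupOf S := by
        rw [Subgroup.mul_mem_iff_of_index_two hi2, Subgroup.inv_mem_iff]
        constructor
        · intro h
          exact Subgroup.mem_subgroupOf.2 (hp1 x (Subgroup.mem_subgroupOf.1 h))
        · intro h
          have h2 := hp2' (δ x) (Subgroup.mem_subgroupOf.1 h)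
          rw [show δ⁻¹ (δ x) = x by simp] at h2
          exact Subgroup.mem_subgroupOf.2 h2
      exact Subgroup.mem_subgroupOf.1 h1
    have hle := hyp_le_of_gen F hS hF E₁ (fun P hP α hα x => by
      rcases hP with hPS | hP
      · subst hPS
        exact hgenS α hα x
      · have e := hall P hP
        subst e
        exact P.mul_mem (P.inv_mem x.2) (α x).2)
    rw [hhyp] at hle
    exact hlt.not_ge hle
  · push Not at hall
    obtain ⟨E₂, hE₂, hne⟩ := hall
    obtain ⟨b, C₂, V₂, D₂⟩ := ess_two F hs hp2 hS hF hE₂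
    have hab : a⁻¹ * b ∉ Subgroup.center S := fun h => hne (eq_of_coset F hs hp2 hS hF hE₁ hE₂ D₁ D₂ h)
    have hainv : a⁻¹ = a := inv_eq_of_mul_eq_one_left D₁.a_inv
    have hbinv : b⁻¹ = b := inv_eq_of_mul_eq_one_left D₂.a_inv
    refine ⟨?_, a, b, D₁.a_inv, D₂.a_inv, D₁.a_nc, D₂.a_nc, hab⟩
    have hall' : ∀ P, F.IsEssential p P → P = E₁ ∨ P = E₂ := by
      intro P hP
      obtain ⟨a₃, C₃, V₃, D₃⟩ := ess_two F hs hp2 hS hF hP
      rcases four_cosets h4 D₁.a_nc D₂.a_nc hab D₁.a_inv a₃ with h | h | h | h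
      · exact absurd h D₃.a_nc
      · exact Or.inl (eq_of_coset F hs hp2 hS hF hE₁ hP D₁ D₃ h)
      · exact Or.inr (eq_of_coset F hs hp2 hS hF hE₂ hP D₂ D₃ h)
      · exfalso
        have h3 := Subgroup.inv_mem _ h
        have e : ((a * b)⁻¹ * a₃)⁻¹ = a₃⁻¹ * (a * b) := by group
        rw [e] at h3
        exact no_three hs hp2 h4 hsq D₁.a_nc D₂.a_nc hab D₁.a_inv D₂.a_inv D₃.a_inv h3
    let ZZ : Subgroup S := Z.subgroupOf S
    let K : Subgroup S := kk F
    let W : Subgroup S := ZZ ⊔ K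
    have hKc : K ≤ Subgroup.center S := kk_le_center F
    have hZZc : ZZ ≤ Subgroup.center S := zz_le hs
    have hWc : W ≤ Subgroup.center S := sup_le hZZc hKc
    have hnorm_of_c : ∀ X : Subgroup S, X ≤ Subgroup.center S → X.Normal := by
      intro X hX
      refine ⟨fun n hn g => ?_⟩
      rw [Subgroup.mem_center_iff.1 (hX hn) g, mul_inv_cancel_right]
      exact hn
    have hWn : W.Normal := hnorm_of_c W hWc
    have hKn : K.Normal := hnorm_of_c K hKc
    let T : Subgroup S := Subgroup.closure {a, b}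
    let N : Subgroup S := T ⊔ W
    have hWN : W ≤ N := le_sup_right
    have hZN : ZZ ≤ N := le_sup_left.trans hWN
    have hKN : K ≤ N := le_sup_right.trans hWN
    have haN : a ∈ N := Subgroup.mem_sup_left (Subgroup.subset_closure (by simp))
    have hbN : b ∈ N := Subgroup.mem_sup_left (Subgroup.subset_closure (by simp))
    have hNconj : ∀ s : S, ∀ n ∈ N, s * n * s⁻¹ ∈ N := by
      intro s n hn
      have h1 := hZN (zz_comm hs s n)
      have h2 := N.mul_mem h1 hn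
      rwa [inv_mul_cancel_right] at h2
    have hVN : ∀ (c : S) (V : Subgroup S), c ∈ N → (∀ w ∈ V, ∃ m : ℕ, ∃ z ∈ Z.subgroupOf S, w = c ^ m * z) → V ≤ N := by
      intro c V hc hV w hw
      obtain ⟨m, z, hz, rfl⟩ := hV w hw
      exact N.mul_mem (N.pow_mem hc m) (hZN hz)
    have hkkmem : ∀ y ∈ Subgroup.center S, ∀ δ ∈ F.autGroup S, y⁻¹ * δ y ∈ K := fun y hy δ hδ =>
      Subgroup.subset_closure ⟨y, hy, δ, hδ, rfl⟩
    have hV₁N : V₁ ≤ N := hVN a V₁ haN D₁.V_gen
    have hV₂N : V₂ ≤ N := hVN b V₂ hbN D₂.V_gen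
    have hFx : ∀ δ ∈ F.autGroup S, ∀ x : S, x⁻¹ * δ x ∈ N := by
      intro δ hδ
      let Fx : Subgroup S :=
        { carrier := {x | x⁻¹ * δ x ∈ N}
          mul_mem' := fun {x y} hx hy => by
            show (x * y)⁻¹ * δ (x * y) ∈ N
            have h1 := hNconj y⁻¹ _ hx
            have h2 := N.mul_mem h1 hy
            have e : y⁻¹ * (x⁻¹ * δ x) * y⁻¹⁻¹ * (y⁻¹ * δ y) = (x * y)⁻¹ * δ (x * y) := by
              rw [map_mul]
              group
            rwa [e] at h2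
          one_mem' := by
            show (1 : S)⁻¹ * δ 1 ∈ N
            simp [N.one_mem]
          inv_mem' := fun {x} hx => by
            show x⁻¹⁻¹ * δ x⁻¹ ∈ N
            have h1 := hNconj x _ (N.inv_mem hx)
            have e : x * (x⁻¹ * δ x)⁻¹ * x⁻¹ = x⁻¹⁻¹ * δ x⁻¹ := by
              rw [map_inv]
              group
            rwa [e] at h1 }
      have hFa : a ∈ Fx := by
        show a⁻¹ * δ a ∈ N
        exact N.mul_mem (N.inv_mem haN) (hV₁N ((data_aut F D₁ hδ (preserves F hs hp2 h4 D₁ hS hF (hcE E₁ hE₁) hδ)).2 a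
          (Subgroup.mem_subgroupOf.2 D₁.a_mem) D₁.a_V))
      have hFb : b ∈ Fx := by
        show b⁻¹ * δ b ∈ N
        exact N.mul_mem (N.inv_mem hbN) (hV₂N ((data_aut F D₂ hδ (preserves F hs hp2 h4 D₂ hS hF (hcE E₂ hE₂) hδ)).2 b
          (Subgroup.mem_subgroupOf.2 D₂.a_mem) D₂.a_V))
      have hFc : ∀ y ∈ Subgroup.center S, y ∈ Fx := fun y hy => hKN (hkkmem y hy δ hδ)
      intro x
      show x ∈ Fx
      rcases four_cosets h4 D₁.a_nc D₂.a_nc hab D₁.a_inv x with h | h | h | h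
      · exact hFc x h
      · have e : x = a * (a⁻¹ * x) := by group
        rw [e]
        exact Fx.mul_mem hFa (hFc _ h)
      · have e : x = b * (b⁻¹ * x) := by group
        rw [e]
        exact Fx.mul_mem hFb (hFc _ h)
      · have e : x = a * b * ((a * b)⁻¹ * x) := by group
        rw [e]
        exact Fx.mul_mem (Fx.mul_mem hFa hFb) (hFc _ h)
    have hle := hyp_le_of_gen F hS hF (N.map S.subtype) (fun P hP α hα x => by
      rcases hP with hPS | hP
      · subst hPS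
        exact ⟨_, hFx α hα x, rfl⟩
      · rcases hall' P hP with e | e
        · subst e
          obtain ⟨w, hw, c, hc, δ, hδ, he⟩ := D₁.foc α hα x
          refine ⟨(⟨x, hE₁.1.1 x.2⟩ : S)⁻¹ * ⟨α x, hE₁.1.1 (α x).2⟩, ?_, rfl⟩
          rw [he]
          exact N.mul_mem (hV₁N hw) (hKN (hkkmem c hc δ hδ))
        · subst e
          obtain ⟨w, hw, c, hc, δ, hδ, he⟩ := D₂.foc α hα x
          refine ⟨(⟨x, hE₂.1.1 x.2⟩ : S)⁻¹ * ⟨α x, hE₂.1.1 (α x).2⟩, ?_, rfl⟩
          rw [he]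
          exact N.mul_mem (hV₂N hw) (hKN (hkkmem c hc δ hδ)))
    rw [hhyp] at hle
    have hNtop : ∀ s : S, s ∈ N := by
      intro s
      obtain ⟨s', hs', e⟩ := hle s.2
      have : s' = s := Subtype.ext e
      rwa [← this]
    -- elements of `T`
    have hcomm_move : ∀ u v : S, ∃ c ∈ ZZ, v * u = u * v * c := by
      intro u v
      refine ⟨v⁻¹ * u⁻¹ * v⁻¹⁻¹ * u⁻¹⁻¹, zz_comm hs _ _, ?_⟩
      group
    have hpowinv : ∀ (c : S), c * c = 1 → ∀ m : ℕ, (c ^ m)⁻¹ = c ^ m := by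
      intro c hc m
      apply inv_eq_of_mul_eq_one_left
      rcases pow_of_invol hc m with h | h
      · rw [h, one_mul]
      · rw [h, hc]
    have hnf : ∀ t ∈ T, ∃ m n : ℕ, ∃ z ∈ ZZ, t = a ^ m * b ^ n * z := by
      intro t ht
      induction ht using Subgroup.closure_induction with
      | mem x hx =>
        rcases hx with rfl | hx
        · exact ⟨1, 0, 1, ZZ.one_mem, by simp⟩
        · rw [Set.mem_singleton_iff] at hx
          subst hx
          exact ⟨0, 1, 1, ZZ.one_mem, by simp⟩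
      | one => exact ⟨0, 0, 1, ZZ.one_mem, by simp⟩
      | mul x y _ _ hx hy =>
        obtain ⟨m, n, z, hz, rfl⟩ := hx
        obtain ⟨k, l, w, hw, rfl⟩ := hy
        obtain ⟨c, hc, hcm⟩ := hcomm_move (a ^ k) (b ^ n)
        refine ⟨m + k, n + l, c * z * w, ZZ.mul_mem (ZZ.mul_mem hc hz) hw, ?_⟩
        have h1 := Subgroup.mem_center_iff.1 (hZZc hz) (a ^ k * b ^ l)
        have h2 := Subgroup.mem_center_iff.1 (hZZc hc) (b ^ l)
        calc a ^ m * b ^ n * z * (a ^ k * b ^ l * w) = a ^ m * b ^ n * (z * (a ^ k * b ^ l)) * w := by group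
          _ = a ^ m * b ^ n * ((a ^ k * b ^ l) * z) * w := by rw [← h1]
          _ = a ^ m * (b ^ n * a ^ k) * b ^ l * z * w := by group
          _ = a ^ m * (a ^ k * b ^ n * c) * b ^ l * z * w := by rw [hcm]
          _ = a ^ m * a ^ k * b ^ n * (c * b ^ l) * z * w := by group
          _ = a ^ m * a ^ k * b ^ n * (b ^ l * c) * z * w := by rw [← h2]
          _ = _ := by rw [pow_add, pow_add]; group
      | inv x _ hx =>
        obtain ⟨m, n, z, hz, rfl⟩ := hx
        obtain ⟨c, hc, hcm⟩ := hcomm_move (a ^ m) (b ^ n)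
        refine ⟨m, n, c * z⁻¹, ZZ.mul_mem hc (ZZ.inv_mem hz), ?_⟩
        have h1 := Subgroup.mem_center_iff.1 (hZZc (ZZ.inv_mem hz)) (b ^ n * a ^ m)
        calc (a ^ m * b ^ n * z)⁻¹ = z⁻¹ * ((b ^ n)⁻¹ * (a ^ m)⁻¹) := by group
          _ = z⁻¹ * (b ^ n * a ^ m) := by rw [hpowinv b D₂.a_inv, hpowinv a D₁.a_inv]
          _ = (b ^ n * a ^ m) * z⁻¹ := by rw [← h1]
          _ = (a ^ m * b ^ n * c) * z⁻¹ := by rw [hcm]
          _ = _ := by group
    have hcW : Subgroup.center S ≤ W := by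
      intro y hy
      have h1 : y ∈ ((T ⊔ W : Subgroup S) : Set S) := hNtop y
      rw [Subgroup.mul_normal] at h1
      obtain ⟨t, ht, w, hw, rfl⟩ := h1
      obtain ⟨m, n, z, hz, rfl⟩ := hnf t ht
      have hzc := hZZc hz
      have hwc := hWc hw
      have hab' : a ^ m * b ^ n ∈ Subgroup.center S := by
        have h2 := Subgroup.mul_mem _ (Subgroup.mul_mem _ hy (Subgroup.inv_mem _ hwc)) (Subgroup.inv_mem _ hzc)
        have e : a ^ m * b ^ n * z * w * w⁻¹ * z⁻¹ = a ^ m * b ^ n := by group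
        rwa [e] at h2
      rcases pow_of_invol D₁.a_inv m with h3 | h3 <;> rcases pow_of_invol D₂.a_inv n with h4' | h4' <;> rw [h3, h4'] at hab'
      · rw [h3, h4', one_mul, one_mul]
        exact W.mul_mem (le_sup_left (a := ZZ) hz) hw
      · rw [one_mul] at hab'
        exact absurd hab' D₂.a_nc
      · rw [mul_one] at hab'
        exact absurd hab' D₁.a_nc
      · exfalso
        apply hab
        rw [hainv]
        exact hab'
    -- the complements
    have hCK : ∀ (P : Subgroup Ω) (hP : F.IsEssential p P) (a' : S) (C' V' : Subgroup S), EssTwo F Z hP.1.1 a' C' V' → C' = K := by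
      intro P hP a' C' V' D'
      have hK := kk_le_C F hs hp2 hna h4 hS hF D' (hcE P hP)
      refine le_antisymm (fun c hc => ?_) hK
      have h1 : c ∈ ((ZZ ⊔ K : Subgroup S) : Set S) := hcW (D'.C_le hc)
      rw [Subgroup.mul_normal] at h1
      obtain ⟨z, hz, k, hk, hzk⟩ := h1
      have hzk' : z * k = c := hzk
      have h2 : z ∈ C' := by
        have h3 := C'.mul_mem hc (C'.inv_mem (hK hk))
        rwa [← hzk', mul_inv_cancel_right] at h3
      rw [D'.C_int z h2 hz, one_mul] at hzk'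
      rw [← hzk']
      exact hk
    have hCK₁ := hCK E₁ hE₁ a C₁ V₁ D₁
    -- normality
    have hQS : K.map S.subtype ≤ S := by
      rintro _ ⟨k, -, rfl⟩
      exact k.2
    have hN' : F.IsNormal (K.map S.subtype) := by
      apply isNormal_of_invariant F hS hF hQS
      intro P hP
      rcases hP with hPS | hP
      · subst hPS
        refine ⟨hQS, fun δ hδ v hv => ?_⟩
        obtain ⟨k, hk, hkv⟩ := hv
        have e : k = v := Subtype.ext hkv
        subst e
        refine ⟨δ k, ?_, rfl⟩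
        rw [← hCK₁] at hk ⊢
        exact (data_aut F D₁ hδ (preserves F hs hp2 h4 D₁ hS hF (hcE E₁ hE₁) hδ)).1 k
          (Subgroup.mem_subgroupOf.2 (hcE E₁ hE₁ (mem_center_iff.1 (D₁.C_le hk)))) hk
      · obtain ⟨a', C', V', D'⟩ := ess_two F hs hp2 hS hF hP
        have hC' := hCK P hP a' C' V' D'
        refine ⟨?_, fun α hα v hv => ?_⟩
        · rintro _ ⟨k, hk, rfl⟩
          exact hcE P hP (mem_center_iff.1 (hKc hk))
        · obtain ⟨k, hk, hkv⟩ := hv
          have e : (⟨v, hP.1.1 v.2⟩ : S) = k := Subtype.ext hkv.symm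
          rw [← hC'] at hk
          rw [← e] at hk
          refine ⟨⟨α v, hP.1.1 (α v).2⟩, ?_, rfl⟩
          rw [← hC']
          exact D'.C_inv α hα v hk
    have hbot : K.map S.subtype ≤ ⊥ := hcore ▸ Cfsg.Agent.Lib.FusionExt.Constrained.le_core F hN'
    have hK1 : ∀ k ∈ K, k = 1 := by
      intro k hk
      have : (k : Ω) = 1 := hbot ⟨k, hk, rfl⟩
      exact Subtype.ext this
    apply le_antisymm
    · intro y hy
      have h1 : (⟨y, hy.1⟩ : S) ∈ ((ZZ ⊔ K : Subgroup S) : Set S) := hcW (mem_center_iff.2 hy)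
      rw [Subgroup.mul_normal] at h1
      obtain ⟨z, hz, k, hk, hzk⟩ := h1
      have hzk' : z * k = ⟨y, hy.1⟩ := hzk
      rw [hK1 k hk, mul_one] at hzk'
      rw [hzk'] at hz
      exact Subgroup.mem_subgroupOf.1 hz
    · intro z hz
      exact ⟨hs.hZS hz, Subgroup.mem_centralizer_iff.2 fun s hs' => hs.hcen z hz s hs'⟩

end two

end fusion

end Cfsg.Agent.Lib.FusionTheory.CenterIndexTwo
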