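import Cfsg.Agent.Lib.FusionTheory.CenterJ
import Cfsg.Agent.Lib.FusionTheory.CenterFactor
import Cfsg.Agent.Lib.Fusion.Thompson
import Cfsg.Agent.Lib.Fusion.WeakClosure

/-!
# The centre of `N_F(J(S))` and the centre of `F`, for `p` odd and for `p`-th powers
(helper93)
-/

set_option autoImplicit false

namespace Cfsg.Agent.Lib.FusionTheory.CenterJ2

open Subgroup Cfsg Cfsg.FusionSystem Cfsg.Agent.Lib.PLocal.Thompson Cfsg.Agent.Lib.FusionTheory.CenterJ
  Cfsg.Agent.Lib.Fusion.WeakClosure Cfsg.Agent.Lib.Fusion.Thompson Cfsg.Agent.Lib.Fusion.Basic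
  Cfsg.Agent.Lib.Core.Basic

universe u

theorem center_le_WJ (Q : Type u) [Group Q] [Finite Q] : center Q ≤ WJ Q := by
  intro z hz
  rw [WJ, thompsonSubgroupA_eq]
  obtain ⟨A, hA⟩ := exists_isMaxIn 0 (⊤ : Subgroup Q)
  exact hA.le_jOf (hA.mem_of_commute trivial (by simp) (fun a _ => (mem_center_iff.1 hz a)))

section loc

variable {L : Type u} [Group L] [Finite L] {p : ℕ} [hp : Fact p.Prime]

theorem isSyl_top (P₀ : Sylow p L) : IsSyl p (⊤ : Subgroup L) (P₀ : Subgroup L) := by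
  refine ⟨le_top, P₀.isPGroup', ?_⟩
  rw [Subgroup.relIndex_top_right]
  exact P₀.not_dvd_index

theorem not_mem_center_of {z : L} (h : ∀ x ∈ (⊤ : Subgroup L), x * z = z * x) (hnc : z ∉ center L) : False :=
  hnc (mem_center_iff.2 fun x => h x trivial)

theorem loc_odd (hp2 : p ≠ 2) (P₀ : Sylow p L) (hC : centralizer ((pCore p L : Subgroup L) : Set L) ≤ pCore p L)
    {z : L} (hzP : z ∈ (P₀ : Subgroup L)) (hzc : ∀ u ∈ (P₀ : Subgroup L), u * z = z * u) (hnc : z ∉ center L) :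
    ∃ g ∈ normalizer ((jOf 0 (P₀ : Subgroup L) : Subgroup L) : Set L), g * z * g⁻¹ ≠ z := by
  by_contra hcon
  push Not at hcon
  refine not_mem_center_of (lt_odd (pCore p L) pCore_isPGroup hC hp2 ⊤ P₀ z le_top (isSyl_top P₀) hzP hzc
    (fun x _ hxN => ?_)) hnc
  have h1 := hcon x hxN
  calc x * z = x * z * x⁻¹ * x := by group
    _ = z * x := by rw [h1]

theorem loc_pow (P₀ : Sylow p L) (hC : centralizer ((pCore p L : Subgroup L) : Set L) ≤ pCore p L)
    {w : L} (hzP : w ∈ (P₀ : Subgroup L)) (hzc : ∀ u ∈ (P₀ : Subgroup L), u * w = w * u) (hnc : w ^ p ∉ center L) :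
    ∃ g ∈ normalizer ((jOf 0 (P₀ : Subgroup L) : Subgroup L) : Set L), g * w ^ p * g⁻¹ ≠ w ^ p := by
  by_contra hcon
  push Not at hcon
  refine not_mem_center_of (lt_pow (pCore p L) pCore_isPGroup hC _ ⊤ P₀ w rfl le_top (isSyl_top P₀) hzP hzc
    (fun x _ hxN => ?_)) hnc
  have h1 := hcon x hxN
  calc x * w ^ p = x * w ^ p * x⁻¹ * x := by group
    _ = w ^ p * x := by rw [h1]

end loc

section main

variable {Ω : Type u} [Group Ω] {S : Subgroup Ω} [Finite S] {p : ℕ} [hp : Fact p.Prime]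

omit hp in
theorem hW2 : ∀ (Q R : Type u) [Group Q] [Group R] [Finite Q], IsPGroup p Q → ∀ φ : Q ≃* R,
    (WJ Q).map φ.toMonoidHom = WJ R := fun Q R _ _ _ h φ => WJ_map (p := p) Q R h φ

theorem jOf_eq {L : Type u} [Group L] (P₀ : Subgroup L) :
    (((WJ ↥P₀).map P₀.subtype : Subgroup L)) = jOf 0 P₀ := by
  rw [← thompsonSubgroupAOf_eq]
  rfl

/-- **The centre of `N_F(J(S))`, `p` odd.** -/
theorem mem_center_odd (hp2 : p ≠ 2) (hS : IsPGroup p S) (F : FusionSystem S) (hF : F.IsSaturated p)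
    (N : FusionSystem (normalizerIn S (thompsonSubgroupAOf S))) (hN : F.IsNormalizerSystem (thompsonSubgroupAOf S) N)
    {x : Ω} (hx : x ∈ N.center) : x ∈ F.center := by
  refine mem_center_of_local WJ (hW2 (p := p)) (fun Q _ _ _ => center_le_WJ Q) hS F hF N hN hx ?_
  intro T hTS hxT hxZ hZT L _ _ P₀ ι hι hP₀ hC hxc hnc
  rw [jOf_eq]
  refine loc_odd hp2 P₀ hC (hP₀ ▸ ⟨_, rfl⟩) ?_ hnc
  intro u hu
  rw [hP₀] at hu
  obtain ⟨t, rfl⟩ := hu
  rw [← map_mul, ← map_mul, mem_center_iff.1 hxZ t]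

/-- **The centre of `N_F(J(S))`, `p`-th powers.** -/
theorem mem_center_pow (hS : IsPGroup p S) (F : FusionSystem S) (hF : F.IsSaturated p)
    (N : FusionSystem (normalizerIn S (thompsonSubgroupAOf S))) (hN : F.IsNormalizerSystem (thompsonSubgroupAOf S) N)
    {w : Ω} (hw : w ∈ S ⊓ centralizer (S : Set Ω)) (hx : w ^ p ∈ N.center) : w ^ p ∈ F.center := by
  refine mem_center_of_local WJ (hW2 (p := p)) (fun Q _ _ _ => center_le_WJ Q) hS F hF N hN hx ?_
  intro T hTS hxT hxZ hZT L _ _ P₀ ι hι hP₀ hC hxc hnc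
  rw [jOf_eq]
  have hwT : w ∈ T := hZT hw
  have e : (⟨w ^ p, hxT⟩ : T) = (⟨w, hwT⟩ : T) ^ p := Subtype.ext rfl
  rw [e, map_pow] at hnc ⊢
  refine loc_pow P₀ hC (hP₀ ▸ ⟨_, rfl⟩) ?_ hnc
  intro u hu
  rw [hP₀] at hu
  obtain ⟨t, rfl⟩ := hu
  rw [← map_mul, ← map_mul]
  congr 1
  exact Subtype.ext (Subgroup.mem_centralizer_iff.1 hw.2 t (hTS t.2))

/-- `Z(F) ≤ Z(N_F(J(S)))`. -/
theorem center_le_N (hS : IsPGroup p S) (F : FusionSystem S)
    (N : FusionSystem (normalizerIn S (thompsonSubgroupAOf S))) (hN : F.IsNormalizerSystem (thompsonSubgroupAOf S) N) :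
    F.center ≤ N.center :=
  center_le_center_normalizer WJ (fun Q _ _ _ => center_le_WJ Q) hS F N hN

theorem normalizerIn_J (hS : IsPGroup p S) : normalizerIn S (thompsonSubgroupAOf S) = S :=
  le_antisymm inf_le_left fun s hs =>
    normalizerIn_le_UU WJ (hW2 (p := p)) hS le_rfl ⟨hs, Subgroup.le_normalizer hs⟩

/-- `Z(S) ≤ O_p(N_F(J(S)))`, `N_F(J(S))` is saturated. -/
theorem N_data (hS : IsPGroup p S) (F : FusionSystem S) (hF : F.IsSaturated p)
    (N : FusionSystem (normalizerIn S (thompsonSubgroupAOf S))) (hN : F.IsNormalizerSystem (thompsonSubgroupAOf S) N) :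
    N.IsSaturated p ∧ S ⊓ centralizer (S : Set Ω) ≤ N.core := by
  have hJS : thompsonSubgroupAOf S ≤ S := Subgroup.map_subtype_le _
  have hTe := normalizerIn_J hS
  have hfn : F.IsFullyNormalized (thompsonSubgroupAOf S) := by
    refine ⟨hJS, fun Q' _ => ?_⟩
    rw [hTe]
    exact card_le_of_le_finite inf_le_left
  refine ⟨Cfsg.Agent.Lib.Fusion.KSystem.isSaturated_normalizerSystem hS F hF hfn N hN, ?_⟩
  have hNn := Cfsg.Agent.Lib.Fusion.ModelNormalizer.normalizerSystem_isNormal F hJS hN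
  refine le_trans ?_ (le_sSup hNn)
  intro z hz
  exact ⟨⟨z, hz.1⟩, center_le_WJ S (mem_center_iff.2 fun g => Subtype.ext (Subgroup.mem_centralizer_iff.1 hz.2 g g.2)), rfl⟩

/-- **`Z(F)` is a direct factor of `Z(S)` for `p` odd.** -/
theorem center_factor_odd (hp2 : p ≠ 2) (hS : IsPGroup p S) (F : FusionSystem S) (hF : F.IsSaturated p) :
    ∃ K : Subgroup Ω, K ≤ (S ⊓ centralizer (S : Set Ω)) ∧ F.center ⊓ K = ⊥ ∧
      F.center ⊔ K = (S ⊓ centralizer (S : Set Ω)) := by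
  have hJS : thompsonSubgroupAOf S ≤ S := Subgroup.map_subtype_le _
  obtain ⟨N, hN⟩ := Cfsg.Agent.Lib.Fusion.NormSystem.exists_normalizerSystem F hJS
  have hTe := normalizerIn_J (p := p) hS
  haveI : Finite ↥(normalizerIn S (thompsonSubgroupAOf S)) := finite_of_le inf_le_left
  obtain ⟨hNs, hZ⟩ := N_data hS F hF N hN
  have hNp : IsPGroup p ↥(normalizerIn S (thompsonSubgroupAOf S)) := hS.to_le inf_le_left
  have e2 : (normalizerIn S (thompsonSubgroupAOf S) : Subgroup Ω) ⊓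
      centralizer ((normalizerIn S (thompsonSubgroupAOf S) : Subgroup Ω) : Set Ω) = S ⊓ centralizer (S : Set Ω) := by
    rw [hTe]
  obtain ⟨K, h1, h2, h3⟩ := Cfsg.Agent.Lib.FusionTheory.CenterFactor.center_direct_factor N hNp hNs (by rw [e2]; exact hZ)
  rw [e2] at h1 h3
  have hc : N.center = F.center :=
    le_antisymm (fun x hx => mem_center_odd hp2 hS F hF N hN hx) (center_le_N hS F N hN)
  rw [hc] at h2 h3
  exact ⟨K, h1, h2, h3⟩

end main

end Cfsg.Agent.Lib.FusionTheory.CenterJ2
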