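import Cfsg.Agent.Lib.FusionTheory.TransPair
import Cfsg.Agent.Lib.FusionTheory.Weak
import Cfsg.Agent.Lib.FusionExt.Constrained
import Cfsg.Agent.Lib.PGroups.Basic

/-!
# Saturated fusion systems over `p`-groups with `S'` of order `p` central

Such a system has all its essential subgroups abelian of index `p`, with the structure from `TransPair`; for odd `p`
and no normal subgroups, `Z(S) = S'`.
-/

set_option autoImplicit false
set_option linter.unusedSectionVars false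
set_option linter.unusedVariables false

namespace Cfsg.Agent.Lib.FusionTheory.ClassTwo

open Cfsg Cfsg.FusionSystem Cfsg.Agent.Lib.Fusion.Basic Cfsg.Agent.Lib.Fusion.Saturation
  Cfsg.Agent.Lib.Fusion.Saturation2 Cfsg.Agent.Lib.Fusion.Alperin Cfsg.Agent.Lib.FusionTheory.Normal
  Cfsg.Agent.Lib.FusionTheory.Transvect Cfsg.Agent.Lib.FusionTheory.TransPair
  Cfsg.Agent.Lib.FusionTheory.Essential

theorem mem_of_pows {G : Type*} [Group G] {B : Subgroup G} {g : G} {a b : ℕ} (h : a.Coprime b) (h1 : g ^ a ∈ B)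
    (h2 : g ^ b ∈ B) : g ∈ B := by
  have hbez : (a : ℤ) * Nat.gcdA a b + (b : ℤ) * Nat.gcdB a b = 1 := by
    have := Nat.gcd_eq_gcd_ab a b
    rw [h] at this
    exact_mod_cast this.symm
  have e : g = (g ^ a) ^ (Nat.gcdA a b) * (g ^ b) ^ (Nat.gcdB a b) := by
    rw [← zpow_natCast, ← zpow_natCast, ← zpow_mul, ← zpow_mul, ← zpow_add, hbez, zpow_one]
  rw [e]
  exact B.mul_mem (B.zpow_mem h1 _) (B.zpow_mem h2 _)

variable {Ω : Type*} [Group Ω] {S : Subgroup Ω} {p : ℕ} [hp : Fact p.Prime]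

/-- `[S,S] ≤ Z`, `Z` central of order `p`. -/
structure Setup (p : ℕ) (S Z : Subgroup Ω) : Prop where
  hZS : Z ≤ S
  hZc : Nat.card Z = p
  hcen : ∀ z ∈ Z, ∀ s ∈ S, s * z = z * s
  hcomm : ∀ a ∈ S, ∀ b ∈ S, a * b * a⁻¹ * b⁻¹ ∈ Z

variable {Z : Subgroup Ω}

/-- The commutator map with `w`. -/
def commHomS (hs : Setup p S Z) (w : S) : S →* Z where
  toFun y := ⟨y * w * y⁻¹ * w⁻¹, by
    have := hs.hcomm y y.2 w w.2
    exact_mod_cast this⟩
  map_one' := by ext; simp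
  map_mul' a b := by
    ext
    show ((a * b * w * (a * b)⁻¹ * w⁻¹ : S) : Ω) = ((a * w * a⁻¹ * w⁻¹ : S) : Ω) * ((b * w * b⁻¹ * w⁻¹ : S) : Ω)
    have hb : ((b * w * b⁻¹ * w⁻¹ : S) : Ω) ∈ Z := by
      have := hs.hcomm b b.2 w w.2
      exact_mod_cast this
    have e1 := hs.hcen _ hb a a.2
    have e2 := hs.hcen _ hb ((a * w * a⁻¹ * w⁻¹ : S) : Ω) (a * w * a⁻¹ * w⁻¹ : S).2
    rw [e2]
    simp only [Subgroup.coe_mul, Subgroup.coe_inv] at e1 ⊢
    calc (a : Ω) * b * w * ((a : Ω) * b)⁻¹ * (w : Ω)⁻¹ = (a : Ω) * (b * w * (b : Ω)⁻¹ * (w : Ω)⁻¹) * w * (a : Ω)⁻¹ * (w : Ω)⁻¹ := by group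
      _ = (b * w * (b : Ω)⁻¹ * (w : Ω)⁻¹) * (a : Ω) * w * (a : Ω)⁻¹ * (w : Ω)⁻¹ := by rw [e1]
      _ = _ := by group

theorem mem_ker_commHomS (hs : Setup p S Z) (w y : S) : y ∈ (commHomS hs w).ker ↔ y * w = w * y := by
  rw [MonoidHom.mem_ker, Subtype.ext_iff]
  show ((y * w * y⁻¹ * w⁻¹ : S) : Ω) = 1 ↔ _
  rw [OneMemClass.coe_eq_one]
  constructor
  · intro h
    have h2 : y * w * y⁻¹ = w := mul_inv_eq_one.1 h
    exact mul_inv_eq_iff_eq_mul.1 h2
  · intro h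
    rw [h]
    group

theorem index_ker_commHomS_dvd (hs : Setup p S Z) (w : S) : (commHomS hs w).ker.index ∣ p := by
  rw [Subgroup.index_ker]
  have := Subgroup.card_subgroup_dvd_card (commHomS hs w).range
  rwa [hs.hZc] at this

theorem Setup.le_of_isCentric {F : FusionSystem S} (hs : Setup p S Z) {E : Subgroup Ω} (hE : F.IsCentric E) : Z ≤ E := by
  intro z hz
  refine hE.2 E (isConj_refl F hE.1) ⟨hs.hZS hz, Subgroup.mem_centralizer_iff.2 fun e he => ?_⟩
  exact hs.hcen z hz e (hE.1 he)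

theorem Setup.mem_normalizer {F : FusionSystem S} (hs : Setup p S Z) {E : Subgroup Ω} (hE : F.IsCentric E) {y : Ω} (hy : y ∈ S) :
    y ∈ Subgroup.normalizer (E : Set Ω) := by
  have hZE := hs.le_of_isCentric hE
  have hconj : ∀ y ∈ S, ∀ e ∈ E, y * e * y⁻¹ ∈ E := by
    intro y hy e he
    have h1 := hZE (hs.hcomm y hy e (hE.1 he))
    have h2 := E.mul_mem h1 he
    have e1 : y * e * y⁻¹ * e⁻¹ * e = y * e * y⁻¹ := by group
    rwa [e1] at h2
  rw [Subgroup.mem_normalizer_iff]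
  intro e
  refine ⟨hconj y hy e, fun h => ?_⟩
  have := hconj y⁻¹ (S.inv_mem hy) _ h
  have e1 : y⁻¹ * (y * e * y⁻¹) * y⁻¹⁻¹ = e := by group
  rwa [e1] at this

variable [Finite S] (F : FusionSystem S)

/-- Essential subgroups are abelian of index `p`. -/
theorem Setup.essential_facts (hs : Setup p S Z) (hS : IsPGroup p S) (hF : F.IsSaturated p) {E : Subgroup Ω}
    (hE : F.IsEssential p E) : (∀ a b : E, a * b = b * a) ∧ (E.subgroupOf S).index = p := by
  classical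
  have hpp := hp.out
  have hlt := IsEssential.lt F hS hF hE
  have hES := hlt.le
  have hfinE : Finite E := finite_of_le hES
  have hZE := hs.le_of_isCentric hE.1
  by_contra hcon
  let Z₀ : Subgroup E := Z.subgroupOf E
  have hZ₀mem : ∀ z : E, z ∈ Z₀ ↔ (z : Ω) ∈ Z := fun z => Subgroup.mem_subgroupOf
  have hZ₀card : Nat.card Z₀ = p := by
    have h1 : Nat.card Z₀ = Nat.card Z := Nat.card_congr (Subgroup.subgroupOfEquivOfLe hZE).toEquiv
    rw [h1, hs.hZc]
  have hgen : ∃ c ∈ Z₀, c ≠ 1 ∧ (∀ a ∈ Z₀, a ∈ Subgroup.zpowers c) ∧ ((∀ a b : E, a * b = b * a) ∨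
      ∀ g ∈ F.autGroup E, ∀ k : ℤ, (((g c) ^ k : E) : Ω) ∈ Z) := by
    by_cases habel : ∀ a b : E, a * b = b * a
    · have : Nontrivial Z₀ := Finite.one_lt_card_iff_nontrivial.1 (by rw [hZ₀card]; exact hpp.one_lt)
      obtain ⟨c, hc⟩ := exists_ne (1 : Z₀)
      refine ⟨c, c.2, fun h => hc (Subtype.ext h), fun a ha => ?_, Or.inl habel⟩
      exact hzpow Z₀ hZ₀card c.2 (fun h => hc (Subtype.ext h)) ha
    · push Not at habel
      obtain ⟨a, b, hab⟩ := habel
      have hne : a * b * a⁻¹ * b⁻¹ ≠ 1 := by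
        intro h
        apply hab
        have h2 : a * b * a⁻¹ = b := mul_inv_eq_one.1 h
        exact mul_inv_eq_iff_eq_mul.1 h2
      have hmem : a * b * a⁻¹ * b⁻¹ ∈ Z₀ := by
        rw [hZ₀mem]
        exact hs.hcomm _ (hES a.2) _ (hES b.2)
      refine ⟨_, hmem, hne, fun x hx => hzpow Z₀ hZ₀card hmem hne hx, Or.inr fun g hg k => ?_⟩
      have h3 : ((g (a * b * a⁻¹ * b⁻¹) : E) : Ω) ∈ Z := by
        have e : g (a * b * a⁻¹ * b⁻¹) = g a * g b * (g a)⁻¹ * (g b)⁻¹ := by simp [map_mul, map_inv]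
        rw [e]
        exact hs.hcomm _ (hES (g a).2) _ (hES (g b).2)
      have e2 : (((g (a * b * a⁻¹ * b⁻¹)) ^ k : E) : Ω) = ((g (a * b * a⁻¹ * b⁻¹) : E) : Ω) ^ k := by simp
      rw [e2]
      exact Z.zpow_mem h3 k
  obtain ⟨c, hcZ, hc1, hcgen, hcase⟩ := hgen
  have hbig : ∀ g ∈ F.autGroup E, ∃ y ∈ S, y ∉ E ∧ ∀ z ∈ Z₀, y * (g z : Ω) * y⁻¹ = g z := by
    intro g hg
    have hzk : ∀ z ∈ Z₀, ∃ k : ℤ, g z = (g c) ^ k := by
      intro z hz
      obtain ⟨k, hk⟩ := Subgroup.mem_zpowers_iff.1 (hcgen z hz)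
      exact ⟨k, by rw [← hk, map_zpow]⟩
    rcases hcase with habel | hnon
    · by_contra hno
      push Not at hno
      have hidx : (E.subgroupOf S).index = p := by
        have hle : (commHomS hs ⟨(g c : Ω), hES (g c).2⟩).ker ≤ E.subgroupOf S := by
          intro y hy
          by_contra hyE
          obtain ⟨z, hz, hne⟩ := hno y y.2 (fun h => hyE (Subgroup.mem_subgroupOf.2 h))
          apply hne
          obtain ⟨k, hk⟩ := hzk z hz
          have h1 := (mem_ker_commHomS hs _ _).1 hy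
          have h1' : (y : Ω) * (g c : Ω) = (g c : Ω) * y := congrArg Subtype.val h1
          have h2 : (y : Ω) * (g c : Ω) * (y : Ω)⁻¹ = (g c : Ω) := by rw [h1']; group
          rw [hk]
          have e2 : (((g c) ^ k : E) : Ω) = (g c : Ω) ^ k := by simp
          rw [e2, ← conj_zpow, h2]
        have hd := (Subgroup.index_dvd_of_le hle).trans (index_ker_commHomS_dvd hs _)
        refine ((Nat.dvd_prime hpp).1 hd).resolve_left fun h1 => ?_
        have h2 := Subgroup.index_eq_one.1 h1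
        exact hlt.ne (le_antisymm hES (Subgroup.subgroupOf_eq_top.1 h2))
      exact hcon ⟨habel, hidx⟩
    · obtain ⟨-, y, hyS, hyE⟩ := SetLike.lt_iff_le_and_exists.1 hlt
      refine ⟨y, hyS, hyE, fun z hz => ?_⟩
      obtain ⟨k, hk⟩ := hzk z hz
      rw [hk]
      have := hs.hcen _ (hnon g hg k) y hyS
      rw [this]
      group
  refine no_transvection' F hS hF hE (Z₀ := Z₀) (fun g hg => ?_)
  obtain ⟨y, hyS, hyE, hy⟩ := hbig g hg
  have hyn := hs.mem_normalizer hE.1 hyS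
  refine ⟨y, hyS, hyn, hyE, fun z hz => ?_, fun v => ?_, fun z hz => ?_⟩
  · apply Subtype.ext
    rw [normAct_apply]
    have := hs.hcen _ ((hZ₀mem z).1 hz) y hyS
    rw [this]
    group
  · rw [hZ₀mem]
    have h1 := hs.hcomm (v : Ω)⁻¹ (S.inv_mem (hES v.2)) y hyS
    have e : (((v⁻¹ * normAct E hyn v : E)) : Ω) = (v : Ω)⁻¹ * (y * v * y⁻¹) := rfl
    rw [e]
    have e2 : (v : Ω)⁻¹ * (y * v * y⁻¹) = (v : Ω)⁻¹ * y * (v : Ω)⁻¹⁻¹ * y⁻¹ := by group
    rwa [e2]
  · apply Subtype.ext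
    rw [normAct_apply]
    exact hy z hz

/-- `S` is generated by `E` and any element outside. -/
theorem exists_zpow_mul (hS : IsPGroup p S) {E : Subgroup Ω} (hES : E ≤ S) (hi : (E.subgroupOf S).index = p)
    {x : Ω} (hxS : x ∈ S) (hxE : x ∉ E) : ∀ s ∈ S, ∃ k : ℤ, ∃ e ∈ E, s = x ^ k * e := by
  classical
  intro s hs
  have hco := Cfsg.Agent.Lib.PGroups.Basic.isCoatom_of_index_prime (hi ▸ hp.out : (E.subgroupOf S).index.Prime)
  have hn : (E.subgroupOf S).Normal := Cfsg.Agent.Lib.PGroups.Basic.normal_of_isCoatom hS hco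
  let x' : S := ⟨x, hxS⟩
  have hx' : x' ∉ E.subgroupOf S := fun h => hxE (Subgroup.mem_subgroupOf.1 h)
  have hlt : E.subgroupOf S < Subgroup.zpowers x' ⊔ E.subgroupOf S :=
    lt_of_le_of_ne le_sup_right (fun e => hx' (e ▸ Subgroup.mem_sup_left (Subgroup.mem_zpowers x')))
  have htop := hco.2 _ hlt
  have h1 : (⟨s, hs⟩ : S) ∈ ((Subgroup.zpowers x' ⊔ E.subgroupOf S : Subgroup S) : Set S) := by
    rw [htop]
    trivial
  rw [Subgroup.mul_normal] at h1
  obtain ⟨a, ha, b, hb, hab⟩ := h1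
  obtain ⟨k, rfl⟩ := Subgroup.mem_zpowers_iff.1 ha
  refine ⟨k, b, Subgroup.mem_subgroupOf.1 hb, ?_⟩
  have h9 : (x' ^ k : S) * b = ⟨s, hs⟩ := hab
  have h10 := congrArg Subtype.val h9
  simpa [x'] using h10.symm

/-- The group `Aut_S(E)` is generated by one element. -/
theorem autInducedBy_le_zpowers (hS : IsPGroup p S) {E : Subgroup Ω} (hES : E ≤ S) (hab : ∀ a b : E, a * b = b * a)
    (hi : (E.subgroupOf S).index = p) {x : Ω} (hxS : x ∈ S) (hxE : x ∉ E) (hx : x ∈ Subgroup.normalizer (E : Set Ω)) :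
    autInducedBy S E ≤ Subgroup.zpowers (normAct E hx) := by
  intro α hα
  obtain ⟨g, hg, hgα⟩ := (mem_autInducedBy_iff S E α).1 hα
  obtain ⟨k, e, he, rfl⟩ := exists_zpow_mul hS hES hi hxS hxE g hg
  refine Subgroup.mem_zpowers_iff.2 ⟨k, ?_⟩
  ext v
  have h1 : normAct E hx ^ k = E.normalizerMonoidHom (⟨x, hx⟩ ^ k) := by
    rw [map_zpow]
    rfl
  rw [hgα v, h1]
  have h2 : ((E.normalizerMonoidHom (⟨x, hx⟩ ^ k) v : E) : Ω) = x ^ k * v * (x ^ k)⁻¹ := by
    have := normAct_apply (P := E) (g := x ^ k) ((Subgroup.normalizer (E : Set Ω)).zpow_mem hx k) v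
    exact this
  rw [h2]
  have h3 : e * (v : Ω) * e⁻¹ = v := by
    have := hab ⟨e, he⟩ v
    have h4 : e * (v : Ω) = v * e := congrArg Subtype.val this
    rw [h4]
    group
  symm
  calc x ^ k * e * (v : Ω) * (x ^ k * e)⁻¹ = x ^ k * (e * (v : Ω) * e⁻¹) * (x ^ k)⁻¹ := by group
    _ = _ := by rw [h3]

/-- The transvection data of an essential subgroup. -/
theorem Setup.pair (hs : Setup p S Z) (hS : IsPGroup p S) (hF : F.IsSaturated p) {E : Subgroup Ω}
    (hE : F.IsEssential p E) {x : Ω} (hxS : x ∈ S) (hxE : x ∉ E) (hx : x ∈ Subgroup.normalizer (E : Set Ω)) :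
    Pair p (F.autGroup E) (Z.subgroupOf E) (normAct E hx) := by
  classical
  have hpp := hp.out
  have hlt := IsEssential.lt F hS hF hE
  have hES := hlt.le
  have hfinE : Finite E := finite_of_le hES
  have : Finite (MulAut E) := Cfsg.Agent.Lib.Fusion.Basic.finite_mulAut_of_finite (A := E)
  have hZE := hs.le_of_isCentric hE.1
  obtain ⟨hab, hi⟩ := hs.essential_facts F hS hF hE
  have hZ₀card : Nat.card (Z.subgroupOf E) = p := by
    have h1 : Nat.card (Z.subgroupOf E) = Nat.card Z := Nat.card_congr (Subgroup.subgroupOfEquivOfLe hZE).toEquiv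
    rw [h1, hs.hZc]
  have hfix : ∀ z ∈ Z.subgroupOf E, normAct E hx z = z := by
    intro z hz
    apply Subtype.ext
    rw [normAct_apply]
    have := hs.hcen _ (Subgroup.mem_subgroupOf.1 hz) x hxS
    rw [this]
    group
  have hact : ∀ v, v⁻¹ * normAct E hx v ∈ Z.subgroupOf E := by
    intro v
    rw [Subgroup.mem_subgroupOf]
    have h1 := hs.hcomm (v : Ω)⁻¹ (S.inv_mem (hES v.2)) x hxS
    have e : (((v⁻¹ * normAct E hx v : E)) : Ω) = (v : Ω)⁻¹ * (x * v * x⁻¹) := rfl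
    rw [e]
    have e2 : (v : Ω)⁻¹ * (x * v * x⁻¹) = (v : Ω)⁻¹ * x * (v : Ω)⁻¹⁻¹ * x⁻¹ := by group
    rwa [e2]
  have hpow : normAct E hx ^ p = 1 := by
    ext v
    have h1 := Cfsg.Agent.Lib.PGroups.Critical.pow_apply_of_fixed (normAct E hx) (hfix _ (hact v)) (g := v) (by group) p
    rw [h1]
    have h2 : (v⁻¹ * normAct E hx v) ^ p = 1 := by
      have h3 : (⟨_, hact v⟩ : Z.subgroupOf E) ^ Nat.card (Z.subgroupOf E) = 1 := pow_card_eq_one'
      rw [hZ₀card] at h3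
      exact congrArg Subtype.val h3
    rw [h2, mul_one]
    rfl
  have hcardt : Nat.card (Subgroup.zpowers (normAct E hx)) ≤ p := by
    rw [Nat.card_zpowers]
    exact Nat.le_of_dvd hpp.pos (orderOf_dvd_of_pow_eq_one hpow)
  refine ⟨hS.to_le hES, hab, ?_, hZ₀card, normAct_mem_autGroup F hES hxS hx, hfix, hact, ?_⟩
  · -- the order of `p`-subgroups
    intro D hD hDp
    have hFA := isFullyAutomized_of_isFullyNormalized F hS hF hE.2.1
    obtain ⟨-, R, hR⟩ := hFA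
    have hfinA : Finite (F.autGroup E) := inferInstance
    have hD' : IsPGroup p (D.subgroupOf (F.autGroup E)) := hDp.of_equiv (Subgroup.subgroupOfEquivOfLe hD).symm
    obtain ⟨Q, hQ⟩ := hD'.exists_le_sylow
    have h1 : Nat.card D = Nat.card (D.subgroupOf (F.autGroup E)) :=
      Nat.card_congr (Subgroup.subgroupOfEquivOfLe hD).symm.toEquiv
    have h2 : Nat.card (D.subgroupOf (F.autGroup E)) ≤ Nat.card Q := Subgroup.card_le_of_le hQ
    have h3 : Nat.card Q = Nat.card R := Nat.card_congr (Sylow.equiv Q R).toEquiv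
    have h4 : Nat.card R ≤ Nat.card (autInducedBy S E) := by
      have e : (R : Subgroup (F.autGroup E)) = (autInducedBy S E).subgroupOf (F.autGroup E) := hR
      have : Nat.card (R : Subgroup (F.autGroup E)) = Nat.card ((autInducedBy S E).subgroupOf (F.autGroup E)) := by rw [e]
      refine this.le.trans ?_
      refine Nat.card_le_card_of_injective (fun a => ⟨a.1.1, a.2⟩) ?_
      intro a b hab
      have := congrArg Subtype.val hab
      exact Subtype.ext (Subtype.ext this)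
    have h5 : Nat.card (autInducedBy S E) ≤ Nat.card (Subgroup.zpowers (normAct E hx)) :=
      Subgroup.card_le_of_le (autInducedBy_le_zpowers hS hES hab hi hxS hxE hx)
    omega
  · -- non-trivial
    intro h
    have hni := normAct_not_mem_inn F hE.1 hxS hx hxE
    rw [h] at hni
    exact hni (Subgroup.one_mem _)

/-- Not normal. -/
theorem Setup.exists_conj_not_mem (hs : Setup p S Z) (hS : IsPGroup p S) (hF : F.IsSaturated p) {E : Subgroup Ω}
    (hE : F.IsEssential p E) {x : Ω} (hxS : x ∈ S) (hxE : x ∉ E) (hx : x ∈ Subgroup.normalizer (E : Set Ω)) :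
    ∃ g ∈ F.autGroup E, g * normAct E hx * g⁻¹ ∉ Subgroup.zpowers (normAct E hx) := by
  have hlt := IsEssential.lt F hS hF hE
  have hES := hlt.le
  have hfinE : Finite E := finite_of_le hES
  have : Finite (MulAut E) := Cfsg.Agent.Lib.Fusion.Basic.finite_mulAut_of_finite (A := E)
  obtain ⟨g, hg, hgn⟩ := IsEssential.exists_not_extendable F hS hF hE
  refine ⟨g, hg, fun hmem => hgn ?_⟩
  have hti : normAct E hx ∈ autInducedBy S E := normAct_mem_autInducedBy S E hx hxS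
  have hDA : Subgroup.zpowers (normAct E hx) ≤ autInducedBy S E := Subgroup.zpowers_le.2 hti
  refine mem_extendable_of_normalizes F hS hF hE (D := Subgroup.zpowers (normAct E hx))
    (hDA.trans (autInducedBy_le_extendable F hlt hS)) ((isPGroup_autInducedBy E hS).to_le hDA)
    (fun h => normAct_not_mem_inn F hE.1 hxS hx hxE (h (Subgroup.mem_zpowers _))) hg (fun d hd => ?_)
  obtain ⟨k, rfl⟩ := Subgroup.mem_zpowers_iff.1 hd
  rw [← conj_zpow]
  exact Subgroup.zpow_mem _ hmem k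

/-- The element `x` outside `E`, with the resulting decomposition. -/
theorem Setup.exists_data (hs : Setup p S Z) (hS : IsPGroup p S) (hF : F.IsSaturated p) {E : Subgroup Ω}
    (hE : F.IsEssential p E) : ∃ x ∈ S, x ∉ E ∧ ∃ hx : x ∈ Subgroup.normalizer (E : Set Ω), ∃ (V₁ C : Subgroup E) (a : E),
      Decomp p (F.autGroup E) (Z.subgroupOf E) (normAct E hx) V₁ C a := by
  have hlt := IsEssential.lt F hS hF hE
  have hfinE : Finite E := finite_of_le hlt.le
  obtain ⟨-, x, hxS, hxE⟩ := SetLike.lt_iff_le_and_exists.1 hlt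
  have hx := hs.mem_normalizer hE.1 hxS
  refine ⟨x, hxS, hxE, hx, ?_⟩
  have hP := hs.pair F hS hF hE hxS hxE hx
  obtain ⟨g, hg, hgn⟩ := hs.exists_conj_not_mem F hS hF hE hxS hxE hx
  exact hP.exists_decomp hg hgn

/-! ### The centre -/

theorem mem_center_iff {y : S} : y ∈ Subgroup.center S ↔ (y : Ω) ∈ S ⊓ Subgroup.centralizer (S : Set Ω) := by
  rw [Subgroup.mem_center_iff]
  constructor
  · intro h
    refine ⟨y.2, Subgroup.mem_centralizer_iff.2 fun s hs => ?_⟩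
    exact congrArg Subtype.val (h ⟨s, hs⟩)
  · intro h g
    exact Subtype.ext (Subgroup.mem_centralizer_iff.1 h.2 g g.2)

theorem center_le_of_isCentric {E : Subgroup Ω} (hE : F.IsCentric E) : S ⊓ Subgroup.centralizer (S : Set Ω) ≤ E := by
  intro y hy
  refine hE.2 E (isConj_refl F hE.1) ⟨hy.1, Subgroup.mem_centralizer_iff.2 fun e he => ?_⟩
  exact Subgroup.mem_centralizer_iff.1 hy.2 e (hE.1 he)

/-- The fixed points of `t` are the centre of `S`. -/
theorem Setup.fix_iff (hs : Setup p S Z) (hS : IsPGroup p S) (hF : F.IsSaturated p) {E : Subgroup Ω}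
    (hE : F.IsEssential p E) {x : Ω} (hxS : x ∈ S) (hxE : x ∉ E) (hx : x ∈ Subgroup.normalizer (E : Set Ω)) (y : E) :
    normAct E hx y = y ↔ (y : Ω) ∈ S ⊓ Subgroup.centralizer (S : Set Ω) := by
  have hlt := IsEssential.lt F hS hF hE
  have hES := hlt.le
  obtain ⟨hab, hi⟩ := hs.essential_facts F hS hF hE
  constructor
  · intro h
    have h1 : x * (y : Ω) * x⁻¹ = y := congrArg Subtype.val h
    have h2 : Commute x (y : Ω) := by
      show x * (y : Ω) = y * x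
      rw [← mul_inv_eq_iff_eq_mul]
      exact h1
    refine ⟨hES y.2, Subgroup.mem_centralizer_iff.2 fun s hs' => ?_⟩
    obtain ⟨k, e, he, rfl⟩ := exists_zpow_mul hS hES hi hxS hxE s hs'
    have h3 : Commute (x ^ k) (y : Ω) := h2.zpow_left k
    have h4 : (e : Ω) * y = y * e := congrArg Subtype.val (hab ⟨e, he⟩ y)
    calc x ^ k * e * (y : Ω) = x ^ k * (e * y) := by group
      _ = x ^ k * (y * e) := by rw [h4]
      _ = (x ^ k * y) * e := by group
      _ = (y * x ^ k) * e := by rw [h3.eq]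
      _ = _ := by group
  · intro h
    apply Subtype.ext
    rw [normAct_apply]
    have h1 : x * (y : Ω) = y * x := (Subgroup.mem_centralizer_iff.1 h.2 x hxS)
    rw [h1]
    group

theorem exists_pow_mem_autInduced (hS : IsPGroup p S) (hF : F.IsSaturated p) {γ : MulAut S} (hγ : γ ∈ F.autGroup S) :
    ∃ q : ℕ, q.Coprime p ∧ γ ^ q ∈ autInducedBy S S := by
  have hFA := isFullyAutomized_of_isFullyNormalized F hS hF (isFullyNormalized_top F hS)
  obtain ⟨-, R, hR⟩ := hFA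
  have : Finite (MulAut S) := Cfsg.Agent.Lib.Fusion.Basic.finite_mulAut_of_finite (A := S)
  have hfinA : Finite (F.autGroup S) := inferInstance
  have hn : (R : Subgroup (F.autGroup S)).Normal := by
    rw [hR]
    constructor
    intro n hn g
    rw [Subgroup.mem_subgroupOf] at hn ⊢
    obtain ⟨h, hh, hv⟩ := (mem_autInducedBy_iff S S _).1 hn
    refine (mem_autInducedBy_iff S S _).2 ⟨((g : MulAut S) ⟨h, hh⟩ : S), ((g : MulAut S) ⟨h, hh⟩).2, fun v => ?_⟩
    have h1 : ((n : MulAut S) ((g : MulAut S)⁻¹ v) : S) = ⟨h, hh⟩ * ((g : MulAut S)⁻¹ v) * (⟨h, hh⟩ : S)⁻¹ :=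
      Subtype.ext (hv _)
    have h2 : ((g * n * g⁻¹ : F.autGroup S) : MulAut S) v = (g : MulAut S) ((n : MulAut S) ((g : MulAut S)⁻¹ v)) := rfl
    rw [h2, h1, map_mul, map_mul, map_inv, MulAut.apply_inv_self]
    rfl
  have hc : (R : Subgroup (F.autGroup S)).index.Coprime p := ((Nat.Prime.coprime_iff_not_dvd hp.out).2 R.not_dvd_index).symm
  have h1 := Subgroup.pow_index_mem (R : Subgroup (F.autGroup S)) (⟨γ, hγ⟩ : F.autGroup S)
  obtain ⟨q, hq⟩ : ∃ q, q = (R : Subgroup (F.autGroup S)).index := ⟨_, rfl⟩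
  rw [← hq] at h1 hc
  refine ⟨q, hc, ?_⟩
  rw [hR, Subgroup.mem_subgroupOf] at h1
  exact h1

/-- Two automorphisms in `Aut_F(S)` inverting `Z` and trivial on `Z(S)/Z` agree on `Z(S)`. -/
theorem Setup.agree_on_center (hs : Setup p S Z) (hS : IsPGroup p S) (hF : F.IsSaturated p) {β₁ β₂ : MulAut S}
    (hβ₁ : β₁ ∈ F.autGroup S) (hβ₂ : β₂ ∈ F.autGroup S)
    (h₁ : ∀ z ∈ Z.subgroupOf S, β₁ z = z⁻¹) (h₂ : ∀ z ∈ Z.subgroupOf S, β₂ z = z⁻¹)
    (hy₁ : ∀ y ∈ Subgroup.center S, y⁻¹ * β₁ y ∈ Z.subgroupOf S)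
    (hy₂ : ∀ y ∈ Subgroup.center S, y⁻¹ * β₂ y ∈ Z.subgroupOf S) :
    ∀ y ∈ Subgroup.center S, β₁ y = β₂ y := by
  intro y hy
  have hZZc : Nat.card (Z.subgroupOf S) = p := by
    have h1 : Nat.card (Z.subgroupOf S) = Nat.card Z := Nat.card_congr (Subgroup.subgroupOfEquivOfLe hs.hZS).toEquiv
    rw [h1, hs.hZc]
  let γ : MulAut S := β₁⁻¹ * β₂
  have hγ : γ ∈ F.autGroup S := (F.autGroup S).mul_mem ((F.autGroup S).inv_mem hβ₁) hβ₂
  have hβ₁i : ∀ z ∈ Z.subgroupOf S, β₁⁻¹ z = z⁻¹ := by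
    intro z hz
    have h3 := h₁ _ ((Z.subgroupOf S).inv_mem hz)
    rw [inv_inv] at h3
    calc β₁⁻¹ z = β₁⁻¹ (β₁ z⁻¹) := by rw [h3]
      _ = z⁻¹ := by simp
  have hγz : ∀ z ∈ Z.subgroupOf S, γ z = z := by
    intro z hz
    show β₁⁻¹ (β₂ z) = z
    rw [h₂ z hz, hβ₁i _ ((Z.subgroupOf S).inv_mem hz), inv_inv]
  have hy' : β₁⁻¹ y ∈ Subgroup.center S := by
    rw [Subgroup.mem_center_iff] at hy ⊢
    intro g
    have h3 := hy (β₁ g)
    calc g * β₁⁻¹ y = β₁⁻¹ (β₁ g * y) := by simp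
      _ = β₁⁻¹ (y * β₁ g) := by rw [h3]
      _ = _ := by simp
  have hw : y⁻¹ * γ y ∈ Z.subgroupOf S := by
    have h3 := hy₁ _ hy'
    rw [MulAut.apply_inv_self] at h3
    have h4 := hy₂ y hy
    have e : y⁻¹ * γ y = ((β₁⁻¹ y)⁻¹ * y)⁻¹ * (β₁⁻¹ (y⁻¹ * β₂ y)) := by
      show y⁻¹ * β₁⁻¹ (β₂ y) = _
      rw [map_mul, map_inv]
      group
    rw [e]
    exact (Z.subgroupOf S).mul_mem ((Z.subgroupOf S).inv_mem h3) (by
      rw [hβ₁i _ h4]
      exact (Z.subgroupOf S).inv_mem h4)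
  have hpow : (γ ^ p) y = y := by
    have h1 := Cfsg.Agent.Lib.PGroups.Critical.pow_apply_of_fixed γ (hγz _ hw) (g := y) (by group) p
    rw [h1]
    have h3 : (⟨_, hw⟩ : Z.subgroupOf S) ^ Nat.card (Z.subgroupOf S) = 1 := pow_card_eq_one'
    rw [hZZc] at h3
    have h5 : (y⁻¹ * γ y) ^ p = 1 := congrArg Subtype.val h3
    rw [h5, mul_one]
  obtain ⟨q, hq, hqm⟩ := exists_pow_mem_autInduced F hS hF hγ
  have hq' : (γ ^ q) y = y := by
    obtain ⟨g, hg, hv⟩ := (mem_autInducedBy_iff S S _).1 hqm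
    apply Subtype.ext
    rw [hv y]
    have h1 : g * (y : Ω) = y * g := by
      have := Subgroup.mem_center_iff.1 hy ⟨g, hg⟩
      exact congrArg Subtype.val this
    rw [h1]
    group
  have hmem : γ ∈ MulAction.stabilizer (MulAut S) y := mem_of_pows hq hq' hpow
  have hfin : γ y = y := hmem
  have e : β₂ y = β₁ (γ y) := by
    show β₂ y = β₁ (β₁⁻¹ (β₂ y))
    simp
  rw [e, hfin]

/-- The data attached to an essential subgroup, for odd `p` (or any `p`, the torus being trivial for `p = 2`). -/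
theorem Setup.exists_torus (hs : Setup p S Z) (hS : IsPGroup p S) (hF : F.IsSaturated p) {E : Subgroup Ω}
    (hE : F.IsEssential p E) : ∃ (CE : Subgroup Ω), ∃ β ∈ F.autGroup S,
      CE ≤ S ⊓ Subgroup.centralizer (S : Set Ω) ∧
      (∀ y ∈ S ⊓ Subgroup.centralizer (S : Set Ω), ∃ z ∈ Z, ∃ c ∈ CE, y = z * c) ∧
      (∀ c ∈ CE, c ∈ Z → c = 1) ∧
      (∀ z ∈ Z.subgroupOf S, β z = z⁻¹) ∧
      (∀ c : S, (c : Ω) ∈ CE → β c = c) ∧
      (∀ y ∈ Subgroup.center S, y⁻¹ * β y ∈ Z.subgroupOf S) ∧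
      (∀ g ∈ F.autGroup E, ∀ v : E, (v : Ω) ∈ CE → ((g v : E) : Ω) ∈ CE) := by
  classical
  have hlt := IsEssential.lt F hS hF hE
  have hES := hlt.le
  have hfinE : Finite E := finite_of_le hES
  have hZE := hs.le_of_isCentric hE.1
  have hZSE := center_le_of_isCentric F hE.1
  obtain ⟨hab, hi⟩ := hs.essential_facts F hS hF hE
  obtain ⟨x, hxS, hxE, hx, V₁, C, a, D⟩ := hs.exists_data F hS hF hE
  obtain ⟨α, hαA, hαC, hαZ, hαt⟩ := D.torus
  have hfixiff := hs.fix_iff F hS hF hE hxS hxE hx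
  -- the extension
  have hRc := isReceptive_of_isFullyNormalized F hS hF hE.2.1
  have hnorm : ∀ t₀ ∈ autInducedBy S E, α * t₀ * α⁻¹ ∈ autInducedBy S E := by
    intro t₀ ht₀
    obtain ⟨k, rfl⟩ := Subgroup.mem_zpowers_iff.1 (autInducedBy_le_zpowers hS hES hab hi hxS hxE hx ht₀)
    rw [← conj_zpow]
    refine Subgroup.zpow_mem _ ?_ k
    exact (Subgroup.zpowers_le.2 (normAct_mem_autInducedBy S E hx hxS)) hαt
  obtain ⟨ψ, hψ, hψv⟩ := Cfsg.Agent.Lib.FusionTheory.Weak.exists_ext_of_normalizes F hRc hαA hnorm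
  have hSN : S ≤ normalizerIn S E := fun y hy => ⟨hy, hs.mem_normalizer hE.1 hy⟩
  have hχ := restrict_mem F hSN hψ
  have hχr : (ψ.comp (Subgroup.inclusion hSN)).range = S := by
    refine Subgroup.eq_of_le_of_card_ge (range_le F hχ) ?_
    rw [card_range F hχ]
  obtain ⟨β, hβ, hβv⟩ := exists_aut_of_range F hχ hχr
  have hβE : ∀ v : E, ((β ⟨v, hES v.2⟩ : S) : Ω) = α v := by
    intro v
    rw [hβv]
    exact hψv v
  refine ⟨C.map E.subtype, β, hβ, ?_, ?_, ?_, ?_, ?_, ?_, ?_⟩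
  · rintro _ ⟨c, hc, rfl⟩
    exact (hfixiff c).1 (D.le_fix c hc)
  · intro y hy
    have hyE := hZSE hy
    obtain ⟨z, hz, c, hc, h⟩ := D.fix_split ⟨y, hyE⟩ ((hfixiff _).2 hy)
    exact ⟨z, Subgroup.mem_subgroupOf.1 hz, c, ⟨c, hc, rfl⟩, congrArg Subtype.val h⟩
  · rintro _ ⟨c, hc, rfl⟩ hcZ
    have := D.inter c hc (Subgroup.mem_subgroupOf.2 hcZ)
    exact congrArg Subtype.val this
  · intro z hz
    have hz' : (z : Ω) ∈ Z := Subgroup.mem_subgroupOf.1 hz
    apply Subtype.ext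
    have h1 := hβE ⟨z, hZE hz'⟩
    have h2 := hαZ ⟨z, hZE hz'⟩ (Subgroup.mem_subgroupOf.2 hz')
    rw [h2] at h1
    exact h1
  · rintro c ⟨c₀, hc₀, hcc⟩
    apply Subtype.ext
    have h1 := hβE c₀
    rw [hαC c₀ hc₀] at h1
    have e : c = ⟨c₀, hES c₀.2⟩ := Subtype.ext hcc.symm
    rw [e]
    exact h1
  · intro y hy
    have hy' := mem_center_iff.1 hy
    have hyE := hZSE hy'
    obtain ⟨z, hz, c, hc, h⟩ := D.fix_split ⟨y, hyE⟩ ((hfixiff _).2 hy')
    have h1 := hβE ⟨y, hyE⟩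
    have h2 : α ⟨y, hyE⟩ = z⁻¹ * c := by
      rw [h, map_mul, hαZ z hz, hαC c hc]
    rw [h2] at h1
    have h3 : (y : Ω) = z * c := congrArg Subtype.val h
    rw [Subgroup.mem_subgroupOf]
    show (y : Ω)⁻¹ * ((β y : S) : Ω) ∈ Z
    have e : (⟨(y : Ω), hES (hyE)⟩ : S) = y := rfl
    rw [e] at h1
    rw [h1, h3]
    have hzZ : (z : Ω) ∈ Z := Subgroup.mem_subgroupOf.1 hz
    have e2 : ((z : Ω) * c)⁻¹ * (((z⁻¹ * c : E)) : Ω) = (c : Ω)⁻¹ * ((z : Ω)⁻¹ * (z : Ω)⁻¹) * c := by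
      simp only [Subgroup.coe_mul, Subgroup.coe_inv]
      group
    rw [e2]
    have hcomm := hs.hcen _ (Z.mul_mem (Z.inv_mem hzZ) (Z.inv_mem hzZ)) (c : Ω) (hES c.2)
    have e3 : (c : Ω)⁻¹ * ((z : Ω)⁻¹ * (z : Ω)⁻¹) * c = (z : Ω)⁻¹ * (z : Ω)⁻¹ := by
      rw [mul_assoc, ← hcomm]
      group
    rw [e3]
    exact Z.mul_mem (Z.inv_mem hzZ) (Z.inv_mem hzZ)
  · rintro g hg v ⟨c, hc, hcv⟩
    have e : v = c := Subtype.ext hcv.symm
    rw [e]
    exact ⟨_, D.inv_C g hg c hc, rfl⟩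

/-- **`Z(S) = Z` for odd `p`**, when no nontrivial subgroup is normal. -/
theorem Setup.center_eq (hs : Setup p S Z) (hodd : Odd p) (hS : IsPGroup p S) (hF : F.IsSaturated p) (hcore : F.core = ⊥) :
    S ⊓ Subgroup.centralizer (S : Set Ω) = Z := by
  classical
  have hpp := hp.out
  have htwo : ∀ y : Ω, y ∈ Z → y * y = 1 → y = 1 := by
    intro y hy h2
    have h3 : y ^ p = 1 := by
      have h4 : (⟨y, hy⟩ : Z) ^ Nat.card Z = 1 := pow_card_eq_one'
      rw [hs.hZc] at h4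
      exact congrArg Subtype.val h4
    obtain ⟨m, hm⟩ := hodd
    rw [hm, pow_succ, pow_mul, pow_two, h2, one_pow, one_mul] at h3
    exact h3
  -- there is an essential subgroup
  have hex : ∃ E, F.IsEssential p E := by
    by_contra hno
    push Not at hno
    have hN := isNormal_top_of_no_essential F hS hF (fun P hP => absurd hP (hno P))
    have hle : S ≤ F.core := Cfsg.Agent.Lib.FusionExt.Constrained.le_core F hN
    rw [hcore, le_bot_iff] at hle
    have h1 : Z = ⊥ := le_bot_iff.1 (hle ▸ hs.hZS)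
    have h2 := hs.hZc
    rw [h1, Subgroup.card_bot] at h2
    exact hpp.ne_one h2.symm
  obtain ⟨E₀, hE₀⟩ := hex
  obtain ⟨C₀, β₀, hβ₀, hC₀le, hC₀split, hC₀int, hβ₀Z, hβ₀C, hβ₀y, hC₀inv⟩ := hs.exists_torus F hS hF hE₀
  -- the fixed points of a torus
  have hfixed : ∀ (C : Subgroup Ω) (β : MulAut S), (∀ y ∈ S ⊓ Subgroup.centralizer (S : Set Ω), ∃ z ∈ Z, ∃ c ∈ C, y = z * c) →
      C ≤ S ⊓ Subgroup.centralizer (S : Set Ω) → (∀ z ∈ Z.subgroupOf S, β z = z⁻¹) → (∀ c : S, (c : Ω) ∈ C → β c = c) →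
      ∀ y : S, y ∈ Subgroup.center S → β y = y → (y : Ω) ∈ C := by
    intro C β hsp hle hZ hC y hy hfx
    obtain ⟨z, hz, c, hc, h⟩ := hsp y (mem_center_iff.1 hy)
    have hzS := hs.hZS hz
    have hcS := (hle hc).1
    have e : y = ⟨z, hzS⟩ * ⟨c, hcS⟩ := Subtype.ext h
    rw [e, map_mul, hZ ⟨z, hzS⟩ (Subgroup.mem_subgroupOf.2 hz), hC ⟨c, hcS⟩ hc] at hfx
    have h2 : (⟨z, hzS⟩ : S)⁻¹ = ⟨z, hzS⟩ := by
      have := mul_right_cancel hfx
      exact this
    have h3 : z * z = 1 := by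
      have h4 : z⁻¹ = z := congrArg Subtype.val h2
      nth_rewrite 1 [← h4]
      group
    have h5 := htwo z hz h3
    rw [h, h5, one_mul]
    exact hc
  -- a nontrivial commutator
  have hlt₀ := IsEssential.lt F hS hF hE₀
  obtain ⟨-, x₀, hx₀S, hx₀E⟩ := SetLike.lt_iff_le_and_exists.1 hlt₀
  obtain ⟨a, b, hab⟩ : ∃ a b : S, a * b * a⁻¹ * b⁻¹ ≠ 1 := by
    by_contra hno
    push Not at hno
    apply hx₀E
    refine hE₀.1.2 E₀ (isConj_refl F hE₀.1.1) ⟨hx₀S, Subgroup.mem_centralizer_iff.2 fun e he => ?_⟩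
    have h1 := hno ⟨x₀, hx₀S⟩ ⟨e, hE₀.1.1 he⟩
    have h2 := mul_inv_eq_one.1 h1
    have h3 := mul_inv_eq_iff_eq_mul.1 h2
    exact (congrArg Subtype.val h3).symm
  have hcZ : ∀ a b : S, a * b * a⁻¹ * b⁻¹ ∈ Z.subgroupOf S := by
    intro a b
    rw [Subgroup.mem_subgroupOf]
    exact_mod_cast hs.hcomm a a.2 b b.2
  have hZZc : Nat.card (Z.subgroupOf S) = p := by
    have h1 : Nat.card (Z.subgroupOf S) = Nat.card Z := Nat.card_congr (Subgroup.subgroupOfEquivOfLe hs.hZS).toEquiv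
    rw [h1, hs.hZc]
  have hZinv : ∀ δ : MulAut S, ∀ z ∈ Z.subgroupOf S, δ z ∈ Z.subgroupOf S := by
    intro δ z hz
    obtain ⟨k, hk⟩ := exists_pow_of_card _ hZZc (hcZ a b) hab hz
    rw [hk, map_pow]
    refine Subgroup.pow_mem _ ?_ k
    rw [map_mul, map_mul, map_mul, map_inv, map_inv]
    exact hcZ _ _
  have hcinv : ∀ δ : MulAut S, ∀ y ∈ Subgroup.center S, δ y ∈ Subgroup.center S := by
    intro δ y hy
    rw [Subgroup.mem_center_iff] at hy ⊢
    intro g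
    have h3 := hy (δ⁻¹ g)
    calc g * δ y = δ (δ⁻¹ g * y) := by simp
      _ = δ (y * δ⁻¹ g) := by rw [h3]
      _ = _ := by simp
  have hN : F.IsNormal C₀ := by
    apply isNormal_of_invariant F hS hF (hC₀le.trans inf_le_left)
    intro P hP
    rcases hP with hPS | hP
    · subst hPS
      refine ⟨hC₀le.trans inf_le_left, fun δ hδ v hv => ?_⟩
      let β' : MulAut P := δ * β₀ * δ⁻¹
      have hβ' : β' ∈ F.autGroup P := (F.autGroup P).mul_mem ((F.autGroup P).mul_mem hδ hβ₀) ((F.autGroup P).inv_mem hδ)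
      have hβ'Z : ∀ z ∈ Z.subgroupOf P, β' z = z⁻¹ := by
        intro z hz
        show δ (β₀ (δ⁻¹ z)) = z⁻¹
        rw [hβ₀Z _ (hZinv _ _ hz), map_inv, MulAut.apply_inv_self]
      have hβ'y : ∀ y ∈ Subgroup.center P, y⁻¹ * β' y ∈ Z.subgroupOf P := by
        intro y hy
        have h1 := hβ₀y _ (hcinv δ⁻¹ y hy)
        have h2 := hZinv δ _ h1
        rw [map_mul, map_inv, MulAut.apply_inv_self] at h2
        exact h2
      have hagree := hs.agree_on_center F hS hF hβ₀ hβ' hβ₀Z hβ'Z hβ₀y hβ'y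
      have hvc : v ∈ Subgroup.center P := mem_center_iff.2 (hC₀le hv)
      have hδv := hcinv δ v hvc
      have hfx : β₀ (δ v) = δ v := by
        rw [hagree _ hδv]
        show δ (β₀ (δ⁻¹ (δ v))) = δ v
        rw [show δ⁻¹ (δ v) = v by simp, hβ₀C v hv]
      exact hfixed C₀ β₀ hC₀split hC₀le hβ₀Z hβ₀C _ hδv hfx
    · obtain ⟨C, β, hβ, hCle, hCsplit, hCint, hβZ, hβC, hβy, hCinv⟩ := hs.exists_torus F hS hF hP
      have hagree := hs.agree_on_center F hS hF hβ₀ hβ hβ₀Z hβZ hβ₀y hβy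
      have h1 : C₀ ≤ C := by
        intro c hc
        have hcS := (hC₀le hc).1
        have hcc : (⟨c, hcS⟩ : S) ∈ Subgroup.center S := mem_center_iff.2 (hC₀le hc)
        refine hfixed C β hCsplit hCle hβZ hβC _ hcc ?_
        rw [← hagree _ hcc]
        exact hβ₀C _ hc
      have h2 : C ≤ C₀ := by
        intro c hc
        have hcS := (hCle hc).1
        have hcc : (⟨c, hcS⟩ : S) ∈ Subgroup.center S := mem_center_iff.2 (hCle hc)
        refine hfixed C₀ β₀ hC₀split hC₀le hβ₀Z hβ₀C _ hcc ?_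
        rw [hagree _ hcc]
        exact hβC _ hc
      have heq : C₀ = C := le_antisymm h1 h2
      have hC₀E : C₀ ≤ P := hC₀le.trans (center_le_of_isCentric F hP.1)
      refine ⟨hC₀E, fun g hg v hv => ?_⟩
      rw [heq] at hv ⊢
      exact hCinv g hg v hv
  have hbot : C₀ ≤ ⊥ := hcore ▸ Cfsg.Agent.Lib.FusionExt.Constrained.le_core F hN
  apply le_antisymm
  · intro y hy
    obtain ⟨z, hz, c, hc, h⟩ := hC₀split y hy
    have : c = 1 := hbot hc
    rw [h, this, mul_one]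
    exact hz
  · intro z hz
    exact ⟨hs.hZS hz, Subgroup.mem_centralizer_iff.2 fun s hs' => hs.hcen z hz s hs'⟩

end Cfsg.Agent.Lib.FusionTheory.ClassTwo
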