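import Cfsg.Agent.Lib.FusionTheory.FixPts1
import Cfsg.Agent.Lib.FusionExt.Glue1

/-!
# Control of fixed points: abelian subgroups of maximal order, replacement (helper93)
-/

set_option autoImplicit false
set_option linter.unusedSectionVars false
set_option linter.style.haveILetI false

open scoped commutatorElement

namespace Cfsg.Agent.Lib.FusionTheory.FixPts2

open Cfsg Cfsg.FusionSystem Cfsg.Agent.Lib.Fusion.Basic Cfsg.Agent.Lib.Fusion.GroupSystem
open Cfsg.Agent.Lib.FusionExt.MapApi Cfsg.Agent.Lib.FusionExt.LowPi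
open Cfsg.Agent.Lib.QuadAct.Basic Cfsg.Agent.Lib.QuadAct.Replacement

universe u

section rep

variable {G : Type*} [Group G] [Finite G] {p : ℕ} [Fact p.Prime]

/-- **Replacement for an abelian subgroup of maximal order.** -/
theorem repl_G (hG : IsPGroup p G) {A V : Subgroup G} (hA : ∀ a ∈ A, ∀ b ∈ A, a * b = b * a)
    (hAm : ∀ D : Subgroup G, (∀ a ∈ D, ∀ b ∈ D, a * b = b * a) → Nat.card D ≤ Nat.card A)
    (hV : IsMulCommutative V) (hAV : A ≤ Subgroup.normalizer (V : Set G)) (hne : ⁅V, A⁆ ≠ ⊥) :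
    ⁅V, A ⊓ Subgroup.centralizer ((⁅V, A⁆ : Subgroup G) : Set G)⁆ ≠ ⊥ ∧
      Nat.card A ≤ Nat.card ↥((A ⊓ Subgroup.centralizer ((⁅V, A⁆ : Subgroup G) : Set G)) ⊔
        (V ⊓ Subgroup.centralizer ((A ⊓ Subgroup.centralizer ((⁅V, A⁆ : Subgroup G) : Set G) : Subgroup G) : Set G))) := by
  have hab : ⁅A, A⁆ ≤ Subgroup.centralizer (V : Set G) := by
    have : ⁅A, A⁆ = ⊥ := by
      rw [eq_bot_iff, Subgroup.commutator_le]
      intro a ha b hb
      rw [Subgroup.mem_bot, commutatorElement_eq_one_iff_mul_comm]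
      exact hA a ha b hb
    rw [this]
    exact bot_le
  have hcA : ∀ {x : G}, x ∈ A → x ∈ V → x ∈ V ⊓ Subgroup.centralizer (A : Set G) := fun {x} h1 h2 =>
    ⟨h2, Subgroup.mem_centralizer_iff.mpr (fun a ha => hA a ha x h1)⟩
  have hsupab : ∀ {B : Subgroup G}, B ≤ A → ∀ u ∈ B ⊔ (V ⊓ Subgroup.centralizer (B : Set G)),
      ∀ v ∈ B ⊔ (V ⊓ Subgroup.centralizer (B : Set G)), u * v = v * u := by
    intro B hBA u hu v hv
    set Y := V ⊓ Subgroup.centralizer (B : Set G) with hY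
    have h1 : ∀ y ∈ Y, ∀ b ∈ B, y * b = b * y := fun y hy b hb =>
      ((Subgroup.mem_centralizer_iff.mp hy.2) b hb).symm
    have hYab : ∀ a ∈ Y, ∀ b ∈ Y, a * b = b * a := fun a ha b hb => comm_of_isMulCommutative hV ha.1 hb.1
    let K : Subgroup G := Subgroup.centralizer (B : Set G) ⊓ Subgroup.centralizer (Y : Set G)
    have hBK : B ≤ K := fun b hb => ⟨Subgroup.mem_centralizer_iff.mpr (fun c hc => hA c (hBA hc) b (hBA hb)),
      Subgroup.mem_centralizer_iff.mpr (fun y hy => h1 y hy b hb)⟩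
    have hYK : Y ≤ K := fun y hy => ⟨Subgroup.mem_centralizer_iff.mpr (fun c hc => (h1 y hy c hc).symm),
      Subgroup.mem_centralizer_iff.mpr (fun z hz => hYab z hz y hy)⟩
    have hvK := (sup_le hBK hYK) hv
    have hle : B ⊔ Y ≤ Subgroup.centralizer ({v} : Set G) := by
      refine sup_le (fun b hb => ?_) (fun y hy => ?_)
      · rw [Subgroup.mem_centralizer_iff]
        rintro _ rfl
        exact ((Subgroup.mem_centralizer_iff.mp hvK.1) b hb).symm
      · rw [Subgroup.mem_centralizer_iff]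
        rintro _ rfl
        exact ((Subgroup.mem_centralizer_iff.mp hvK.2) y hy).symm
    exact ((Subgroup.mem_centralizer_iff.mp (hle hu)) v rfl).symm
  have hbest : IsBest V A := by
    intro B hB
    set Y := V ⊓ Subgroup.centralizer (B : Set G) with hY
    have hBY : B ≤ Subgroup.normalizer (Y : Set G) := by
      have : B ≤ Subgroup.centralizer (Y : Set G) := fun b hb =>
        Subgroup.mem_centralizer_iff.mpr (fun y hy => ((Subgroup.mem_centralizer_iff.mp hy.2) b hb).symm)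
      exact this.trans (Subgroup.centralizer_le_normalizer _)
    have h2 := card_sup_mul_card_inf_of_le_normalizer B Y hBY
    have h1 := hAm (B ⊔ Y) (hsupab hB)
    have h3 : B ⊓ Y ≤ V ⊓ Subgroup.centralizer (A : Set G) := fun x hx => hcA (hB hx.1) hx.2.1
    have h4 := Nat.card_le_card_of_injective _ (Subgroup.inclusion_injective h3)
    unfold offProd
    rw [← h2]
    exact Nat.mul_le_mul h1 h4
  obtain ⟨h1, h2⟩ := replacement_of_best hV hAV hab hbest (le_refl V)
  set B := A ⊓ Subgroup.centralizer ((⁅V, A⁆ : Subgroup G) : Set G) with hB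
  have hBA : B ≤ A := inf_le_left
  constructor
  · intro hbot
    have hVp : IsPGroup p V := IsPGroup.to_subgroup hG V
    have hVC : V ≤ V ⊓ Subgroup.centralizer (B : Set G) := by
      refine le_inf le_rfl ?_
      intro v hv
      refine Subgroup.mem_centralizer_iff.mpr ?_
      intro b hb
      have := Subgroup.commutator_mem_commutator hv hb
      rw [hbot, Subgroup.mem_bot] at this
      exact (commutatorElement_eq_one_iff_mul_comm.mp this).symm
    rw [h2] at hVC
    set W := ⁅V, A⁆ with hW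
    have hWV : W ≤ V := commutator_le_of_le_normalizer hAV
    have hsub : ⁅V, A⁆ ≤ ⁅W, A⁆ := by
      let T : Subgroup G :=
        { carrier := {v | v ∈ V ∧ ∀ a ∈ A, ⁅v, a⁆ ∈ ⁅W, A⁆}
          one_mem' := ⟨V.one_mem, fun a _ => by simp [commutatorElement_def]⟩
          mul_mem' := by
            rintro x y ⟨hx, hx'⟩ ⟨hy, hy'⟩
            refine ⟨V.mul_mem hx hy, fun a ha => ?_⟩
            rw [comm_mul_left hV (hAV ha) hx hy]
            exact Subgroup.mul_mem _ (hx' a ha) (hy' a ha)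
          inv_mem' := by
            rintro x ⟨hx, hx'⟩
            refine ⟨V.inv_mem hx, fun a ha => ?_⟩
            rw [comm_inv_left hV (hAV ha) hx]
            exact Subgroup.inv_mem _ (hx' a ha) }
      have hT1 : W ≤ T := fun w hw => ⟨hWV hw, fun a ha => Subgroup.commutator_mem_commutator hw ha⟩
      have hT2 : V ⊓ Subgroup.centralizer (A : Set G) ≤ T := by
        rintro c ⟨hc, hc'⟩
        refine ⟨hc, fun a ha => ?_⟩
        have := (Subgroup.mem_centralizer_iff.mp hc') a ha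
        rw [commutatorElement_eq_one_iff_mul_comm.mpr this.symm]
        exact Subgroup.one_mem _
      have hVT : V ≤ T := le_trans hVC (sup_le hT1 hT2)
      rw [Subgroup.commutator_le]
      intro v hv a ha
      exact (hVT hv).2 a ha
    have hWbot : W = ⊥ := by
      refine eq_bot_of_le_commutator hVp hAV ?_ hWV hsub
      intro a _
      obtain ⟨k, hk⟩ := hG a
      exact ⟨k, by rw [hk]; exact Subgroup.one_mem _⟩
    exact hne hWbot
  · set Y := V ⊓ Subgroup.centralizer (B : Set G) with hY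
    set c := V ⊓ Subgroup.centralizer (A : Set G) with hc
    have hBY : B ≤ Subgroup.normalizer (Y : Set G) := by
      have : B ≤ Subgroup.centralizer (Y : Set G) := fun b hb =>
        Subgroup.mem_centralizer_iff.mpr (fun y hy => ((Subgroup.mem_centralizer_iff.mp hy.2) b hb).symm)
      exact this.trans (Subgroup.centralizer_le_normalizer _)
    have e1 := card_sup_mul_card_inf_of_le_normalizer B Y hBY
    have e2 : Nat.card B * Nat.card Y = Nat.card A * Nat.card c := h1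
    have h3 : B ⊓ Y ≤ c := fun x hx => hcA (hBA hx.1) hx.2.1
    have h4 := Nat.card_le_card_of_injective _ (Subgroup.inclusion_injective h3)
    have hcpos : 0 < Nat.card c := Nat.card_pos
    have h5 : Nat.card A * Nat.card c ≤ Nat.card ↥(B ⊔ Y) * Nat.card c := by
      rw [← e2, ← e1]
      exact Nat.mul_le_mul_left _ h4
    exact Nat.le_of_mul_le_mul_right h5 hcpos

end rep

variable {Ω : Type u} [Group Ω] {T R R' O A B M U : Subgroup Ω} {p : ℕ}

/-- Abelian. -/
def Cm (A : Subgroup Ω) : Prop := ∀ a ∈ A, ∀ b ∈ A, a * b = b * a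

/-- Abelian subgroups of maximal order. -/
structure IsMaxAb (T A : Subgroup Ω) : Prop where
  le : A ≤ T
  ab : Cm A
  max : ∀ B : Subgroup Ω, B ≤ T → Cm B → Nat.card B ≤ Nat.card A

/-- The Thompson subgroup. -/
def Jt (T : Subgroup Ω) : Subgroup Ω := sSup {A | IsMaxAb T A}

theorem Cm.sup (hA : Cm A) (hB : Cm B) (h : ∀ a ∈ A, ∀ b ∈ B, a * b = b * a) : Cm (A ⊔ B) := by
  intro u hu v hv
  let K : Subgroup Ω := Subgroup.centralizer (A : Set Ω) ⊓ Subgroup.centralizer (B : Set Ω)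
  have hAK : A ≤ K := fun a ha => ⟨Subgroup.mem_centralizer_iff.mpr (fun c hc => hA c hc a ha),
    Subgroup.mem_centralizer_iff.mpr (fun y hy => (h a ha y hy).symm)⟩
  have hBK : B ≤ K := fun b hb => ⟨Subgroup.mem_centralizer_iff.mpr (fun c hc => h c hc b hb),
    Subgroup.mem_centralizer_iff.mpr (fun z hz => hB z hz b hb)⟩
  have hvK := (sup_le hAK hBK) hv
  have hle : A ⊔ B ≤ Subgroup.centralizer ({v} : Set Ω) := by
    refine sup_le (fun b hb => ?_) (fun y hy => ?_)
    · rw [Subgroup.mem_centralizer_iff]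
      rintro _ rfl
      exact ((Subgroup.mem_centralizer_iff.mp hvK.1) b hb).symm
    · rw [Subgroup.mem_centralizer_iff]
      rintro _ rfl
      exact ((Subgroup.mem_centralizer_iff.mp hvK.2) y hy).symm
  exact ((Subgroup.mem_centralizer_iff.mp (hle hu)) v rfl).symm

theorem Cm.zpowers (x : Ω) : Cm (Subgroup.zpowers x) := by
  rintro _ ⟨i, rfl⟩ _ ⟨j, rfl⟩
  exact (Commute.refl x).zpow_zpow i j

theorem exists_maxab [Finite T] : ∃ A, IsMaxAb T A := by
  let s : Set ℕ := {m | ∃ A : Subgroup Ω, A ≤ T ∧ Cm A ∧ m = Nat.card A}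
  have hbd : BddAbove s := ⟨Nat.card T, by
    rintro _ ⟨A, hA, -, rfl⟩
    exact Subgroup.card_le_of_le hA⟩
  have hne : s.Nonempty := ⟨_, ⊥, bot_le, fun a ha b hb => by
    rw [Subgroup.mem_bot.1 ha, Subgroup.mem_bot.1 hb], rfl⟩
  obtain ⟨A, hA, hc, he⟩ := Nat.sSup_mem hne hbd
  refine ⟨A, hA, hc, fun B hB hBc => ?_⟩
  rw [← he]
  exact le_csSup hbd ⟨B, hB, hBc, rfl⟩

theorem IsMaxAb.le_J (h : IsMaxAb T A) : A ≤ Jt T := le_sSup h

theorem Jt_le : Jt T ≤ T := sSup_le (fun _ h => h.le)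

/-- A central element lies in every abelian subgroup of maximal order. -/
theorem IsMaxAb.mem_of_central [Finite T] (h : IsMaxAb T A) {x : Ω} (hx : x ∈ T) (hc : ∀ t ∈ T, t * x = x * t) : x ∈ A := by
  have hle : A ⊔ Subgroup.zpowers x ≤ T := sup_le h.le ((Subgroup.zpowers_le).2 hx)
  have hcm : Cm (A ⊔ Subgroup.zpowers x) := h.ab.sup (Cm.zpowers x) (by
    rintro a ha _ ⟨j, rfl⟩
    have h1 : Commute a x := hc a (h.le ha)
    exact (h1.zpow_right j))
  haveI : Finite ↥(A ⊔ Subgroup.zpowers x) := finite_of_le hle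
  have := Subgroup.eq_of_le_of_card_ge (le_sup_left : A ≤ A ⊔ Subgroup.zpowers x) (h.max _ hle hcm)
  rw [this]
  exact Subgroup.mem_sup_right (Subgroup.mem_zpowers x)

theorem mem_J_of_central [Finite T] {x : Ω} (hx : x ∈ T) (hc : ∀ t ∈ T, t * x = x * t) : x ∈ Jt T := by
  obtain ⟨A, hA⟩ := exists_maxab (T := T)
  exact hA.le_J (hA.mem_of_central hx hc)

section maps

variable {S : Subgroup Ω} {G : FusionSystem S} {f k : Ω → Ω}

/-- Images of abelian subgroups of maximal order. -/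
theorem IsMaxAb.img [Finite S] (hA : IsMaxAb R A) (hf : Mp G R f) (hi : Img R f R') {A' : Subgroup Ω} (hA' : Img A f A') : IsMaxAb R' A' := by
  have hAR := hA.le
  haveI : Finite R' := finite_of_le (hf.img_le hi)
  refine ⟨?_, ?_, fun D hD hDc => ?_⟩
  · intro y hy
    obtain ⟨a, ha, rfl⟩ := hA'.2 y hy
    exact hi.1 a (hAR ha)
  · intro u hu v hv
    obtain ⟨a, ha, rfl⟩ := hA'.2 u hu
    obtain ⟨b, hb, rfl⟩ := hA'.2 v hv
    rw [← hf.map_mul (hAR ha) (hAR hb), ← hf.map_mul (hAR hb) (hAR ha), hA.ab a ha b hb]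
  · obtain ⟨k, hk, h1, h2, h3⟩ := hf.inverse hi
    obtain ⟨D', hD'⟩ := (hk.restrict hD).exists_img
    have hD'R : D' ≤ R := by
      intro y hy
      obtain ⟨d, hd, rfl⟩ := hD'.2 y hy
      exact h3.1 d (hD hd)
    have hD'c : Cm D' := by
      intro u hu v hv
      obtain ⟨a, ha, rfl⟩ := hD'.2 u hu
      obtain ⟨b, hb, rfl⟩ := hD'.2 v hv
      rw [← hk.map_mul (hD ha) (hD hb), ← hk.map_mul (hD hb) (hD ha), hDc a ha b hb]
    have h4 := hA.max D' hD'R hD'c
    rw [(hk.restrict hD).card_img hD'] at h4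
    rw [(hf.restrict hAR).card_img hA']
    exact h4

theorem mem_Jt_of_forall {W : Subgroup Ω} (hf : Mp G R f) (h : ∀ A, IsMaxAb R A → ∀ a ∈ A, f a ∈ W) {j : Ω} (hj : j ∈ Jt R) : f j ∈ W := by
  let K : Subgroup Ω :=
    { carrier := {x | x ∈ R ∧ f x ∈ W}
      one_mem' := ⟨R.one_mem, by rw [hf.map_one]; exact W.one_mem⟩
      mul_mem' := by
        rintro a b ⟨ha, ha'⟩ ⟨hb, hb'⟩
        exact ⟨R.mul_mem ha hb, by rw [hf.map_mul ha hb]; exact W.mul_mem ha' hb'⟩
      inv_mem' := by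
        rintro a ⟨ha, ha'⟩
        exact ⟨R.inv_mem ha, by rw [hf.map_inv ha]; exact W.inv_mem ha'⟩ }
  have hle : Jt R ≤ K := sSup_le (fun A hA a ha => ⟨hA.le ha, h A hA a ha⟩)
  exact (hle hj).2

theorem Jt_maps [Finite S] (hf : Mp G R f) (hi : Img R f R') {j : Ω} (hj : j ∈ Jt R) : f j ∈ Jt R' := by
  refine mem_Jt_of_forall hf (fun A hA a ha => ?_) hj
  obtain ⟨A', hA'⟩ := (hf.restrict hA.le).exists_img
  exact (hA.img hf hi hA').le_J (hA'.1 a ha)

/-- The Thompson subgroup is preserved by isomorphisms. -/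
theorem Jt_img [Finite S] (hf : Mp G R f) (hi : Img R f R') : Img (Jt R) f (Jt R') := by
  obtain ⟨k, hk, h1, h2, h3⟩ := hf.inverse hi
  refine ⟨fun j hj => Jt_maps hf hi hj, fun y hy => ⟨k y, Jt_maps hk h3 hy, ?_⟩⟩
  exact h2 y (Jt_le hy)

/-- The normalizer of `R` in `T` normalizes the Thompson subgroup. -/
theorem norm_le_norm_Jt [Finite S] (G : FusionSystem S) (hT : T ≤ S) {t : Ω} (ht : t ∈ normalizerIn T R) (hRT : R ≤ T) :
    t ∈ normalizerIn T (Jt R) := by
  have hRS := hRT.trans hT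
  have htS : t ∈ S := hT ht.1
  have hm : Mp G R (fun x => t * x * t⁻¹) := Mp.conj hRS htS
  have hi : Img R (fun x => t * x * t⁻¹) R := ⟨fun x hx => norm_conj ht.2 hx, fun y hy => ⟨t⁻¹ * y * t, conj_inv_mem ht.2 hy, by group⟩⟩
  haveI : Finite R := finite_of_le hRS
  haveI : Finite (Jt R) := finite_of_le Jt_le
  exact ⟨ht.1, mem_normalizer_of_conj_le' (fun x hx => Jt_maps hm hi hx)⟩

end maps

/-- If `J(T) ≤ O ≤ T`, then `J(O) = J(T)`. -/
theorem Jt_eq_of_le [Finite T] (hJ : Jt T ≤ O) (hOT : O ≤ T) : Jt O = Jt T := by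
  have h1 : ∀ A, IsMaxAb T A → IsMaxAb O A := fun A hA =>
    ⟨hA.le_J.trans hJ, hA.ab, fun B hB hc => hA.max B (hB.trans hOT) hc⟩
  have hsets : {A | IsMaxAb O A} = {A | IsMaxAb T A} := by
    ext A
    constructor
    · intro hA
      obtain ⟨A₀, hA₀⟩ := exists_maxab (T := T)
      refine ⟨hA.le.trans hOT, hA.ab, fun B hB hc => (hA₀.max B hB hc).trans ?_⟩
      exact hA.max A₀ (h1 A₀ hA₀).le hA₀.ab
    · exact h1 A
  show sSup _ = sSup _
  rw [hsets]

section repl

variable [Fact p.Prime]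

/-- **Replacement**, in the ambient group. -/
theorem repl [Finite T] (hT : IsPGroup p T) (hA : IsMaxAb T A) (hMT : M ≤ T) (hMab : Cm M)
    (hAM : A ≤ Subgroup.normalizer (M : Set Ω)) (hne : ∃ a ∈ A, ∃ m ∈ M, a * m ≠ m * a) :
    ∃ B, B ≤ A ∧ (∃ b ∈ B, ∃ m ∈ M, b * m ≠ m * b) ∧
      (∀ b ∈ B, ∀ c ∈ B, ∀ m ∈ M, c * (b * m * b⁻¹ * m⁻¹) = (b * m * b⁻¹ * m⁻¹) * c) ∧
      IsMaxAb T (B ⊔ (M ⊓ Subgroup.centralizer (B : Set Ω))) := by
  have hG : IsPGroup p T := hT
  set A' : Subgroup T := A.subgroupOf T with hA'd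
  set V' : Subgroup T := M.subgroupOf T with hV'd
  have hA'c : ∀ a ∈ A', ∀ b ∈ A', a * b = b * a := fun a ha b hb => Subtype.ext (hA.ab _ ha _ hb)
  have hcardA : Nat.card A' = Nat.card A := Nat.card_congr (Subgroup.subgroupOfEquivOfLe hA.le).toEquiv
  have hAm : ∀ D : Subgroup T, (∀ a ∈ D, ∀ b ∈ D, a * b = b * a) → Nat.card D ≤ Nat.card A' := by
    intro D hD
    rw [hcardA, ← Subgroup.card_map_of_injective (Subgroup.subtype_injective T)]
    refine hA.max _ ?_ ?_
    · rintro _ ⟨d, -, rfl⟩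
      exact d.2
    · rintro _ ⟨a, ha, rfl⟩ _ ⟨b, hb, rfl⟩
      exact congrArg Subtype.val (hD a ha b hb)
  have hV' : IsMulCommutative V' := ⟨⟨fun a b => Subtype.ext (Subtype.ext (hMab _ a.2 _ b.2))⟩⟩
  have hAV' : A' ≤ Subgroup.normalizer (V' : Set T) := by
    intro a ha
    rw [Subgroup.mem_normalizer_iff]
    intro v
    exact (Subgroup.mem_normalizer_iff.1 (hAM ha)) (v : Ω)
  have hne' : ⁅V', A'⁆ ≠ ⊥ := by
    intro hbot
    obtain ⟨a, ha, m, hm, hne⟩ := hne
    apply hne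
    have hm' : (⟨m, hMT hm⟩ : T) ∈ V' := hm
    have ha' : (⟨a, hA.le ha⟩ : T) ∈ A' := ha
    have h1 := Subgroup.commutator_mem_commutator hm' ha'
    rw [hbot, Subgroup.mem_bot] at h1
    have h2 := commutatorElement_eq_one_iff_mul_comm.mp h1
    exact (congrArg Subtype.val h2).symm
  obtain ⟨h1, h2⟩ := repl_G hG hA'c hAm hV' hAV' hne'
  set B' := A' ⊓ Subgroup.centralizer ((⁅V', A'⁆ : Subgroup T) : Set T) with hB'd
  have hBA' : B' ≤ A' := inf_le_left
  refine ⟨B'.map T.subtype, ?_, ?_, ?_, ?_⟩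
  · rintro _ ⟨b, hb, rfl⟩
    exact hBA' hb
  · by_contra hcon
    push Not at hcon
    apply h1
    rw [eq_bot_iff, Subgroup.commutator_le]
    intro v hv b hb
    rw [Subgroup.mem_bot, commutatorElement_eq_one_iff_mul_comm]
    exact Subtype.ext (hcon _ ⟨b, hb, rfl⟩ _ hv).symm
  · rintro _ ⟨b, hb, rfl⟩ _ ⟨c, hc, rfl⟩ m hm
    have hm' : (⟨m, hMT hm⟩ : T) ∈ V' := hm
    have hcomm := Subgroup.commutator_mem_commutator hm' (hBA' hb)
    have h3 := (Subgroup.mem_centralizer_iff.mp hc.2) _ (Subgroup.inv_mem _ hcomm)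
    have h4 := congrArg Subtype.val h3
    simp only [commutatorElement_def, mul_inv_rev, inv_inv, Subgroup.coe_mul, Subgroup.coe_inv] at h4
    simp only [Subgroup.coe_subtype]
    rw [show (b : Ω) * m * (b : Ω)⁻¹ * m⁻¹ = (b : Ω) * (m * ((b : Ω)⁻¹ * m⁻¹)) by group]
    exact h4.symm
  · have hBc : Cm (B'.map T.subtype) := by
      rintro _ ⟨a, ha, rfl⟩ _ ⟨b, hb, rfl⟩
      exact congrArg Subtype.val (hA'c a (hBA' ha) b (hBA' hb))
    have hYc : Cm (M ⊓ Subgroup.centralizer ((B'.map T.subtype : Subgroup Ω) : Set Ω)) :=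
      fun a ha b hb => hMab a ha.1 b hb.1
    have hle : B'.map T.subtype ⊔ (M ⊓ Subgroup.centralizer ((B'.map T.subtype : Subgroup Ω) : Set Ω)) ≤ T := by
      refine sup_le ?_ (inf_le_left.trans hMT)
      rintro _ ⟨b, -, rfl⟩
      exact b.2
    refine ⟨hle, hBc.sup hYc (fun a ha b hb => ((Subgroup.mem_centralizer_iff.mp hb.2) a ha)), fun D hD hDc => ?_⟩
    refine (hA.max D hD hDc).trans ?_
    rw [← hcardA]
    refine h2.trans ?_
    rw [← Subgroup.card_map_of_injective (Subgroup.subtype_injective T)]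
    haveI : Finite ↥(B'.map T.subtype ⊔ (M ⊓ Subgroup.centralizer ((B'.map T.subtype : Subgroup Ω) : Set Ω))) := finite_of_le hle
    refine Subgroup.card_le_of_le ?_
    rw [Subgroup.map_sup]
    refine sup_le_sup_left ?_ _
    rintro _ ⟨v, hv, rfl⟩
    refine ⟨hv.1, Subgroup.mem_centralizer_iff.mpr ?_⟩
    rintro _ ⟨b, hb, rfl⟩
    exact congrArg Subtype.val ((Subgroup.mem_centralizer_iff.mp hv.2) b hb)

end repl

end Cfsg.Agent.Lib.FusionTheory.FixPts2
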