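import Cfsg.Agent.Lib.FusionTheory.FixPts2

/-!
# Control of fixed points: the trace at a normal subgroup (helper93)
-/

set_option autoImplicit false
set_option linter.unusedSectionVars false
set_option linter.style.haveILetI false

open scoped commutatorElement

namespace Cfsg.Agent.Lib.FusionTheory.FixPts3

open Cfsg Cfsg.FusionSystem Cfsg.Agent.Lib.Fusion.Basic Cfsg.Agent.Lib.Fusion.GroupSystem
open Cfsg.Agent.Lib.FusionExt.MapApi Cfsg.Agent.Lib.FusionExt.LowPi Cfsg.Agent.Lib.FusionExt.Glue1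
open Cfsg.Agent.Lib.FusionExt.PrimeRes1
open Cfsg.Agent.Lib.FusionTheory.FixPts1 Cfsg.Agent.Lib.FusionTheory.FixPts2

universe u

variable {Ω : Type u} [Group Ω] {T O A B M U : Subgroup Ω} {p : ℕ}

/-- The centre of `O`. -/
def Zc (O : Subgroup Ω) : Subgroup Ω := O ⊓ Subgroup.centralizer (O : Set Ω)

theorem mem_Zc {z : Ω} : z ∈ Zc O ↔ z ∈ O ∧ ∀ y ∈ O, y * z = z * y :=
  ⟨fun h => ⟨h.1, fun y hy => (Subgroup.mem_centralizer_iff.mp h.2) y hy⟩,
    fun h => ⟨h.1, Subgroup.mem_centralizer_iff.mpr h.2⟩⟩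

instance instCommZc (O : Subgroup Ω) : CommGroup (Zc O) :=
  { (inferInstance : Group (Zc O)) with
    mul_comm := fun a b => Subtype.ext ((mem_Zc.1 b.2).2 a (mem_Zc.1 a.2).1) }

theorem autFun_mem_Zc (a : MulAut O) {z : Ω} (hz : z ∈ Zc O) : autFun a z ∈ Zc O := by
  obtain ⟨h1, h2⟩ := mem_Zc.1 hz
  refine mem_Zc.2 ⟨autFun_mem a h1, fun y hy => ?_⟩
  obtain ⟨y₀, hy₀, rfl⟩ := (img_autFun a).2 y hy
  rw [← autFun_mul a hy₀ h1, ← autFun_mul a h1 hy₀, h2 y₀ hy₀]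

theorem autFun_one' (a : MulAut O) : autFun a (1 : Ω) = 1 := by
  have h := autFun_mul a (O.one_mem) (O.one_mem)
  rw [mul_one] at h
  exact (mul_eq_left.1 h.symm)

/-- The action of `Aut(O)` on the centre. -/
noncomputable instance instActZc (O : Subgroup Ω) : MulDistribMulAction (MulAut O) (Zc O) where
  smul a z := ⟨autFun a z, autFun_mem_Zc a z.2⟩
  one_smul _ := Subtype.ext (autFun_one_apply _)
  mul_smul a b _ := Subtype.ext (autFun_mul_apply a b _)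
  smul_mul a y z := Subtype.ext (autFun_mul a (mem_Zc.1 y.2).1 (mem_Zc.1 z.2).1)
  smul_one a := Subtype.ext (autFun_one' a)

theorem smul_coe (a : MulAut O) (z : Zc O) : ((a • z : Zc O) : Ω) = autFun a z := rfl

/-- **The trace at a normal subgroup.** -/
theorem trace_top [Fact p.Prime] [Finite T] (hT : IsPGroup p T) (hp2 : p ≠ 2) (hOT : O ≤ T) (hOn : T ≤ Subgroup.normalizer (O : Set Ω))
    (X : Subgroup (MulAut O)) (hsyl : IsSylowIn p (autInducedBy T O) X) (hle : autInducedBy T O ≤ X) {x : Ω} (hxO : x ∈ O)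
    (hxZ : ∀ t ∈ T, t * x = x * t) (hpow : ∀ g ∈ X, autFun g (x ^ p) = x ^ p) {A₀ : Subgroup Ω} (hA₀ : IsMaxAb T A₀) (hA₀O : ¬ A₀ ≤ O)
    (UF : ∀ B : Subgroup Ω, B ≤ T → (∃ A, IsMaxAb T A ∧ A ≤ O ⊔ B ∧ ¬ A ≤ O) → ∀ g ∈ X,
      (∀ b ∈ B, b * autFun g x = autFun g x * b) → autFun g x = x) :
    ∀ g ∈ X, autFun g x = x := by
  classical
  haveI : Finite O := finite_of_le hOT
  haveI : Finite (Zc O) := finite_of_le (inf_le_left.trans hOT)
  haveI : Finite (MulAut O) := Cfsg.Agent.Lib.Fusion.Basic.finite_mulAut_of_finite (A := O)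
  have hp : p.Prime := Fact.out
  have hxZc : x ∈ Zc O := mem_Zc.2 ⟨hxO, fun y hy => hxZ y (hOT hy)⟩
  have hgZ : ∀ g : MulAut O, autFun g x ∈ Zc O := fun g => autFun_mem_Zc g hxZc
  -- the module
  let M : Subgroup Ω := Subgroup.closure {m | ∃ g ∈ X, m = x⁻¹ * autFun g x}
  have hMZ : M ≤ Zc O := (Subgroup.closure_le _).2 (by
    rintro _ ⟨g, -, rfl⟩
    exact Subgroup.mul_mem _ (Subgroup.inv_mem _ hxZc) (hgZ g))
  have hMT : M ≤ T := hMZ.trans (inf_le_left.trans hOT)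
  have hMab : Cm M := fun a ha b hb => (mem_Zc.1 (hMZ hb)).2 a (mem_Zc.1 (hMZ ha)).1
  haveI : Finite M := finite_of_le hMT
  have hnormM : T ≤ Subgroup.normalizer (M : Set Ω) := by
    intro t ht
    refine mem_normalizer_of_conj_le' (fun m hm => ?_)
    induction hm using Subgroup.closure_induction with
    | mem m hm =>
      obtain ⟨g, hg, rfl⟩ := hm
      refine Subgroup.subset_closure ⟨normAct O (hOn ht) * g, X.mul_mem (hle (normAct_mem_autInducedBy T O (hOn ht) ht)) hg, ?_⟩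
      rw [autFun_mul_apply, normAct_fun (hOn ht) (mem_Zc.1 (hgZ g)).1]
      have e : t * x⁻¹ * t⁻¹ = x⁻¹ := by
        have := hxZ t ht
        rw [eq_comm, inv_eq_iff_mul_eq_one]
        calc x * (t * x⁻¹ * t⁻¹) = (x * t) * x⁻¹ * t⁻¹ := by group
          _ = (t * x) * x⁻¹ * t⁻¹ := by rw [this]
          _ = 1 := by group
      calc t * (x⁻¹ * autFun g x) * t⁻¹ = (t * x⁻¹ * t⁻¹) * (t * autFun g x * t⁻¹) := by group
        _ = _ := by rw [e]
    | one =>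
      rw [mul_one, mul_inv_cancel]
      exact Subgroup.one_mem _
    | mul a b _ _ ha hb =>
      have e : t * (a * b) * t⁻¹ = (t * a * t⁻¹) * (t * b * t⁻¹) := by group
      rw [e]
      exact Subgroup.mul_mem _ ha hb
    | inv a _ ha =>
      have e : t * a⁻¹ * t⁻¹ = (t * a * t⁻¹)⁻¹ := by group
      rw [e]
      exact Subgroup.inv_mem _ ha
  have hgen : ∀ g ∈ X, x⁻¹ * autFun g x ∈ M := fun g hg => Subgroup.subset_closure ⟨g, hg, rfl⟩
  have hcommt : ∀ t ∈ T, ∀ g ∈ X, (∀ m ∈ M, t * m = m * t) → t * autFun g x = autFun g x * t := by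
    intro t ht g hg h
    have e : autFun g x = x * (x⁻¹ * autFun g x) := by group
    rw [e, ← mul_assoc, hxZ t ht, mul_assoc, h _ (hgen g hg)]
    group
  -- the replacement
  obtain ⟨B, hBA, hBne, hBq, hBmax⟩ : ∃ B, B ≤ T ∧ (∃ A, IsMaxAb T A ∧ A ≤ O ⊔ B ∧ ¬ A ≤ O) ∧
      (∀ b ∈ B, ∀ c ∈ B, ∀ m ∈ M, c * (b * m * b⁻¹ * m⁻¹) = (b * m * b⁻¹ * m⁻¹) * c) ∧ True := by
    by_cases hc : ∃ a ∈ A₀, ∃ m ∈ M, a * m ≠ m * a
    · obtain ⟨B, hB1, hB2, hB3, hB4⟩ := repl hT hA₀ hMT hMab (hA₀.le.trans hnormM) hc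
      refine ⟨B, hB1.trans hA₀.le, ⟨_, hB4, sup_le ?_ (inf_le_left.trans (hMZ.trans (inf_le_left.trans le_sup_left))), ?_⟩, hB3, trivial⟩
      · exact le_sup_right
      · intro hle'
        obtain ⟨b, hb, m, hm, hne⟩ := hB2
        have hbO : b ∈ O := hle' (Subgroup.mem_sup_left hb)
        exact hne ((mem_Zc.1 (hMZ hm)).2 b hbO)
    · push Not at hc
      refine ⟨A₀, hA₀.le, ⟨A₀, hA₀, le_sup_right, hA₀O⟩, fun b hb c hc' m hm => ?_, trivial⟩
      rw [hc b hb m hm]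
      have : m * b * b⁻¹ * m⁻¹ = 1 := by group
      rw [this]
      group
  have hUF := UF B hBA hBne
  -- the group acting
  let Bh : Subgroup (MulAut O) :=
    { carrier := {c | ∃ b ∈ B, ∀ z ∈ O, autFun c z = b * z * b⁻¹}
      one_mem' := ⟨1, B.one_mem, fun z _ => by rw [autFun_one_apply]; group⟩
      mul_mem' := by
        rintro c d ⟨b, hb, hbe⟩ ⟨b', hb', hb'e⟩
        refine ⟨b * b', B.mul_mem hb hb', fun z hz => ?_⟩
        rw [autFun_mul_apply, hb'e z hz, hbe _ (norm_conj (hOn (hBA hb')) hz)]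
        group
      inv_mem' := by
        rintro c ⟨b, hb, hbe⟩
        refine ⟨b⁻¹, B.inv_mem hb, fun z hz => ?_⟩
        have h1 := hbe _ (autFun_mem c⁻¹ hz)
        rw [autFun_apply_inv] at h1
        calc autFun c⁻¹ z = b⁻¹ * (b * autFun c⁻¹ z * b⁻¹) * b⁻¹⁻¹ := by group
          _ = b⁻¹ * z * b⁻¹⁻¹ := by rw [← h1] }
  have hBhX : Bh ≤ X := by
    rintro c ⟨b, hb, hbe⟩
    exact hle (inT_iff.2 ⟨b, ⟨hBA hb, hOn (hBA hb)⟩, hbe⟩)
  let x₀ : Zc O := ⟨x, hxZc⟩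
  let Of : Finset (Zc O) := (Set.toFinite (MulAction.orbit X x₀)).toFinset
  have hOf : ∀ ω, ω ∈ Of ↔ ∃ g : X, g • x₀ = ω := fun ω => by
    rw [Set.Finite.mem_toFinset]
    exact Iff.rfl
  have hcoe : ∀ (g : X), (((g • x₀ : Zc O)) : Ω) = autFun (g : MulAut O) x := fun g => rfl
  have hxinv : ((x₀⁻¹ : Zc O) : Ω) = x⁻¹ := rfl
  have hexp : ∀ g : X, (x₀⁻¹ * g • x₀) ^ p = 1 := by
    intro g
    rw [mul_pow, inv_pow, ← smul_pow']
    have h1 : g • x₀ ^ p = x₀ ^ p := by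
      apply Subtype.ext
      show autFun (g : MulAut O) ((x₀ ^ p : Zc O) : Ω) = _
      have e : ((x₀ ^ p : Zc O) : Ω) = x ^ p := rfl
      rw [e]
      exact hpow g g.2
    rw [h1, inv_mul_cancel]
  have hs : ∏ ω ∈ Of, (x₀⁻¹ * ω) = 1 := by
    refine trace_abs (B := Bh) hp hp2 Of ?_ ?_ ?_ ?_ ?_
    · rintro ⟨c, hc⟩ ω hω
      obtain ⟨g, rfl⟩ := (hOf ω).1 hω
      refine (hOf _).2 ⟨⟨c, hBhX hc⟩ * g, ?_⟩
      rw [mul_smul]
      rfl
    · rintro ⟨c, b, hb, hbe⟩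
      apply Subtype.ext
      show autFun c x = x
      rw [hbe x hxO, hxZ b (hBA hb)]
      group
    · intro ω hω
      obtain ⟨g, rfl⟩ := (hOf ω).1 hω
      exact hexp g
    · rintro ω hω ⟨c, b, hb, hbe⟩ ⟨d, b', hb', hb'e⟩
      obtain ⟨g, rfl⟩ := (hOf ω).1 hω
      have hm := hgen g g.2
      have hmO : x⁻¹ * autFun (g : MulAut O) x ∈ O := (mem_Zc.1 (hMZ hm)).1
      set m := x⁻¹ * autFun (g : MulAut O) x with hmd
      have h1 := hBq b hb b' hb' m hm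
      have hcoe1 : ((x₀⁻¹ * g • x₀ : Zc O) : Ω) = m := rfl
      have hval : (((⟨c, b, hb, hbe⟩ : Bh) • (x₀⁻¹ * g • x₀) * (x₀⁻¹ * g • x₀)⁻¹ : Zc O) : Ω) = b * m * b⁻¹ * m⁻¹ := by
        show autFun c ((x₀⁻¹ * g • x₀ : Zc O) : Ω) * ((x₀⁻¹ * g • x₀ : Zc O) : Ω)⁻¹ = _
        rw [hcoe1, hbe m hmO]
      apply Subtype.ext
      show autFun d _ = _
      rw [hval, hb'e _ (O.mul_mem (norm_conj (hOn (hBA hb)) hmO) (O.inv_mem hmO)), h1]
      group
    · intro ω hω hf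
      obtain ⟨g, rfl⟩ := (hOf ω).1 hω
      apply Subtype.ext
      show autFun (g : MulAut O) x = x
      refine hUF g g.2 (fun b hb => ?_)
      have hc : normAct O (hOn (hBA hb)) ∈ Bh := ⟨b, hb, fun z hz => normAct_fun _ hz⟩
      have h1 := congrArg Subtype.val (hf ⟨_, hc⟩)
      have h2 : b * autFun (g : MulAut O) x * b⁻¹ = autFun (g : MulAut O) x := by
        rw [← normAct_fun (hOn (hBA hb)) (mem_Zc.1 (hgZ g)).1]
        exact h1
      calc b * autFun (g : MulAut O) x = b * autFun (g : MulAut O) x * b⁻¹ * b := by group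
        _ = _ := by rw [h2]
  -- the index
  have hcard : Of.card.Coprime p := by
    have h1 : Of.card = (MulAction.orbit X x₀).ncard := (Set.ncard_eq_toFinset_card _ _).symm
    rw [h1, ← MulAction.index_stabilizer]
    obtain ⟨R, hR⟩ := hsyl
    have hRle : (R : Subgroup X) ≤ MulAction.stabilizer X x₀ := by
      intro g hg
      rw [hR] at hg
      obtain ⟨t, ht, e⟩ := inT_iff.1 (hg : (g : MulAut O) ∈ autInducedBy T O)
      rw [MulAction.mem_stabilizer_iff]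
      apply Subtype.ext
      show autFun (g : MulAut O) x = x
      have e' : autFun (g : MulAut O) x = t * x * t⁻¹ := e x hxO
      rw [e', hxZ t ht.1]
      group
    have h2 := Subgroup.index_dvd_of_le hRle
    have h3 := R.not_dvd_index
    exact ((Nat.Prime.coprime_iff_not_dvd hp).2 (fun h => h3 (h.trans h2))).symm
  intro g hg
  have := trace_conclude Of (fun g' ω hω => by
    obtain ⟨g₁, rfl⟩ := (hOf ω).1 hω
    exact (hOf _).2 ⟨g' * g₁, mul_smul _ _ _⟩) hs hexp hcard (⟨g, hg⟩ : X)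
  exact congrArg Subtype.val this

end Cfsg.Agent.Lib.FusionTheory.FixPts3
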