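import Cfsg.Agent.Lib.FusionTheory.FixPts3

/-!
# Control of fixed points: passage from fully normalized subgroups to all maps (helper93)
-/

set_option autoImplicit false
set_option linter.unusedSectionVars false

namespace Cfsg.Agent.Lib.FusionTheory.FixPts4

open Cfsg Cfsg.FusionSystem Cfsg.Agent.Lib.Fusion.Basic Cfsg.Agent.Lib.Fusion.GroupSystem
open Cfsg.Agent.Lib.FusionExt.MapApi Cfsg.Agent.Lib.FusionExt.LowPi Cfsg.Agent.Lib.FusionExt.Glue1
open Cfsg.Agent.Lib.FusionExt.PrimeRes1 Cfsg.Agent.Lib.Fusion.Saturation2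
open Cfsg.Agent.Lib.FusionTheory.FixPts2 Cfsg.Agent.Lib.FusionTheory.FixPts3

universe u

variable {Ω : Type u} [Group Ω] {T : Subgroup Ω} {E : FusionSystem T} {p : ℕ}

/-- The families of subgroups on which the argument runs. -/
structure Fm (E : FusionSystem T) (x : Ω) (𝓡 : Set (Subgroup Ω)) : Prop where
  le : ∀ R ∈ 𝓡, R ≤ T
  mem : ∀ R ∈ 𝓡, x ∈ R
  top : T ∈ 𝓡
  up : ∀ R ∈ 𝓡, ∀ R', R ≤ R' → R' ≤ T → R' ∈ 𝓡
  inv : ∀ R ∈ 𝓡, ∀ f R', Mp E R f → Img R f R' → R' ⊔ Subgroup.zpowers x ∈ 𝓡
  jt : ∀ R ∈ 𝓡, Jt R ∈ 𝓡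

section gen

variable [Fact p.Prime] [Finite T]

theorem mem_norm_of_central {x : Ω} {R : Subgroup Ω} (hxT : x ∈ T) (hxZ : ∀ t ∈ T, t * x = x * t) (hR : R ≤ T) :
    x ∈ normalizerIn T R := by
  refine ⟨hxT, ?_⟩
  have : Finite R := finite_of_le hR
  refine mem_normalizer_of_conj_le' (fun y hy => ?_)
  have : x * y * x⁻¹ = y := by rw [← hxZ y (hR hy)]; group
  rw [this]
  exact hy

theorem gen (hT : IsPGroup p T) (hE : E.IsSaturated p) {x : Ω} (hxT : x ∈ T) (hxZ : ∀ t ∈ T, t * x = x * t)
    {𝓡 : Set (Subgroup Ω)} (h𝓡 : Fm E x 𝓡)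
    (hAnc : ∀ f, Mp E (Jt T) f → Img (Jt T) f (Jt T) → f x = x)
    (hSt : ∀ U ∈ 𝓡, E.IsFullyNormalized U →
      (∀ f, Mp E (Jt (normalizerIn T U)) f → Img (Jt (normalizerIn T U)) f (Jt (normalizerIn T U)) → f x = x) →
      ∀ f, Mp E U f → Img U f U → f x = x) :
    ∀ R ∈ 𝓡, ∀ f, Mp E R f → f x = x := by
  have hn𝓡 : ∀ R ∈ 𝓡, normalizerIn T R ∈ 𝓡 := fun R hR =>
    h𝓡.up R hR _ (le_normalizerIn (h𝓡.le R hR)) inf_le_left
  have hcT : ∀ {A : Subgroup Ω}, A ≤ T → Nat.card A ≤ Nat.card T := fun h => card_le_of_le_finite h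
  have main : ∀ d : ℕ, (∀ R ∈ 𝓡, Nat.card T - Nat.card R = d → ∀ f, Mp E R f → f x = x) ∧
      (∀ U ∈ 𝓡, E.IsFullyNormalized U → Nat.card T - Nat.card (normalizerIn T U) = d →
        ∀ f, Mp E U f → Img U f U → f x = x) := by
    intro d
    induction d using Nat.strong_induction_on with
    | _ d ih =>
      have hTl : ∀ R ∈ 𝓡, Nat.card T - Nat.card R < d → ∀ f, Mp E R f → f x = x :=
        fun R hR hlt => (ih _ hlt).1 R hR rfl
      have hSl : ∀ U ∈ 𝓡, E.IsFullyNormalized U → Nat.card T - Nat.card (normalizerIn T U) < d →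
          ∀ f, Mp E U f → Img U f U → f x = x := fun U hU hfn hlt => (ih _ hlt).2 U hU hfn rfl
      -- passing to a fully normalized conjugate
      have C1 : ∀ R W : Subgroup Ω, normalizerIn T R ∈ 𝓡 → Nat.card T - Nat.card (normalizerIn T R) < d →
          E.IsFullyNormalized W → E.IsConj R W →
          ∃ ρ, Mp E (normalizerIn T R) ρ ∧ Img R ρ W ∧ ρ x = x := by
        intro R W hN hlt hW hRW
        obtain ⟨ρ, hρ, -, hρi⟩ := nm_map hT hE hW hRW
        exact ⟨ρ, hρ, hρi, hTl _ hN hlt ρ hρ⟩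
      have C2 : ∀ R W : Subgroup Ω, R ∈ 𝓡 → Nat.card T - Nat.card (normalizerIn T R) < d →
          E.IsFullyNormalized W → E.IsConj R W →
          ∃ ρ, Mp E (normalizerIn T R) ρ ∧ Img R ρ W ∧ ρ x = x ∧ W ∈ 𝓡 ∧ Nat.card T - Nat.card (normalizerIn T W) < d := by
        intro R W hR hlt hW hRW
        obtain ⟨ρ, hρ, hρi, hρx⟩ := C1 R W (hn𝓡 R hR) hlt hW hRW
        have hRle := le_normalizerIn (h𝓡.le R hR)
        have hxW : x ∈ W := hρx ▸ hρi.1 x (h𝓡.mem R hR)
        have h1 := h𝓡.inv R hR ρ W (hρ.restrict hRle) hρi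
        rw [sup_eq_left.2 ((Subgroup.zpowers_le).2 hxW)] at h1
        refine ⟨ρ, hρ, hρi, hρx, h1, ?_⟩
        have h2 := hW.2 R ((isConj_symm E hRW))
        have h3 : Nat.card (normalizerIn T R) ≤ Nat.card T := hcT inf_le_left
        have h4 : Nat.card (normalizerIn T W) ≤ Nat.card T := hcT inf_le_left
        omega
      have C3 : ∀ R : Subgroup Ω, R ∈ 𝓡 → Nat.card T - Nat.card (normalizerIn T R) < d →
          ∀ f, Mp E R f → Img R f R → f x = x := by
        intro R hR hlt f hf hfi
        have hRT := h𝓡.le R hR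
        obtain ⟨W, hRW, hW⟩ := exists_isFullyNormalized E hRT
        obtain ⟨ρ, hρ, hρi, hρx, hW𝓡, hlt'⟩ := C2 R W hR hlt hW hRW
        have hRle := le_normalizerIn hRT
        obtain ⟨g, hg, hg1, hg2, hgi⟩ := (hρ.restrict hRle).inverse hρi
        have hxR := h𝓡.mem R hR
        have hgx : g x = x := by
          have := hg1 x hxR
          rwa [hρx] at this
        have hb := hSl W hW𝓡 hW hlt' (fun w => ρ (f (g w)))
          (((hg.comp hgi.1 hf).comp (fun w hw => hfi.1 _ (hgi.1 w hw)) (hρ.restrict hRle)))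
          (((hgi.comp hfi).comp hρi))
        simp only [hgx] at hb
        refine hρ.inj (hRle (hfi.1 x hxR)) (hRle hxR) ?_
        rw [hb, hρx]
      refine ⟨?_, ?_⟩
      · -- all maps on `R`
        intro R hR hd f hf
        have hRT := h𝓡.le R hR
        by_cases hRe : R = T
        · subst hRe
          have hi : Img R f R := img_self hf (fun y hy => hf.mem_S hy)
          exact hAnc f (hf.restrict Jt_le) (Jt_img hf hi)
        · have hRlt : R < T := lt_of_le_of_ne hRT hRe
          have hcl : Nat.card R < Nat.card (normalizerIn T R) :=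
            Cfsg.Agent.Lib.FusionExt.SatCrit1.card_lt_of_lt (S := T) (le_normalizerIn hRT)
              (ne_of_lt (lt_normalizerIn hT hRlt)) inf_le_left
          have hcN : Nat.card (normalizerIn T R) ≤ Nat.card T := hcT inf_le_left
          have hlt : Nat.card T - Nat.card (normalizerIn T R) < d := by omega
          obtain ⟨R', hR'⟩ := hf.exists_img
          obtain ⟨W, hRW, hW⟩ := exists_isFullyNormalized E hRT
          obtain ⟨ρ, hρ, hρi, hρx, hW𝓡, hlt'⟩ := C2 R W hR hlt hW hRW
          have hR'T : R' ≤ T := hf.img_le hR'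
          have hRle := le_normalizerIn hRT
          have hR'le := le_normalizerIn hR'T
          obtain ⟨g, hg, hg1, hg2, hgi⟩ := (hρ.restrict hRle).inverse hρi
          have hxR := h𝓡.mem R hR
          have hgx : g x = x := by
            have := hg1 x hxR
            rwa [hρx] at this
          -- the second conjugation
          have hR'W : E.IsConj R' W := isConj_trans E (isConj_symm E (hf.isConj hR')) hRW
          have hcard' : Nat.card R' = Nat.card R := hf.card_img hR'
          have hN' : normalizerIn T R' ∈ 𝓡 := by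
            refine h𝓡.up _ (h𝓡.inv R hR f R' hf hR') _ (sup_le hR'le ?_) inf_le_left
            exact (Subgroup.zpowers_le).2 (mem_norm_of_central hxT hxZ hR'T)
          have hR'ne : R' ≠ T := by
            rintro rfl
            apply hRe
            exact Subgroup.eq_of_le_of_card_ge hRT (by rw [hcard'])
          have hcl' : Nat.card R' < Nat.card (normalizerIn T R') :=
            Cfsg.Agent.Lib.FusionExt.SatCrit1.card_lt_of_lt (S := T) hR'le
              (ne_of_lt (lt_normalizerIn hT (lt_of_le_of_ne hR'T hR'ne))) inf_le_left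
          have hcN' : Nat.card (normalizerIn T R') ≤ Nat.card T := hcT inf_le_left
          obtain ⟨ρ', hρ', hρ'i, hρ'x⟩ := C1 R' W hN' (by omega) hW hR'W
          have hb := hSl W hW𝓡 hW hlt' (fun w => ρ' (f (g w)))
            (((hg.comp hgi.1 hf).comp (fun w hw => hR'.1 _ (hgi.1 w hw)) (hρ'.restrict hR'le)))
            (((hgi.comp hR').comp hρ'i))
          simp only [hgx] at hb
          refine hρ'.inj (hR'le (hR'.1 x hxR)) (mem_norm_of_central hxT hxZ hR'T) ?_
          rw [hb, hρ'x]
      · -- automorphisms of fully normalized `U`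
        intro U hU hfn hd f hf hfi
        refine hSt U hU hfn (fun a ha hai => ?_) f hf hfi
        have hUT := h𝓡.le U hU
        by_cases hNe : normalizerIn T U = T
        · rw [hNe] at ha hai
          exact hAnc a ha hai
        · have hR₁ := hn𝓡 U hU
          have hR₁T := h𝓡.le _ hR₁
          have hRlt : normalizerIn T U < T := lt_of_le_of_ne hR₁T hNe
          have hcl : Nat.card (normalizerIn T U) < Nat.card (normalizerIn T (normalizerIn T U)) :=
            Cfsg.Agent.Lib.FusionExt.SatCrit1.card_lt_of_lt (S := T) (le_normalizerIn hR₁T)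
              (ne_of_lt (lt_normalizerIn hT hRlt)) inf_le_left
          have hle : normalizerIn T (normalizerIn T U) ≤ normalizerIn T (Jt (normalizerIn T U)) :=
            fun t ht => norm_le_norm_Jt E le_rfl ht hR₁T
          have : Finite (normalizerIn T (Jt (normalizerIn T U))) := finite_of_le inf_le_left
          have hc2 : Nat.card (normalizerIn T (normalizerIn T U)) ≤ Nat.card (normalizerIn T (Jt (normalizerIn T U))) :=
            Subgroup.card_le_of_le hle
          have hcN : Nat.card (normalizerIn T (Jt (normalizerIn T U))) ≤ Nat.card T := hcT inf_le_left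
          exact C3 _ (h𝓡.jt _ hR₁) (by omega) a ha hai
  intro R hR f hf
  exact (main _).1 R hR rfl f hf

end gen

end Cfsg.Agent.Lib.FusionTheory.FixPts4
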