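import Cfsg.Agent.Lib.FusionTheory.FixPts4
import Cfsg.Agent.Lib.Fusion.FrobThompson

/-!
# Control of fixed points: central elements fixed at the Thompson subgroup (helper93)

For `p` odd: a central element of `T` fixed by all automorphisms of `J(T)` in a saturated
fusion system is fixed by all maps of the system.
-/

set_option autoImplicit false
set_option linter.unusedSectionVars false

namespace Cfsg.Agent.Lib.FusionTheory.FixPts5

open Cfsg Cfsg.FusionSystem Cfsg.Agent.Lib.Fusion.Basic Cfsg.Agent.Lib.Fusion.GroupSystem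
open Cfsg.Agent.Lib.FusionExt.MapApi Cfsg.Agent.Lib.FusionExt.LowPi Cfsg.Agent.Lib.FusionExt.Glue1
open Cfsg.Agent.Lib.FusionExt.PrimeRes1 Cfsg.Agent.Lib.Fusion.Saturation2 Cfsg.Agent.Lib.Fusion.Saturation
open Cfsg.Agent.Lib.FusionTheory.FixPts2 Cfsg.Agent.Lib.FusionTheory.FixPts3 Cfsg.Agent.Lib.FusionTheory.FixPts4
open Cfsg.Agent.Lib.Fusion.FrobThompson

universe u

variable {Ω : Type u} [Group Ω] {T O U B X Q : Subgroup Ω} {E : FusionSystem T} {p : ℕ} {f : Ω → Ω}

/-- Extension along a receptive target, to the join with a subgroup of the extender. -/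
theorem ext_sup (hQ : E.IsReceptive Q) (hf : Mp E X f) (hi : Img X f Q)
    (hB : ∀ y ∈ B, y ∈ T ∧ y ∈ Subgroup.normalizer (X : Set Ω) ∧ ∃ a ∈ T, ∀ x ∈ X, f (y * x * y⁻¹) = a * f x * a⁻¹) :
    ∃ g, Mp E (X ⊔ B) g ∧ ∀ x ∈ X, g x = f x := by
  have hf' := hf
  obtain ⟨φ, hφ, e⟩ := hf
  have hr : φ.range = Q := Mp.range_eq e hi
  have hT : X ⊔ B ≤ extender T X φ := by
    refine sup_le (fun y hy => ?_) (fun y hy => ?_)
    · have hN : y ∈ Subgroup.normalizer (X : Set Ω) := Subgroup.le_normalizer hy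
      refine mem_extender_of φ (hf'.le hy) hN (hf'.mem_S hy) (fun x => ?_)
      rw [e, e]
      exact hf'.map_conj hy x.2
    · obtain ⟨h1, h2, a, ha, h3⟩ := hB y hy
      refine mem_extender_of φ h1 h2 ha (fun x => ?_)
      rw [e, e]
      exact h3 x x.2
  obtain ⟨ψ, hψ, hext⟩ := IsReceptive.exists_extension E hQ hφ hr hT le_sup_left
  refine ⟨extOf ψ, mp_of_hom hψ, fun x hx => ?_⟩
  rw [extOf_of_mem ψ (Subgroup.mem_sup_left hx), ← e ⟨x, hx⟩]
  exact hext ⟨x, hx⟩

/-- Extension across a normal subgroup. -/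
theorem ext_normal (hO : E.IsNormal O) (hf : Mp E U f) :
    ∃ ψ, Mp E (U ⊔ O) ψ ∧ (∀ u ∈ U, ψ u = f u) ∧ Img O ψ O := by
  obtain ⟨φ, hφ, e⟩ := hf
  obtain ⟨ψ, hψ, h1, h2⟩ := hO.2 U φ hφ
  refine ⟨extOf ψ, mp_of_hom hψ, fun u hu => ?_, ?_, ?_⟩
  · rw [extOf_of_mem ψ (Subgroup.mem_sup_left hu), ← e ⟨u, hu⟩]
    exact h1 ⟨u, hu⟩
  · intro o ho
    rw [extOf_of_mem ψ (Subgroup.mem_sup_right ho)]
    exact h2.le ⟨⟨o, Subgroup.mem_sup_right ho⟩, ho, rfl⟩
  · intro o ho
    obtain ⟨y, hy, hye⟩ := (Subgroup.mem_map).1 ((show o ∈ O from ho) |> (h2.ge ·))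
    refine ⟨y, hy, ?_⟩
    rw [extOf_coe]
    exact hye

section main

variable [Fact p.Prime] [Finite T]

/-- The family of subgroups containing an abelian subgroup of maximal order outside `O`. -/
def Rr (T O : Subgroup Ω) : Set (Subgroup Ω) := {R | R ≤ T ∧ ∃ A, IsMaxAb T A ∧ A ≤ R ∧ ¬ A ≤ O}

theorem fm2 (hO : E.IsNormal O) {x : Ω} (hxT : x ∈ T) (hxZ : ∀ t ∈ T, t * x = x * t) {A₀ : Subgroup Ω}
    (hA₀ : IsMaxAb T A₀) (hA₀O : ¬ A₀ ≤ O) : Fm E x (Rr T O) where
  le := fun R hR => hR.1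
  mem := fun R hR => by
    obtain ⟨hRT, A, hA, hAR, -⟩ := hR
    exact hAR (hA.mem_of_central hxT hxZ)
  top := ⟨le_rfl, A₀, hA₀, hA₀.le, hA₀O⟩
  up := fun R hR R' h1 h2 => by
    obtain ⟨hRT, A, hA, hAR, hAO⟩ := hR
    exact ⟨h2, A, hA, hAR.trans h1, hAO⟩
  inv := fun R hR f R' hf hi => by
    obtain ⟨hRT, A, hA, hAR, hAO⟩ := hR
    have hR'T : R' ≤ T := hf.img_le hi
    have hAf : Mp E A f := hf.restrict hAR
    obtain ⟨A', hA'⟩ := hAf.exists_img
    have hA'R' : A' ≤ R' := by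
      intro y hy
      obtain ⟨a, ha, rfl⟩ := hA'.2 y hy
      exact hi.1 a (hAR ha)
    have hAR₁ : IsMaxAb R A := ⟨hAR, hA.ab, fun B hB hc => hA.max B (hB.trans hRT) hc⟩
    have hA'₁ : IsMaxAb R' A' := hAR₁.img hf hi hA'
    have hc : Nat.card A' = Nat.card A := hAf.card_img hA'
    refine ⟨sup_le hR'T ((Subgroup.zpowers_le).2 hxT), A', ⟨hA'R'.trans hR'T, hA'₁.ab, fun B hB hcB => ?_⟩, hA'R'.trans le_sup_left, ?_⟩
    · rw [hc]
      exact hA.max B hB hcB
    · intro hle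
      apply hAO
      intro a ha
      obtain ⟨k, hk, hk1, hk2, hk3⟩ := hAf.inverse hA'
      have hsc := Cfsg.Agent.Lib.FusionExt.Normal.isNormal_stronglyClosed E hO
      have hk' : Mp E (A' ⊓ O) k := hk.restrict inf_le_left
      have hm := hk'
      obtain ⟨ψ, hψ, e⟩ := hk'
      have h1 := hsc.2 (A' ⊓ O) inf_le_right ψ hψ ⟨f a, hA'.1 a ha, hle (hA'.1 a ha)⟩
      rw [e] at h1
      have h2 : k (f a) = a := hk1 a ha
      rw [show ((⟨f a, hA'.1 a ha, hle (hA'.1 a ha)⟩ : ↥(A' ⊓ O)) : Ω) = f a from rfl, h2] at h1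
      exact h1
  jt := fun R hR => by
    obtain ⟨hRT, A, hA, hAR, hAO⟩ := hR
    have hAR₁ : IsMaxAb R A := ⟨hAR, hA.ab, fun B hB hc => hA.max B (hB.trans hRT) hc⟩
    exact ⟨Jt_le.trans hRT, A, hA, hAR₁.le_J, hAO⟩

/-- The family of subgroups containing `x`. -/
theorem fm1 {x : Ω} (hxT : x ∈ T) (hxZ : ∀ t ∈ T, t * x = x * t) : Fm E x {R | R ≤ T ∧ x ∈ R} where
  le := fun R hR => hR.1
  mem := fun R hR => hR.2
  top := ⟨le_rfl, hxT⟩
  up := fun R hR R' h1 h2 => ⟨h2, h1 hR.2⟩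
  inv := fun R hR f R' hf hi => ⟨sup_le (hf.img_le hi) ((Subgroup.zpowers_le).2 hxT),
    Subgroup.mem_sup_right (Subgroup.mem_zpowers x)⟩
  jt := fun R hR => by
    obtain ⟨hRT, hxR⟩ := hR
    have : Finite R := finite_of_le hRT
    exact ⟨Jt_le.trans hRT, mem_J_of_central hxR (fun t ht => hxZ t (hRT ht))⟩

/-- The step for an element `ω` of the orbit commuting with `B`. -/
theorem uf_step (hT : IsPGroup p T) (hE : E.IsSaturated p) (hO : E.IsNormal O) {x : Ω} (hxO : x ∈ O)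
    (hxZ : ∀ t ∈ T, t * x = x * t) {B : Subgroup Ω} (hBT : B ≤ T)
    (T' : ∀ f, Mp E (O ⊔ B) f → f x = x)
    {g : MulAut O} (hg : g ∈ E.autGroup O) (hB : ∀ b ∈ B, b * autFun g x = autFun g x * b) : autFun g x = x := by
  classical
  have hOT : O ≤ T := hO.1
  haveI : Finite O := finite_of_le hOT
  haveI : Finite (MulAut O) := Cfsg.Agent.Lib.Fusion.Basic.finite_mulAut_of_finite (A := O)
  have hfn : E.IsFullyNormalized O := ⟨hOT, fun Q hQ => by
    rw [Cfsg.Agent.Lib.FusionExt.Constrained.isConj_eq_of_isNormal E hO hQ]⟩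
  obtain ⟨-, hsyl⟩ := isFullyAutomized_of_isFullyNormalized E hT hE hfn
  have hsyl' : IsSylowIn p (autInducedBy T O) (E.autGroup O) := hsyl
  have hleX : autInducedBy T O ≤ E.autGroup O := autInducedBy_le_autGroup E hOT
  have hOn : T ≤ Subgroup.normalizer (O : Set Ω) := by
    intro t ht
    haveI := finite_of_le hOT
    refine mem_normalizer_of_conj_le' (fun y hy => ?_)
    obtain ⟨ψ, hψ, e⟩ : Mp E O (fun z => t * z * t⁻¹) := Mp.conj hOT ht
    have := (Cfsg.Agent.Lib.FusionExt.Normal.isNormal_stronglyClosed E hO).2 O le_rfl ψ hψ ⟨y, hy⟩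
    rwa [e] at this
  -- the stabilizer
  let H : Subgroup (MulAut O) := E.autGroup O ⊓
    { carrier := {h | autFun h x = x}
      mul_mem' := fun {a b} ha hb => by
        show autFun (a * b) x = x
        rw [autFun_mul_apply]
        rw [show autFun b x = x from hb]
        exact ha
      one_mem' := autFun_one_apply x
      inv_mem' := fun {a} ha => by
        show autFun a⁻¹ x = x
        have : autFun a x = x := ha
        rw [← this]
        exact autFun_inv_apply a x |>.trans this.symm }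
  have hmemH : ∀ {h : MulAut O}, h ∈ H ↔ h ∈ E.autGroup O ∧ autFun h x = x := Iff.rfl
  have hTH : autInducedBy T O ≤ H := fun c hc => by
    refine hmemH.2 ⟨hleX hc, ?_⟩
    obtain ⟨t, ht, e⟩ := inT_iff.1 hc
    rw [e x hxO, hxZ t ht.1]
    group
  have hsylH : IsSylowIn p (autInducedBy T O) H := hsyl'.mono hleX hTH inf_le_left
  -- the conjugate of `Aut_B(O)`
  let C : Subgroup (MulAut O) := (autInducedBy B O).map (MulAut.conj g⁻¹).toMonoidHom
  have hCH : C ≤ H := by
    rintro _ ⟨c, hc, rfl⟩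
    obtain ⟨b, hb, e⟩ := inT_iff.1 hc
    have hcX : c ∈ E.autGroup O := hleX (autInducedBy_mono O hBT hc)
    have hval : (MulAut.conj g⁻¹).toMonoidHom c = g⁻¹ * c * g := by
      show g⁻¹ * c * (g⁻¹)⁻¹ = _
      rw [inv_inv]
    rw [hval]
    refine hmemH.2 ⟨(E.autGroup O).mul_mem ((E.autGroup O).mul_mem ((E.autGroup O).inv_mem hg) hcX) hg, ?_⟩
    rw [autFun_mul_apply, autFun_mul_apply]
    have hω : autFun g x ∈ O := autFun_mem g hxO
    rw [e _ hω]
    have e1 : b * autFun g x * b⁻¹ = autFun g x := by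
      rw [hB b hb.1]
      group
    rw [e1, autFun_inv_apply]
  have hCp : IsPGroup p C := by
    have hBp : IsPGroup p B := hT.to_le hBT
    exact (isPGroup_autInducedBy (P := O) hBp).map _
  obtain ⟨h, hhH, hconj⟩ := hsylH.exists_conj hCH hCp
  obtain ⟨hhX, hhx⟩ := hmemH.1 hhH
  -- the map `θ₀`
  let θ₀ : MulAut O := h * g⁻¹
  have hθX : θ₀ ∈ E.autGroup O := (E.autGroup O).mul_mem hhX ((E.autGroup O).inv_mem hg)
  have hθm : Mp E O (autFun θ₀) := mp_autFun hOT hθX
  have hr := isReceptive_of_isFullyNormalized E hT hE hfn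
  obtain ⟨θ, hθ, hθe⟩ := ext_sup hr hθm (img_autFun θ₀) (B := B) (fun y hy => by
    refine ⟨hBT hy, hOn (hBT hy), ?_⟩
    have hc : normAct O (hOn (hBT hy)) ∈ autInducedBy B O := normAct_mem_autInducedBy B O (hOn (hBT hy)) hy
    have hmem := hconj _ ⟨_, hc, rfl⟩
    obtain ⟨t, ht, e⟩ := inT_iff.1 hmem
    refine ⟨t, ht.1, fun z hz => ?_⟩
    have hval : (MulAut.conj g⁻¹).toMonoidHom (normAct O (hOn (hBT hy))) = g⁻¹ * normAct O (hOn (hBT hy)) * g := by
      show g⁻¹ * _ * (g⁻¹)⁻¹ = _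
      rw [inv_inv]
    have hz' : autFun θ₀ z ∈ O := autFun_mem θ₀ hz
    have h1 := e _ hz'
    rw [← h1, hval]
    show autFun (h * g⁻¹) (y * z * y⁻¹) = autFun (h * (g⁻¹ * normAct O (hOn (hBT hy)) * g) * h⁻¹) (autFun (h * g⁻¹) z)
    simp only [autFun_mul_apply]
    rw [autFun_inv_apply h, autFun_apply_inv g, normAct_fun (hOn (hBT hy)) hz])
  have hθx := T' θ hθ
  have h1 : autFun θ₀ x = x := by
    rw [← hθe x hxO]
    exact hθx
  have h2 : autFun θ₀ (autFun g x) = x := by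
    show autFun (h * g⁻¹) (autFun g x) = x
    rw [autFun_mul_apply, autFun_inv_apply, hhx]
  exact autFun_inj θ₀ (h2.trans h1.symm)

/-- The main step, given the induction hypotheses. -/
theorem step (hT : IsPGroup p T) (hE : E.IsSaturated p) (hp2 : p ≠ 2) {x : Ω} (hxT : x ∈ T)
    (hxZ : ∀ t ∈ T, t * x = x * t) (hAnc : ∀ f, Mp E (Jt T) f → Img (Jt T) f (Jt T) → f x = x)
    (IH : ∀ U, E.IsFullyNormalized U → x ∈ U → ¬ U ≤ E.core →
      (∀ f, Mp E (Jt (normalizerIn T U)) f → Img (Jt (normalizerIn T U)) f (Jt (normalizerIn T U)) → f x = x) →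
      ∀ f, Mp E U f → Img U f U → f x = x)
    (hpow : ∀ P f, Mp E P f → x ^ p ∈ P → f (x ^ p) = x ^ p) :
    ∀ P f, Mp E P f → x ∈ P → f x = x := by
  have hO : E.IsNormal E.core := Cfsg.Agent.S5145.result E
  have hOT : E.core ≤ T := hO.1
  have hOn : T ≤ Subgroup.normalizer (E.core : Set Ω) := by
    intro t ht
    haveI := finite_of_le hOT
    refine mem_normalizer_of_conj_le' (fun y hy => ?_)
    obtain ⟨ψ, hψ, e⟩ : Mp E E.core (fun z => t * z * t⁻¹) := Mp.conj hOT ht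
    have := (Cfsg.Agent.Lib.FusionExt.Normal.isNormal_stronglyClosed E hO).2 E.core le_rfl ψ hψ ⟨y, hy⟩
    rwa [e] at this
  -- the top claim
  have top : x ∈ E.core → ∀ g ∈ E.autGroup E.core, autFun g x = x := by
    intro hxO
    by_cases hJ : Jt T ≤ E.core
    · intro g hg
      have hm : Mp E E.core (autFun g) := mp_autFun hOT hg
      have hi : Img (Jt E.core) (autFun g) (Jt E.core) := Jt_img hm (img_autFun g)
      rw [Jt_eq_of_le hJ hOT] at hi
      exact hAnc _ (hm.restrict hJ) hi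
    · obtain ⟨A₀, hA₀, hA₀O⟩ : ∃ A, IsMaxAb T A ∧ ¬ A ≤ E.core := by
        by_contra hno
        push Not at hno
        exact hJ (sSup_le hno)
      have hfm := fm2 (E := E) hO hxT hxZ hA₀ hA₀O
      have T' := gen hT hE hxT hxZ hfm hAnc (fun U hU hfn hanc f hf hi => by
        obtain ⟨hUT, A, hA, hAU, hAO⟩ := hU
        exact IH U hfn (hAU (hA.mem_of_central hxT hxZ)) (fun hle => hAO (hAU.trans hle)) hanc f hf hi)
      have hfn : E.IsFullyNormalized E.core := ⟨hOT, fun Q hQ => by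
        rw [Cfsg.Agent.Lib.FusionExt.Constrained.isConj_eq_of_isNormal E hO hQ]⟩
      obtain ⟨-, hsyl⟩ := isFullyAutomized_of_isFullyNormalized E hT hE hfn
      refine trace_top hT hp2 hOT hOn (E.autGroup E.core) hsyl (autInducedBy_le_autGroup E hOT) hxO hxZ
        (fun g hg => hpow _ _ (mp_autFun hOT hg) (E.core.pow_mem hxO p)) hA₀ hA₀O ?_
      intro B hBT ⟨A, hA, hAle, hAO⟩ g hg hgB
      refine uf_step hT hE hO hxO hxZ hBT (fun f hf => ?_) hg hgB
      exact T' (E.core ⊔ B) ⟨sup_le hOT hBT, A, hA, hAle, hAO⟩ f hf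
  -- the final assembly
  intro P f hf hxP
  have hfm1 := fm1 (E := E) hxT hxZ
  refine gen hT hE hxT hxZ hfm1 hAnc (fun U hU hfn hanc a ha hi => ?_) P ⟨hf.le, hxP⟩ f hf
  by_cases hUO : U ≤ E.core
  · obtain ⟨ψ, hψ, hψe, hψi⟩ := ext_normal hO ha
    have hψ' : Mp E E.core ψ := hψ.restrict le_sup_right
    obtain ⟨c, hc, hce⟩ := hψ'.toAut hψi
    have hxO : x ∈ E.core := hUO hU.2
    rw [← hψe x hU.2, ← hce ⟨x, hxO⟩, ← autFun_of_mem c hxO]
    exact top hxO c hc
  · exact IH U hfn hU.2 hUO hanc a ha hi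

/-- **Control of central fixed points by the Thompson subgroup** for odd primes. -/
theorem main_aux (hp2 : p ≠ 2) (n : ℕ) : ∀ (T : Subgroup Ω) [Finite T] (E : FusionSystem T),
    2 * Nat.card T - Nat.card E.core = n → IsPGroup p T → E.IsSaturated p → ∀ x ∈ T, (∀ t ∈ T, t * x = x * t) →
    (∀ f, Mp E (Jt T) f → Img (Jt T) f (Jt T) → f x = x) → ∀ P f, Mp E P f → x ∈ P → f x = x := by
  induction n using Nat.strong_induction_on with
  | _ n ih =>
  intro T _ E hμ hT hE x hxT hxZ hAnc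
  -- Claim A
  have hA : ∀ {x : Ω}, x ∈ T → (∀ t ∈ T, t * x = x * t) → ∀ U, E.IsFullyNormalized U → x ∈ U → ¬ U ≤ E.core →
      (∀ f, Mp E (Jt (normalizerIn T U)) f → Img (Jt (normalizerIn T U)) f (Jt (normalizerIn T U)) → f x = x) →
      ∀ f, Mp E U f → Img U f U → f x = x := by
    intro x hxT hxZ U hfn hxU hUO hanc f hf hi
    have hUT : U ≤ T := hfn.1
    have hNT : normalizerIn T U ≤ T := inf_le_left
    haveI : Finite ↥(normalizerIn T U) := finite_of_le hNT
    have hNs : (Cfsg.FusionSystem.IsNormalizerSystem E U (Cfsg.Agent.Lib.FusionExt.Basic.normalizerSystem E U hUT)) := fun _ => rfl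
    have hNsat := Cfsg.Agent.Lib.Fusion.KSystem.isSaturated_normalizerSystem hT E hE hfn _ hNs
    have hcore : Nat.card (Cfsg.Agent.Lib.FusionExt.Basic.normalizerSystem E U hUT).core ≤ Nat.card ↥(normalizerIn T U) :=
      card_le_of_le_finite (Cfsg.Agent.S5145.result _).1
    have hcoreP : 0 < Nat.card (Cfsg.Agent.Lib.FusionExt.Basic.normalizerSystem E U hUT).core := by
      have := finite_of_le (Cfsg.Agent.S5145.result (Cfsg.Agent.Lib.FusionExt.Basic.normalizerSystem E U hUT)).1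
      exact Nat.card_pos
    have hO : E.IsNormal E.core := Cfsg.Agent.S5145.result E
    have hcO : Nat.card E.core ≤ Nat.card T := card_le_of_le_finite hO.1
    have hcT : 0 < Nat.card T := Nat.card_pos
    have hlt : 2 * Nat.card ↥(normalizerIn T U) - Nat.card (Cfsg.Agent.Lib.FusionExt.Basic.normalizerSystem E U hUT).core < n := by
      by_cases hNe : normalizerIn T U = T
      · have hSN : T ≤ Subgroup.normalizer (U : Set Ω) := inf_eq_left.1 hNe
        have hOE := isNormal_normalizerSystem hO hSN hNs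
        have hQE := Cfsg.Agent.Lib.Fusion.ModelNormalizer.normalizerSystem_isNormal E hUT hNs
        have hle1 := sup_le (Cfsg.Agent.Lib.FusionExt.Constrained.le_core _ hOE) (Cfsg.Agent.Lib.FusionExt.Constrained.le_core _ hQE)
        haveI hfE : Finite (Cfsg.Agent.Lib.FusionExt.Basic.normalizerSystem E U hUT).core := finite_of_le (Cfsg.Agent.S5145.result _).1
        have hc1 := Subgroup.card_le_of_le hle1
        have hc2 : Nat.card ↥(normalizerIn T U) = Nat.card T := by rw [hNe]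
        haveI : Finite ↥(E.core ⊔ U) := Finite.of_injective (Subgroup.inclusion hle1) (Subgroup.inclusion_injective _)
        have hc3 : Nat.card E.core < Nat.card ↥(E.core ⊔ U) :=
          Cfsg.Agent.Lib.FusionExt.SatCrit1.card_lt_of_lt (S := T) le_sup_left
            (fun e => hUO (e ▸ le_sup_right)) (sup_le hO.1 hUT)
        omega
      · have h5 := two_mul_card_le (lt_of_le_of_ne hNT hNe)
        omega
    have hxN : x ∈ normalizerIn T U := mem_norm_of_central hxT hxZ hUT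
    have hanc' : ∀ f, Mp (Cfsg.Agent.Lib.FusionExt.Basic.normalizerSystem E U hUT) (Jt (normalizerIn T U)) f →
        Img (Jt (normalizerIn T U)) f (Jt (normalizerIn T U)) → f x = x := fun f hf hi => hanc f (mp_of_norm hUT hf) hi
    have hfU : Mp (Cfsg.Agent.Lib.FusionExt.Basic.normalizerSystem E U hUT) U f :=
      mp_norm hUT hf le_rfl (le_normalizerIn hUT) (fun y hy => le_normalizerIn hUT (hi.1 y hy)) hi
    exact ih _ hlt (normalizerIn T U) _ rfl (hT.to_le hNT) hNsat x hxN (fun t ht => hxZ t ht.1) hanc' U f hfU hxU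
  -- inner induction on the order of `x`
  obtain ⟨k, hk⟩ := hT ⟨x, hxT⟩
  have hk' : x ^ p ^ k = 1 := by
    have := congrArg Subtype.val hk
    simpa using this
  clear hk hμ
  induction k generalizing x with
  | zero =>
    intro P f hf hxP
    have : x = 1 := by simpa using hk'
    rw [this]
    exact hf.map_one
  | succ k ihk =>
    have hcp : ∀ t ∈ T, t * x ^ p = x ^ p * t := fun t ht => by
      have h := (Commute.pow_right (show Commute t x from hxZ t ht) p)
      exact h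
    have hJx : x ∈ Jt T := mem_J_of_central hxT hxZ
    have hpow := ihk (x ^ p) (T.pow_mem hxT p) hcp (fun f hf hi => by
      rw [mp_pow hf hJx, hAnc f hf hi]) (by rw [← pow_mul, ← pow_succ']; exact hk')
    exact step hT hE hp2 hxT hxZ hAnc (hA hxT hxZ) (fun P f hf hxP => hpow P f hf hxP)

theorem main (hp2 : p ≠ 2) (hT : IsPGroup p T) (hE : E.IsSaturated p) {x : Ω} (hxT : x ∈ T)
    (hxZ : ∀ t ∈ T, t * x = x * t) (hAnc : ∀ f, Mp E (Jt T) f → Img (Jt T) f (Jt T) → f x = x) :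
    ∀ P f, Mp E P f → x ∈ P → f x = x :=
  main_aux hp2 _ T E rfl hT hE x hxT hxZ hAnc

end main

end Cfsg.Agent.Lib.FusionTheory.FixPts5
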