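import Cfsg.Agent.Lib.FusionTheory.FixPts5
import Cfsg.Agent.Lib.FusionExt.Meet7

/-!
# Adjoining an element of `C_S(T)` to a normal subsystem: the ambient system on `T⟨y⟩` (helper93)
-/

set_option autoImplicit false
set_option linter.unusedSectionVars false
set_option linter.style.haveILetI false

namespace Cfsg.Agent.Lib.FusionTheory.LiftY1

open Cfsg Cfsg.FusionSystem Cfsg.Agent.Lib.Fusion.Basic Cfsg.Agent.Lib.Fusion.GroupSystem
open Cfsg.Agent.Lib.FusionExt.MapApi Cfsg.Agent.Lib.FusionExt.PowerSys Cfsg.Agent.Lib.FusionExt.LowPi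
open Cfsg.Agent.Lib.FusionExt.PrimeRes1 Cfsg.Agent.Lib.Fusion.Saturation Cfsg.Agent.Lib.Fusion.Saturation2
open Cfsg.Agent.Lib.FusionExt.Glue1 Cfsg.Agent.Lib.FusionExt.Normal Cfsg.Agent.Lib.FusionExt.Invariant

universe u

variable {Ω : Type u} [Group Ω] {S T : Subgroup Ω} {F : FusionSystem S} {E : FusionSystem T} {y : Ω} {p : ℕ}
variable {X Y W P Q U : Subgroup Ω} {f g h : Ω → Ω}

/-- `T⟨y⟩`. -/
def Tt (T : Subgroup Ω) (y : Ω) : Subgroup Ω := T ⊔ Subgroup.zpowers y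

/-- The setting. -/
structure Ctx (F : FusionSystem S) (E : FusionSystem T) (y : Ω) (p : ℕ) : Prop where
  hS : IsPGroup p S
  hN : E.IsNormalIn F p
  hy : y ∈ centralizerIn S T

/-- `R` and its `F`-conjugates contain their centralizers in `T`. -/
def Hc (F : FusionSystem S) (T R : Subgroup Ω) : Prop := ∀ Q, F.IsConj R Q → zz T Q ≤ Q

theorem le_Tt : T ≤ Tt T y := le_sup_left

theorem y_mem_Tt : y ∈ Tt T y := Subgroup.mem_sup_right (Subgroup.mem_zpowers y)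

namespace Ctx

variable (C : Ctx F E y p)
include C

theorem hF : F.IsSaturated p := C.hN.1.2.1
theorem hEs : E.IsSaturated p := C.hN.1.1
theorem hsub : E.IsSubsystemOf F := C.hN.1.2.2.1
theorem hT : F.StronglyClosed T := C.hN.1.2.2.2.1
theorem hTS : T ≤ S := C.hT.1
theorem hyS : y ∈ S := (mem_cent.1 C.hy).1
theorem hSI : StrongInv F E := strong_of_inv C.hN.1.2.2.2.2.1 C.hN.1.2.2.2.2.2
theorem hFr : ∀ (P : Subgroup Ω), P ≤ T → ∀ (φ : P →* Ω), φ ∈ F.Hom P →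
      ∃ α ∈ F.autGroup T, ∃ φ₀ ∈ E.Hom P, ∀ (x : P) (hx : φ₀ x ∈ T), φ x = ((α ⟨φ₀ x, hx⟩ : T) : Ω) := C.hN.1.2.2.2.2.2
theorem comm {t : Ω} (ht : t ∈ T) : t * y = y * t := (mem_cent.1 C.hy).2 t ht
theorem comm' {t : Ω} (ht : t ∈ T) {k : ℤ} : t * y ^ k = y ^ k * t :=
  (show Commute t y from C.comm ht).zpow_right k
theorem TtS : Tt T y ≤ S := sup_le C.hTS ((Subgroup.zpowers_le).2 C.hyS)
theorem hTp : IsPGroup p T := C.hS.to_le C.hTS
theorem hT₁p : IsPGroup p (Tt T y) := C.hS.to_le C.TtS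

theorem mem_Tt {x : Ω} : x ∈ Tt T y ↔ ∃ t ∈ T, ∃ k : ℤ, x = t * y ^ k := by
  constructor
  · intro hx
    have hn : Subgroup.zpowers y ≤ Subgroup.normalizer (T : Set Ω) :=
      (Subgroup.zpowers_le).2 ((Subgroup.centralizer_le_normalizer (T : Set Ω)) (Subgroup.mem_centralizer_iff.2 (fun t ht => C.comm ht)))
    have hx' : x ∈ Subgroup.zpowers y ⊔ T := by
      rw [sup_comm]
      exact hx
    obtain ⟨a, ⟨k, rfl⟩, t, ht, rfl⟩ := exists_mul_of_mem_sup' hn hx'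
    exact ⟨t, ht, k, (C.comm' ht).symm⟩
  · rintro ⟨t, ht, k, rfl⟩
    exact Subgroup.mul_mem _ (le_Tt ht) (Subgroup.zpow_mem _ y_mem_Tt k)

/-- `y` is central in `T⟨y⟩`. -/
theorem central {x : Ω} (hx : x ∈ Tt T y) : x * y = y * x := by
  obtain ⟨t, ht, k, rfl⟩ := C.mem_Tt.1 hx
  calc t * y ^ k * y = t * (y * y ^ k) := by rw [mul_assoc, ← zpow_add_one, ← zpow_one_add, add_comm]
    _ = (t * y) * y ^ k := by group
    _ = y * (t * y ^ k) := by rw [C.comm ht]; group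

theorem central_zpow {x : Ω} (hx : x ∈ Tt T y) {k : ℤ} : x * y ^ k = y ^ k * x :=
  (show Commute x y from C.central hx).zpow_right k

/-- Commutators of `T⟨y⟩` lie in `T`. -/
theorem comm_mem {x a : Ω} (hx : x ∈ Tt T y) (ha : a ∈ Tt T y) : x⁻¹ * (a * x * a⁻¹) ∈ T := by
  obtain ⟨t, ht, k, rfl⟩ := C.mem_Tt.1 hx
  obtain ⟨s, hs, j, rfl⟩ := C.mem_Tt.1 ha
  have hc1 := C.central_zpow (k := k) (Subgroup.mem_sup_left hs : s ∈ Tt T y)
  have hc2 := C.central_zpow (k := k) (Subgroup.mem_sup_left ht : t ∈ Tt T y)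
  have hc3 : y ^ j * y ^ k = y ^ k * y ^ j := by rw [← zpow_add, ← zpow_add, add_comm]
  have hc4 := C.comm' (k := j) hs
  have hc5 := C.comm' (k := j) ht
  have e : (t * y ^ k)⁻¹ * (s * y ^ j * (t * y ^ k) * (s * y ^ j)⁻¹) = t⁻¹ * (s * t * s⁻¹) := by
    have e1 : s * y ^ j * (t * y ^ k) * (s * y ^ j)⁻¹ = (s * t * s⁻¹) * y ^ k := by
      calc s * y ^ j * (t * y ^ k) * (s * y ^ j)⁻¹ = s * (y ^ j * t) * y ^ k * y ^ (-j) * s⁻¹ := by
            simp only [mul_inv_rev, zpow_neg]; group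
        _ = s * (t * y ^ j) * y ^ k * y ^ (-j) * s⁻¹ := by rw [hc5]
        _ = s * t * (y ^ j * y ^ k) * y ^ (-j) * s⁻¹ := by group
        _ = s * t * (y ^ k * y ^ j) * y ^ (-j) * s⁻¹ := by rw [hc3]
        _ = s * t * y ^ k * s⁻¹ := by group
        _ = s * (t * y ^ k) * s⁻¹ := by group
        _ = (s * t * s⁻¹) * (s * y ^ k * s⁻¹) := by group
        _ = (s * t * s⁻¹) * y ^ k := by rw [hc1]; group
    rw [e1]
    have hw : t⁻¹ * (s * t * s⁻¹) ∈ T := T.mul_mem (T.inv_mem ht) (T.mul_mem (T.mul_mem hs ht) (T.inv_mem hs))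
    have hc6 := C.comm' (k := k) hw
    calc (t * y ^ k)⁻¹ * (s * t * s⁻¹ * y ^ k) = y ^ (-k) * ((t⁻¹ * (s * t * s⁻¹)) * y ^ k) := by
          simp only [mul_inv_rev, zpow_neg]; group
      _ = y ^ (-k) * (y ^ k * (t⁻¹ * (s * t * s⁻¹))) := by rw [hc6]
      _ = _ := by group
  rw [e]
  exact T.mul_mem (T.inv_mem ht) (T.mul_mem (T.mul_mem hs ht) (T.inv_mem hs))

end Ctx

/-- The maps of the ambient system on `T⟨y⟩`. -/
structure P1 (F : FusionSystem S) (E : FusionSystem T) (y : Ω) (X : Subgroup Ω) (f : Ω → Ω) : Prop where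
  le : X ≤ Tt T y
  mp : Mp F X f
  mt : ∀ x ∈ X, x⁻¹ * f x ∈ T
  me : Mp E (X ⊓ T) f

namespace P1

theorem congr (h : P1 F E y X f) (e : ∀ x ∈ X, f x = g x) : P1 F E y X g :=
  ⟨h.le, h.mp.congr e, fun x hx => by rw [← e x hx]; exact h.mt x hx, h.me.congr (fun x hx => e x hx.1)⟩

theorem restrict (h : P1 F E y X f) (hY : Y ≤ X) : P1 F E y Y f :=
  ⟨hY.trans h.le, h.mp.restrict hY, fun x hx => h.mt x (hY hx), h.me.restrict (inf_le_inf_right _ hY)⟩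

theorem mem_T (h : P1 F E y X f) {x : Ω} (hx : x ∈ X) (hxT : x ∈ T) : f x ∈ T := by
  have e : f x = x * (x⁻¹ * f x) := by group
  rw [e]
  exact T.mul_mem hxT (h.mt x hx)

theorem of_mem_T (h : P1 F E y X f) {x : Ω} (hx : x ∈ X) (hxT : f x ∈ T) : x ∈ T := by
  have e : x = f x * (x⁻¹ * f x)⁻¹ := by group
  rw [e]
  exact T.mul_mem hxT (T.inv_mem (h.mt x hx))

theorem img_inf (h : P1 F E y X f) (hi : Img X f Y) : Img (X ⊓ T) f (Y ⊓ T) := by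
  refine ⟨fun x hx => ⟨hi.1 x hx.1, h.mem_T hx.1 hx.2⟩, fun z hz => ?_⟩
  obtain ⟨x, hx, rfl⟩ := hi.2 z hz.1
  exact ⟨x, ⟨hx, h.of_mem_T hx hz.2⟩, rfl⟩

theorem comp (h : P1 F E y X f) (hm : ∀ x ∈ X, f x ∈ Y) (h' : P1 F E y Y g) : P1 F E y X (fun x => g (f x)) := by
  refine ⟨h.le, h.mp.comp hm h'.mp, fun x hx => ?_, h.me.comp (Y := Y ⊓ T) (fun x hx => ⟨hm x hx.1, h.mem_T hx.1 hx.2⟩) h'.me⟩
  have e : x⁻¹ * g (f x) = (x⁻¹ * f x) * ((f x)⁻¹ * g (f x)) := by group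
  rw [e]
  exact T.mul_mem (h.mt x hx) (h'.mt _ (hm x hx))

theorem inv (C : Ctx F E y p) (h : P1 F E y X f) (hi : Img X f Y) :
    ∃ k, P1 F E y Y k ∧ (∀ x ∈ X, k (f x) = x) ∧ (∀ z ∈ Y, f (k z) = z) ∧ Img Y k X := by
  obtain ⟨k, hk, k1, k2, k3⟩ := h.mp.inverse hi
  obtain ⟨l, hl, l1, l2, l3⟩ := h.me.inverse (h.img_inf hi)
  have hfm : ∀ x ∈ X, f x ∈ Tt T y := fun x hx => by
    have e : f x = x * (x⁻¹ * f x) := by group
    rw [e]
    exact Subgroup.mul_mem _ (h.le hx) (le_Tt (h.mt x hx))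
  refine ⟨k, ⟨fun z hz => ?_, hk, fun z hz => ?_, hl.congr (fun z hz => ?_)⟩, k1, k2, k3⟩
  · obtain ⟨x, hx, rfl⟩ := hi.2 z hz
    exact hfm x hx
  · obtain ⟨x, hx, rfl⟩ := hi.2 z hz
    rw [k1 x hx]
    have e : (f x)⁻¹ * x = (x⁻¹ * f x)⁻¹ := by group
    rw [e]
    exact T.inv_mem (h.mt x hx)
  · obtain ⟨x, hx, rfl⟩ := (h.img_inf hi).2 z hz
    rw [l1 x hx, k1 x hx.1]

end P1

/-- The axioms of a fusion system for `P1`. -/
theorem ax (C : Ctx F E y p) : SysAx (Tt T y) (P1 F E y) where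
  congr h e := h.congr e
  le h := h.le
  mem {X f x} h hx := by
    have e : f x = x * (x⁻¹ * f x) := by group
    rw [e]
    exact Subgroup.mul_mem _ (h.le hx) (le_Tt (h.mt x hx))
  mul h hx hy := h.mp.map_mul hx hy
  inj h hx hy e := h.mp.inj hx hy e
  conj {X a} hX ha := by
    refine ⟨hX, Mp.conj (hX.trans C.TtS) (C.TtS ha), fun x hx => C.comm_mem (hX hx) ha, ?_⟩
    obtain ⟨s, hs, j, rfl⟩ := C.mem_Tt.1 ha
    refine (Mp.conj (inf_le_right : X ⊓ T ≤ T) hs).congr (fun x hx => ?_)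
    have hc := C.comm' (k := j) hx.2
    calc s * x * s⁻¹ = s * (x * y ^ j) * y ^ (-j) * s⁻¹ := by group
      _ = s * (y ^ j * x) * y ^ (-j) * s⁻¹ := by rw [hc]
      _ = s * y ^ j * x * (s * y ^ j)⁻¹ := by simp only [mul_inv_rev, zpow_neg]; group
  comp h hm h' := h.comp hm h'
  inv h hi := by
    obtain ⟨k, hk, k1, -⟩ := h.inv C hi
    exact ⟨k, hk, k1⟩

/-- The ambient system on `T⟨y⟩`. -/
noncomputable def F₁ (C : Ctx F E y p) : FusionSystem (Tt T y) := mkSys (ax C)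

theorem mp_F₁ {C : Ctx F E y p} : Mp (F₁ C) X f ↔ P1 F E y X f := mp_mkSys (ax C)

theorem sc_top {G : FusionSystem S} : G.StronglyClosed S := ⟨le_rfl, fun _ _ _ hφ x => val_mem G hφ x⟩

namespace Ctx

variable (C : Ctx F E y p)
include C

theorem finite_T [Finite S] : Finite (Tt T y) := finite_of_le C.TtS

theorem y_mem (hU : Uc (F₁ C) (Tt T y) U) : y ∈ U :=
  hU.self le_rfl (mem_zz.2 ⟨y_mem_Tt, fun z hz => C.central (hU.1 hz)⟩)

/-- Decomposition of an element over `T`. -/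
theorem exists_dec (hU : U ≤ Tt T y) (hy : y ∈ U) {x : Ω} (hx : x ∈ U) : ∃ t ∈ U ⊓ T, ∃ k : ℤ, x = t * y ^ k := by
  obtain ⟨t, ht, k, rfl⟩ := C.mem_Tt.1 (hU hx)
  refine ⟨t, ⟨?_, ht⟩, k, rfl⟩
  have := U.mul_mem hx (U.zpow_mem hy (-k))
  simpa using this

/-- A map on `U ∋ y` that is known on `U ⊓ T` and at `y`. -/
theorem mt_of (hU : U ≤ Tt T y) (hy : y ∈ U) (hf : Mp F U f) (h1 : ∀ x ∈ U ⊓ T, x⁻¹ * f x ∈ T)
    (h2 : y⁻¹ * f y ∈ T) : ∀ x ∈ U, x⁻¹ * f x ∈ T := by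
  intro x hx
  obtain ⟨t, ht, k, rfl⟩ := C.exists_dec hU hy hx
  have hyk := U.zpow_mem hy k
  rw [hf.map_mul ht.1 hyk]
  have e1 : f (y ^ k) = y ^ k * (y⁻¹ * f y) ^ k := by
    rw [Cfsg.Agent.Lib.FusionExt.CentE.mp_zpow hf hy k]
    have hc : Commute y (y⁻¹ * f y) := (C.comm h2).symm
    have := hc.mul_zpow k
    rw [← this]
    group
  rw [e1]
  have e2 : (t * y ^ k)⁻¹ * (f t * (y ^ k * (y⁻¹ * f y) ^ k)) = y ^ (-k) * (t⁻¹ * f t) * y ^ k * (y⁻¹ * f y) ^ k := by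
    group
  rw [e2]
  have h4 := h1 t ht
  have e3 : y ^ (-k) * (t⁻¹ * f t) * y ^ k = t⁻¹ * f t := by
    rw [mul_assoc, C.comm' h4]
    group
  rw [e3]
  exact T.mul_mem h4 (T.zpow_mem h2 k)

/-- `Hc` gives the centric property in the ambient system. -/
theorem uc_of_hc (hU : U ≤ Tt T y) (hy : y ∈ U) (hc : Hc F T (U ⊓ T)) : Uc (F₁ C) (Tt T y) U := by
  refine ⟨hU, fun Q hQ => ?_⟩
  obtain ⟨ψ, hψ, hr⟩ := id hQ
  have hP : P1 F E y U (extOf ψ) := mp_F₁.1 (mp_of_hom hψ)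
  have hi : Img U (extOf ψ) Q := Cfsg.Agent.Lib.FusionExt.CentE.img_of_range hr
  have hQT : Q ≤ Tt T y := hP.mp.img_le hi |> fun _ => by
    intro z hz
    obtain ⟨x, hx, rfl⟩ := hi.2 z hz
    have e : extOf ψ x = x * (x⁻¹ * extOf ψ x) := by group
    rw [e]
    exact Subgroup.mul_mem _ (hU hx) (le_Tt (hP.mt x hx))
  set ρ := extOf ψ with hρ
  have hi0 := hP.img_inf hi
  have hcz : zz T (Q ⊓ T) ≤ Q ⊓ T := hc _ ((hP.mp.restrict inf_le_left).isConj hi0)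
  have hu : y⁻¹ * ρ y ∈ zz T (Q ⊓ T) := by
    refine mem_zz.2 ⟨hP.mt y hy, fun q hq => ?_⟩
    obtain ⟨r, hr', rfl⟩ := hi0.2 q hq
    have h1 : ρ (r * y) = ρ (y * r) := by rw [C.comm hr'.2]
    rw [hP.mp.map_mul hr'.1 hy, hP.mp.map_mul hy hr'.1] at h1
    have hcq := C.comm hq.2
    calc ρ r * (y⁻¹ * ρ y) = y⁻¹ * (y * ρ r) * (y⁻¹ * ρ y) := by group
      _ = y⁻¹ * (ρ r * y) * (y⁻¹ * ρ y) := by rw [hcq]
      _ = y⁻¹ * (ρ r * ρ y) := by group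
      _ = y⁻¹ * (ρ y * ρ r) := by rw [h1]
      _ = y⁻¹ * ρ y * ρ r := by group
  have hyQ : y ∈ Q := by
    have e : y = ρ y * (y⁻¹ * ρ y)⁻¹ := by group
    rw [e]
    exact Q.mul_mem (hi.1 y hy) (Q.inv_mem (hcz hu).1)
  intro z hz
  obtain ⟨hzT, hzc⟩ := mem_zz.1 hz
  obtain ⟨t, ht, k, rfl⟩ := C.mem_Tt.1 hzT
  have htz : t ∈ zz T (Q ⊓ T) := by
    refine mem_zz.2 ⟨ht, fun q hq => ?_⟩
    have h1 := hzc q hq.1
    have h2 := C.central_zpow (k := k) (hQT hq.1)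
    calc q * t = (q * (t * y ^ k)) * y ^ (-k) := by group
      _ = t * y ^ k * q * y ^ (-k) := by rw [h1]
      _ = t * (y ^ k * q) * y ^ (-k) := by group
      _ = t * (q * y ^ k) * y ^ (-k) := by rw [h2]
      _ = t * q := by group
  exact Q.mul_mem (hcz htz).1 (Q.zpow_mem hyQ k)

/-- The image of `Uc`. -/
theorem uc_img (hU : Uc (F₁ C) (Tt T y) U) (hf : P1 F E y U f) (hi : Img U f Q) : Uc (F₁ C) (Tt T y) Q :=
  hU.conj sc_top (mp_F₁.2 hf) hi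

end Ctx

end Cfsg.Agent.Lib.FusionTheory.LiftY1
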