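import Cfsg.Agent.Lib.FusionTheory.LiftY1

/-!
# Adjoining an element of `C_S(T)`: lifting maps of `E` (helper93)
-/

set_option autoImplicit false
set_option linter.unusedSectionVars false
set_option linter.style.haveILetI false

namespace Cfsg.Agent.Lib.FusionTheory.LiftY2

open Cfsg Cfsg.FusionSystem Cfsg.Agent.Lib.Fusion.Basic Cfsg.Agent.Lib.Fusion.GroupSystem
open Cfsg.Agent.Lib.FusionExt.MapApi Cfsg.Agent.Lib.FusionExt.PowerSys Cfsg.Agent.Lib.FusionExt.LowPi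
open Cfsg.Agent.Lib.FusionExt.PrimeRes1 Cfsg.Agent.Lib.Fusion.Saturation Cfsg.Agent.Lib.Fusion.Saturation2
open Cfsg.Agent.Lib.FusionExt.Glue1 Cfsg.Agent.Lib.FusionExt.Normal Cfsg.Agent.Lib.FusionExt.Invariant
open Cfsg.Agent.Lib.FusionTheory.LiftY1

universe u

variable {Ω : Type u} [Group Ω] {S T : Subgroup Ω} {F : FusionSystem S} {E : FusionSystem T} {y : Ω} {p : ℕ}
variable {X Y W W' P Q R U : Subgroup Ω} {f g h : Ω → Ω}

/-- The data for lifting maps of `E` to subgroups containing `y`. -/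
structure LiftCl (C : Ctx F E y p) (G : Subgroup Ω → (Ω → Ω) → Prop) (𝒲 : Subgroup Ω → Prop) : Prop where
  p1 : ∀ {W g}, G W g → P1 F E y W g
  congr : ∀ {W f g}, G W f → (∀ x ∈ W, f x = g x) → G W g
  restrict : ∀ {W W' g}, G W g → W' ≤ W → G W' g
  comp : ∀ {W W' f g}, G W f → (∀ x ∈ W, f x ∈ W') → G W' g → G W (fun x => g (f x))
  hy : ∀ {W}, 𝒲 W → y ∈ W
  le : ∀ {W}, 𝒲 W → W ≤ Tt T y
  up : ∀ {W W'}, 𝒲 W → W ≤ W' → W' ≤ Tt T y → 𝒲 W'
  conj : ∀ {W W' g}, 𝒲 W → G W g → Img W g W' → 𝒲 W'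
  base : ∀ {Q}, (Q = T ∨ E.IsEssential p Q) → ∀ α ∈ E.autGroup Q, ∀ W, 𝒲 W → W ⊓ T = Q →
    ∃ g, G W g ∧ ∀ x ∈ Q, g x = autFun α x

section

variable (C : Ctx F E y p)
include C

/-- The join of a subgroup containing `y` with a subgroup of `T` containing its part in `T`. -/
theorem over_sup (hW : W ≤ Tt T y) (hy : y ∈ W) (hP : P ≤ T) (hle : W ⊓ T ≤ P) : (W ⊔ P) ⊓ T = P := by
  apply le_antisymm
  · rintro x ⟨hx, hxT⟩
    have hle2 : W ⊔ P ≤ P ⊔ Subgroup.zpowers y := by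
      refine sup_le (fun w hw => ?_) le_sup_left
      obtain ⟨t, ht, k, rfl⟩ := C.exists_dec hW hy hw
      exact Subgroup.mul_mem _ (Subgroup.mem_sup_left (hle ht)) (Subgroup.mem_sup_right (Subgroup.zpow_mem _ (Subgroup.mem_zpowers y) k))
    have hn : Subgroup.zpowers y ≤ Subgroup.normalizer (P : Set Ω) := by
      refine (Subgroup.zpowers_le).2 ((Subgroup.centralizer_le_normalizer (P : Set Ω)) (Subgroup.mem_centralizer_iff.2 (fun t ht => C.comm (hP ht))))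
    have hx' : x ∈ Subgroup.zpowers y ⊔ P := by
      rw [sup_comm]
      exact hle2 hx
    obtain ⟨a, ⟨k, rfl⟩, t, ht, rfl⟩ := exists_mul_of_mem_sup' hn hx'
    have hyk : y ^ k ∈ T := by
      have := T.mul_mem hxT (T.inv_mem (hP ht))
      simpa using this
    have := hle ⟨W.zpow_mem hy k, hyk⟩
    exact P.mul_mem this ht
  · exact fun x hx => ⟨Subgroup.mem_sup_right hx, hP hx⟩

/-- The Frattini-type equality for subgroups over `Q`. -/
theorem le_sup_of_over (hW : W ≤ Tt T y) (hy : y ∈ W) : W = (W ⊓ T) ⊔ Subgroup.zpowers y := by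
  apply le_antisymm
  · intro w hw
    obtain ⟨t, ht, k, rfl⟩ := C.exists_dec hW hy hw
    exact Subgroup.mul_mem _ (Subgroup.mem_sup_left ht) (Subgroup.mem_sup_right (Subgroup.zpow_mem _ (Subgroup.mem_zpowers y) k))
  · exact sup_le inf_le_left ((Subgroup.zpowers_le).2 hy)

/-- Elements of `T` centralizing `W ⊓ T` centralize `W`. -/
theorem comm_of_over (hW : W ≤ Tt T y) (hy : y ∈ W) {z : Ω} (hz : z ∈ zz T (W ⊓ T)) {w : Ω} (hw : w ∈ W) : w * z = z * w := by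
  obtain ⟨t, ht, k, rfl⟩ := C.exists_dec hW hy hw
  have h1 := (mem_zz.1 hz).2 t ht
  have h2 := C.comm' (k := k) (mem_zz.1 hz).1
  calc t * y ^ k * z = t * (y ^ k * z) := by group
    _ = t * (z * y ^ k) := by rw [h2]
    _ = (t * z) * y ^ k := by group
    _ = (z * t) * y ^ k := by rw [h1]
    _ = z * (t * y ^ k) := by group

end

theorem range_autHom {Q : Subgroup Ω} (α : MulAut Q) : (autHom α).range = Q := by
  ext x
  constructor
  · rintro ⟨a, rfl⟩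
    exact (α a).2
  · intro hx
    refine ⟨α.symm ⟨x, hx⟩, ?_⟩
    show ((α (α.symm ⟨x, hx⟩) : Q) : Ω) = x
    simp

theorem range_isoHom {A B : Subgroup Ω} (e : A ≃* B) : (isoHom e).range = B := by
  ext x
  constructor
  · rintro ⟨a, rfl⟩
    exact (e a).2
  · intro hx
    refine ⟨e.symm ⟨x, hx⟩, ?_⟩
    show ((e (e.symm ⟨x, hx⟩) : B) : Ω) = x
    simp

/-- **Lifting maps of `E`.** -/
theorem lift_all [Finite S] [Fact p.Prime] (C : Ctx F E y p) {G : Subgroup Ω → (Ω → Ω) → Prop} {𝒲 : Subgroup Ω → Prop} (L : LiftCl C G 𝒲)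
    (P : Subgroup Ω) (φ : P →* Ω) (hφ : φ ∈ E.Hom P) :
    (∀ W, 𝒲 W → W ⊓ T = P → ∃ g, G W g ∧ ∀ x : P, g x = φ x) ∧
    (∀ W, 𝒲 W → W ⊓ T = φ.range → ∃ g, G W g ∧ ∀ x : P, g (φ x) = x) := by
  haveI : Finite T := finite_of_le C.hTS
  refine Cfsg.Agent.Lib.Fusion.Alperin.alperin_induction E C.hTp C.hEs
    (fun P φ => (∀ W, 𝒲 W → W ⊓ T = P → ∃ g, G W g ∧ ∀ x : P, g x = φ x) ∧
      (∀ W, 𝒲 W → W ⊓ T = φ.range → ∃ g, G W g ∧ ∀ x : P, g (φ x) = x)) ?_ ?_ ?_ ?_ P φ hφ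
  · intro Q hQ α hα
    refine ⟨fun W hW he => ?_, fun W hW he => ?_⟩
    · obtain ⟨g, hg, e⟩ := L.base hQ α hα W hW he
      exact ⟨g, hg, fun x => (e x x.2).trans (autFun_coe α x)⟩
    · rw [range_autHom] at he
      obtain ⟨g, hg, e⟩ := L.base hQ α⁻¹ (Subgroup.inv_mem _ hα) W hW he
      refine ⟨g, hg, fun x => ?_⟩
      have h1 : autHom α x = autFun α x := (autFun_coe α x).symm
      rw [h1, e _ (autFun_mem α x.2), autFun_inv_apply]
  · intro P₁ Q₁ hle φ₁ hφ₁ ⟨h1, h2⟩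
    have hP₁T : P₁ ≤ T := (le_of_mem E hφ₁)
    refine ⟨fun W hW he => ?_, fun W hW he => ?_⟩
    · have hsup := over_sup C (L.le hW) (L.hy hW) hP₁T (by rw [he]; exact hle)
      obtain ⟨g, hg, e⟩ := h1 _ (L.up hW le_sup_left (sup_le (L.le hW) (hP₁T.trans le_Tt))) hsup
      exact ⟨g, L.restrict hg le_sup_left, fun x => e ⟨x, hle x.2⟩⟩
    · have hrT : φ₁.range ≤ T := by
        rintro _ ⟨x, rfl⟩
        exact val_mem E hφ₁ x
      have hleR : (φ₁.comp (Subgroup.inclusion hle)).range ≤ φ₁.range := by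
        rintro _ ⟨x, rfl⟩
        exact ⟨_, rfl⟩
      have hsup := over_sup C (L.le hW) (L.hy hW) hrT (by rw [he]; exact hleR)
      obtain ⟨g, hg, e⟩ := h2 _ (L.up hW le_sup_left (sup_le (L.le hW) (hrT.trans le_Tt))) hsup
      exact ⟨g, L.restrict hg le_sup_left, fun x => e ⟨x, hle x.2⟩⟩
  · intro A B D e e' he he' ⟨h1, h2⟩ ⟨h3, h4⟩
    have heval : ∀ x : A, isoHom e x = ((e x : B) : Ω) := fun _ => rfl
    have heval' : ∀ x : B, isoHom e' x = ((e' x : D) : Ω) := fun _ => rfl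
    refine ⟨fun W hW hWe => ?_, fun W hW hWe => ?_⟩
    · obtain ⟨g, hg, eg⟩ := h1 W hW hWe
      have hP := L.p1 hg
      obtain ⟨W₁, hW₁⟩ := hP.mp.exists_img
      have hi0 := hP.img_inf hW₁
      have hW₁e : W₁ ⊓ T = B := by
        rw [hWe] at hi0
        refine hi0.unique ⟨fun x hx => ?_, fun z hz => ?_⟩
        · rw [eg ⟨x, hx⟩, heval]
          exact (e _).2
        · refine ⟨_, (e.symm ⟨z, hz⟩).2, ?_⟩
          rw [eg, heval]
          simp
      obtain ⟨g', hg', eg'⟩ := h3 W₁ (L.conj hW hg hW₁) hW₁e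
      refine ⟨_, L.comp hg hW₁.1 hg', fun x => ?_⟩
      show g' (g x) = _
      rw [eg x, heval]
      exact eg' (e x)
    · rw [range_isoHom] at hWe
      obtain ⟨k', hk', ek'⟩ := h4 W hW (by rw [range_isoHom, hWe])
      have hP := L.p1 hk'
      obtain ⟨W₁, hW₁⟩ := hP.mp.exists_img
      have hi0 := hP.img_inf hW₁
      have key : ∀ z (hz : z ∈ D), k' z = ((e'.symm ⟨z, hz⟩ : B) : Ω) := by
        intro z hz
        have := ek' (e'.symm ⟨z, hz⟩)
        rw [heval'] at this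
        simpa using this
      have hW₁e : W₁ ⊓ T = B := by
        rw [hWe] at hi0
        refine hi0.unique ⟨fun z hz => ?_, fun z hz => ?_⟩
        · rw [key z hz]
          exact (e'.symm _).2
        · refine ⟨_, (e' ⟨z, hz⟩).2, ?_⟩
          have := ek' ⟨z, hz⟩
          rwa [heval'] at this
      obtain ⟨k, hk, ek⟩ := h2 W₁ (L.conj hW hk' hW₁) (by rw [range_isoHom]; exact hW₁e)
      refine ⟨_, L.comp hk' hW₁.1 hk, fun x => ?_⟩
      show k (k' _) = _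
      have h5 := ek' (e x)
      rw [heval'] at h5
      have h6 : isoHom (e.trans e') x = ((e' (e x) : D) : Ω) := rfl
      rw [h6, h5]
      exact ek x
  · intro A B e he ⟨h1, h2⟩
    refine ⟨fun W hW hWe => ?_, fun W hW hWe => ?_⟩
    · obtain ⟨g, hg, eg⟩ := h2 W hW (by rw [range_isoHom]; exact hWe)
      refine ⟨g, hg, fun z => ?_⟩
      have := eg (e.symm z)
      rw [isoHom_apply] at this
      simpa using this
    · rw [range_isoHom] at hWe
      obtain ⟨g, hg, eg⟩ := h1 W hW hWe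
      refine ⟨g, hg, fun z => ?_⟩
      have := eg (e.symm z)
      rw [isoHom_apply] at this
      simpa using this

/-- Function form of the lifting. -/
theorem lift_mp [Finite S] [Fact p.Prime] (C : Ctx F E y p) {G : Subgroup Ω → (Ω → Ω) → Prop} {𝒲 : Subgroup Ω → Prop} (L : LiftCl C G 𝒲)
    (hW : 𝒲 W) (hf : Mp E (W ⊓ T) f) : ∃ g, G W g ∧ ∀ x ∈ W ⊓ T, g x = f x := by
  obtain ⟨φ, hφ, e⟩ := hf
  obtain ⟨g, hg, eg⟩ := (lift_all C L _ φ hφ).1 W hW rfl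
  exact ⟨g, hg, fun x hx => (eg ⟨x, hx⟩).trans (e ⟨x, hx⟩)⟩

/-- `Hc` from a class with lifts whose members are centric. -/
theorem hc_of_lift [Finite S] [Fact p.Prime] (C : Ctx F E y p) {G : Subgroup Ω → (Ω → Ω) → Prop} {𝒲 : Subgroup Ω → Prop} (L : LiftCl C G 𝒲)
    (hcz : ∀ W, 𝒲 W → zz (Tt T y) W ≤ W) (hW : 𝒲 W) : Hc F T (W ⊓ T) := by
  have hcen : E.IsCentric (W ⊓ T) := by
    refine ⟨inf_le_right, fun Q hQ => ?_⟩
    obtain ⟨φ, hφ, hr⟩ := hQ
    obtain ⟨g, hg, eg⟩ := (lift_all C L _ φ hφ).1 W hW rfl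
    have hP := L.p1 hg
    obtain ⟨W₁, hW₁⟩ := hP.mp.exists_img
    have hi0 := hP.img_inf hW₁
    have hQi : Img (W ⊓ T) g Q := by
      rw [← hr]
      refine ⟨fun x hx => ⟨⟨x, hx⟩, (eg ⟨x, hx⟩).symm⟩, ?_⟩
      rintro _ ⟨x, rfl⟩
      exact ⟨x, x.2, eg x⟩
    have hW₁e : W₁ ⊓ T = Q := hi0.unique hQi
    have h𝒲 := L.conj hW hg hW₁
    intro z hz
    obtain ⟨hzT, hzc⟩ := mem_cent.1 hz
    have hyW₁ := L.hy h𝒲
    have hz' : z ∈ zz T (W₁ ⊓ T) := mem_zz.2 ⟨hzT, fun q hq => hzc q (by rw [← hW₁e]; exact hq)⟩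
    have hzz : z ∈ zz (Tt T y) W₁ := mem_zz.2 ⟨le_Tt hzT, fun w hw => comm_of_over C (L.le h𝒲) hyW₁ hz' hw⟩
    rw [← hW₁e]
    exact ⟨hcz _ h𝒲 hzz, hzT⟩
  exact fun Q hQ => Cfsg.Agent.Lib.FusionExt.PPrimeMin.hc_of_centric C.hFr hcen hQ

/-- `T` and the essential subgroups have the property `Hc`. -/
theorem hc_base [Finite S] [Fact p.Prime] (C : Ctx F E y p) (hQ : Q = T ∨ E.IsEssential p Q) : Hc F T Q := by
  haveI : Finite T := finite_of_le C.hTS
  rcases hQ with hQe | hQ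
  · intro Q' hQ'
    obtain ⟨ρ, hρ, hρr⟩ := hQ'
    have hle : Q' ≤ T := by
      rw [← hρr]
      rintro _ ⟨x, rfl⟩
      exact C.hT.2 Q hQe.le ρ hρ x
    have hcard : Nat.card T ≤ Nat.card Q' := by
      rw [← hρr, card_range F hρ, hQe]
    have : Q' = T := Subgroup.eq_of_le_of_card_ge hle hcard
    rw [this]
    exact inf_le_left
  · exact fun Q' hQ' => Cfsg.Agent.Lib.FusionExt.PPrimeMin.hc_of_centric C.hFr hQ.1 hQ'

/-- The lifts of `Aut_E(Q)` as `P1`-maps. -/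
theorem base_P1 [Finite S] [Fact p.Prime] (C : Ctx F E y p) (hQT : Q ≤ T) (hQ : Hc F T Q) {α : MulAut Q} (hα : α ∈ E.autGroup Q)
    (hW : W ≤ Tt T y) (hy : y ∈ W) (he : W ⊓ T = Q) : ∃ g, P1 F E y W g ∧ ∀ x ∈ Q, g x = autFun α x := by
  obtain ⟨g, hg, e1, e2⟩ := Cfsg.Agent.Lib.FusionExt.LowPi.pi_main C.hS C.hN Q hQT hQ α hα
  have hyC : y ∈ centralizerIn S Q := mem_cent.2 ⟨C.hyS, fun z hz => C.comm (hQT hz)⟩
  have hWle : W ≤ Q ⊔ centralizerIn S Q := by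
    rw [le_sup_of_over C hW hy, he]
    exact sup_le le_sup_left ((Subgroup.zpowers_le).2 (Subgroup.mem_sup_right hyC))
  have hgW : Mp F W g := hg.restrict hWle
  have hm0 : ∀ x ∈ W ⊓ T, x⁻¹ * g x ∈ T := by
    intro x hx
    rw [he] at hx
    rw [e1 x hx]
    exact T.mul_mem (T.inv_mem (hQT hx)) (hQT (autFun_mem α hx))
  have hgy : y⁻¹ * g y ∈ T := (mem_zz.1 (e2 y hyC)).1
  refine ⟨g, ⟨hW, hgW, C.mt_of hW hy hgW hm0 hgy, ?_⟩, e1⟩
  rw [he]
  exact (mp_autFun hQT hα).congr (fun x hx => (e1 x hx).symm)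

/-- `P1` with the class `Uc`. -/
theorem lift1 [Finite S] [Fact p.Prime] (C : Ctx F E y p) : LiftCl C (P1 F E y) (Uc (F₁ C) (Tt T y)) where
  p1 h := h
  congr h e := h.congr e
  restrict h hle := h.restrict hle
  comp h hm h' := h.comp hm h'
  hy h := C.y_mem h
  le h := h.1
  up {W W'} h hle h' := by
    haveI : Finite (Tt T y) := C.finite_T
    exact Uc.up h hle h'
  conj h hg hi := C.uc_img h hg hi
  base {Q} hQ α hα W hW he := by
    have hQT : Q ≤ T := by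
      rw [← he]
      exact inf_le_right
    exact base_P1 C hQT (hc_base C hQ) hα hW.1 (C.y_mem hW) he

/-- **Characterization of the centric subgroups of the ambient system.** -/
theorem hc_of_uc [Finite S] [Fact p.Prime] (C : Ctx F E y p) (hW : Uc (F₁ C) (Tt T y) W) : Hc F T (W ⊓ T) :=
  hc_of_lift C (lift1 C) (fun _ h => h.self le_rfl) hW

/-- **The lifting lemma.** -/
theorem lift_P1 [Finite S] [Fact p.Prime] (C : Ctx F E y p) (hW : Uc (F₁ C) (Tt T y) W) (hf : Mp E (W ⊓ T) f) :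
    ∃ g, P1 F E y W g ∧ ∀ x ∈ W ⊓ T, g x = f x := lift_mp C (lift1 C) hW hf

end Cfsg.Agent.Lib.FusionTheory.LiftY2
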