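import Cfsg.Agent.Lib.FusionTheory.LiftY2

/-!
# Adjoining an element of `C_S(T)`: the kernel of restriction to `T` is central (helper93)
-/

set_option autoImplicit false
set_option linter.unusedSectionVars false
set_option linter.style.haveILetI false

namespace Cfsg.Agent.Lib.FusionTheory.LiftY3

open Cfsg Cfsg.FusionSystem Cfsg.Agent.Lib.Fusion.Basic Cfsg.Agent.Lib.Fusion.GroupSystem
open Cfsg.Agent.Lib.FusionExt.MapApi Cfsg.Agent.Lib.FusionExt.PowerSys Cfsg.Agent.Lib.FusionExt.LowPi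
open Cfsg.Agent.Lib.FusionExt.PrimeRes1 Cfsg.Agent.Lib.Fusion.Saturation Cfsg.Agent.Lib.Fusion.Saturation2
open Cfsg.Agent.Lib.FusionExt.Glue1 Cfsg.Agent.Lib.FusionExt.Normal Cfsg.Agent.Lib.FusionExt.Invariant
open Cfsg.Agent.Lib.FusionExt.Basic Cfsg.Agent.Lib.Fusion.KSystem Cfsg.Agent.Lib.FusionExt.CentE
open Cfsg.Agent.Lib.FusionExt.CentSys
open Cfsg.Agent.Lib.FusionTheory.LiftY1 Cfsg.Agent.Lib.FusionTheory.LiftY2

universe u

variable {Ω : Type u} [Group Ω] {S T : Subgroup Ω} {F : FusionSystem S} {E : FusionSystem T} {y : Ω} {p : ℕ}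
variable {X Y W W' P Q R U : Subgroup Ω} {f g h b κ : Ω → Ω}

section main

variable [Finite S] [Fact p.Prime]

/-- **The kernel is central**, at a fully normalized subgroup. -/
theorem kc_fn (hS : IsPGroup p S) (hN : E.IsNormalIn F p) (hfn : F.IsFullyNormalized R) (hRT : R ≤ T)
    (hc : ∀ Q, F.IsConj R Q → zz T Q ≤ Q) {x : Ω} (hxC : x ∈ centralizerIn S R)
    (hb : Mp E R b) (hbi : Img R b R)
    (hκ : Mp F (R ⊔ Subgroup.zpowers x) κ) (hκR : ∀ r ∈ R, κ r = r) (hκx : x⁻¹ * κ x ∈ zz T R) :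
    b (x⁻¹ * κ x) = x⁻¹ * κ x := by
  obtain ⟨⟨hEs, hF, hsub, hT, hInv, hFr⟩, hext⟩ := id hN
  have hSI : StrongInv F E := strong_of_inv hInv hFr
  have hRS : R ≤ S := hfn.1
  have hTS : T ≤ S := hT.1
  have hcz : zz T R ≤ R := hc R (isConj_refl F hRS)
  have hNS : normalizerIn S R ≤ S := normalizerIn_le_left S R
  haveI : Finite (normalizerIn S R) := finite_of_le hNS
  have hxN : x ∈ normalizerIn S R := centralizerIn_le_normalizerIn S R hxC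
  have hM : (normalizerSystem F R hRS).IsSaturated p := isSaturated_normalizerSystem hS F hF hfn _ (fun _ => rfl)
  have hNp : IsPGroup p (normalizerIn S R) := hS.to_le hNS
  have hBN : R ⊔ Subgroup.zpowers x ≤ normalizerIn S R :=
    sup_le (le_normalizerIn hRS) ((Subgroup.zpowers_le).2 hxN)
  have hRB : R ≤ R ⊔ Subgroup.zpowers x := le_sup_left
  have hxB : x ∈ R ⊔ Subgroup.zpowers x := Subgroup.mem_sup_right (Subgroup.mem_zpowers x)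
  have hzR : x⁻¹ * κ x ∈ R := hcz hκx
  have hκxe : κ x = x * (x⁻¹ * κ x) := by group
  have hκB : ∀ w ∈ R ⊔ Subgroup.zpowers x, κ w ∈ R ⊔ Subgroup.zpowers x :=
    maps_sup_z hκ (fun a ha => by rw [hκR a ha]; exact hRB ha) (by rw [hκxe]; exact Subgroup.mul_mem _ hxB (hRB hzR))
  have hκi : Img (R ⊔ Subgroup.zpowers x) κ (R ⊔ Subgroup.zpowers x) := img_self hκ hκB
  have hκRi : Img R κ R := (img_refl R).congr (fun r hr => (hκR r hr).symm)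
  have hκM : Mp (normalizerSystem F R hRS) (R ⊔ Subgroup.zpowers x) κ :=
    mp_norm hRS hκ hRB hBN (fun w hw => hBN (hκB w hw)) hκRi
  obtain ⟨B₁, hBB₁, hfn₁⟩ := exists_isFullyNormalized (normalizerSystem F R hRS) hBN
  obtain ⟨φ, hφ, hφr⟩ := id hBB₁
  have hζ : Mp (normalizerSystem F R hRS) (R ⊔ Subgroup.zpowers x) (extOf φ) := mp_of_hom hφ
  have hζi : Img (R ⊔ Subgroup.zpowers x) (extOf φ) B₁ := img_of_range hφr
  obtain ⟨ι, hι, k1, k2, k3⟩ := hζ.inverse hζi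
  have hζR : Img R (extOf φ) R := img_of_norm hRS hζ hRB
  have hRB₁ : R ≤ B₁ := fun r hr => by
    obtain ⟨r₀, h0, rfl⟩ := hζR.2 r hr
    exact hζi.1 _ (hRB h0)
  have hv : Mp (normalizerSystem F R hRS) B₁ (fun w => extOf φ (κ (ι w))) := hι.comp k3.1 (hκM.comp hκi.1 hζ)
  have hvi : Img B₁ (fun w => extOf φ (κ (ι w))) B₁ := k3.comp (hκi.comp hζi)
  obtain ⟨a, ha, hae⟩ := hv.toAut hvi
  have haf : ∀ w ∈ B₁, autFun a w = extOf φ (κ (ι w)) := by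
    intro w hw
    rw [autFun_of_mem a hw]
    exact hae ⟨w, hw⟩
  have hvR : ∀ r ∈ R, autFun a r = r := by
    intro r hr
    rw [haf r (hRB₁ hr)]
    obtain ⟨r₀, h0, rfl⟩ := hζR.2 r hr
    rw [k1 _ (hRB h0), hκR r₀ h0]
  -- `κ` is trivial modulo `C_T(R)`
  have hcommx : ∀ u ∈ R, x * u = u * x := fun u hu => ((mem_cent.1 hxC).2 u hu).symm
  have hdiff : ∀ w ∈ R ⊔ Subgroup.zpowers x, w⁻¹ * κ w ∈ zz T R := by
    intro w hw
    have hw' : w ∈ Subgroup.zpowers x ⊔ R := by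
      rw [sup_comm]
      exact hw
    have hDn : Subgroup.zpowers x ≤ Subgroup.normalizer (R : Set Ω) := (Subgroup.zpowers_le).2 hxN.2
    obtain ⟨d, ⟨k, rfl⟩, r, hr, rfl⟩ := exists_mul_of_mem_sup' hDn hw'
    have hdk : x ^ k ∈ R ⊔ Subgroup.zpowers x := Subgroup.zpow_mem _ hxB k
    show (x ^ k * r)⁻¹ * κ (x ^ k * r) ∈ _
    rw [hκ.map_mul hdk (hRB hr), mp_zpow hκ hxB k, hκR r hr]
    have e2 : (κ x) ^ k = x ^ k * (x⁻¹ * κ x) ^ k := by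
      conv_lhs => rw [hκxe]
      exact (show Commute x (x⁻¹ * κ x) from hcommx _ hzR).mul_zpow k
    rw [e2]
    have hzk : (x⁻¹ * κ x) ^ k ∈ zz T R := Subgroup.zpow_mem _ hκx k
    have e3 : (x ^ k * r)⁻¹ * (x ^ k * (x⁻¹ * κ x) ^ k * r) = r⁻¹ * (x⁻¹ * κ x) ^ k * r := by group
    rw [e3]
    have e4 := (mem_zz.1 hzk).2 r hr
    have e5 : r⁻¹ * (x⁻¹ * κ x) ^ k * r = (x⁻¹ * κ x) ^ k := by
      rw [mul_assoc, ← e4]
      group
    rw [e5]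
    exact hzk
  have hvB : ∀ w ∈ B₁, w⁻¹ * autFun a w ∈ zz T R := by
    intro w hw
    rw [haf w hw]
    obtain ⟨w₀, hw₀, rfl⟩ := hζi.2 w hw
    rw [k1 _ hw₀]
    have h5 := hdiff _ hw₀
    have h6 := zz_img hζ hRB hζR hRT h5 (hcz h5)
    rw [hζ.map_mul (Subgroup.inv_mem _ hw₀) (hκi.1 _ hw₀), hζ.map_inv hw₀] at h6
    exact h6
  have hFA₁ := isFullyAutomized_of_isFullyNormalized (F := normalizerSystem F R hRS) hNp hM hfn₁
  have hind : a ∈ autInducedBy (normalizerIn S R) B₁ := v_stab hNp hfn₁.1 hFA₁ hcz hRB₁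
    (fun a' ha' w hw => (img_of_norm hRS (mp_autFun hfn₁.1 ha') hRB₁).1 w hw)
    (fun a' ha' u hu => zz_img (mp_autFun hfn₁.1 ha') hRB₁ (img_of_norm hRS (mp_autFun hfn₁.1 ha') hRB₁) hRT hu (hcz hu))
    ha hvR hvB
  obtain ⟨s, hs, hse⟩ := (mem_autInducedBy_iff _ B₁ a).1 hind
  have hse' : ∀ w ∈ B₁, autFun a w = s * w * s⁻¹ := by
    intro w hw
    rw [autFun_of_mem a hw]
    exact hse ⟨w, hw⟩
  have hsC : s ∈ centralizerIn S R := by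
    refine mem_cent.2 ⟨hNS hs, fun r hr => ?_⟩
    have h1 := hse' r (hRB₁ hr)
    rw [hvR r hr] at h1
    have h2 : r * s = s * r * s⁻¹ * s := by rw [← h1]
    rw [h2]
    group
  -- the element `x₁ = ζ x`
  have hx₁B : extOf φ x ∈ B₁ := hζi.1 x hxB
  have hx₁C : extOf φ x ∈ centralizerIn S R := by
    refine mem_cent.2 ⟨(hNS (hfn₁.1 hx₁B)), fun w hw => ?_⟩
    obtain ⟨r, hr, rfl⟩ := hζR.2 w hw
    rw [← hζ.map_mul (hRB hr) hxB, ← hζ.map_mul hxB (hRB hr), (mem_cent.1 hxC).2 r hr]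
  have hz' : extOf φ (x⁻¹ * κ x) ∈ zz T R := zz_img hζ hRB hζR hRT hκx hzR
  have hz'R : extOf φ (x⁻¹ * κ x) ∈ R := hcz hz'
  have hvx : s * extOf φ x * s⁻¹ = extOf φ x * extOf φ (x⁻¹ * κ x) := by
    rw [← hse' _ hx₁B, haf _ hx₁B, k1 _ hxB]
    conv_lhs => rw [hκxe]
    exact hζ.map_mul hxB (hRB hzR)
  -- transporting `b`
  obtain ⟨h₃, hh₃, hh₃e⟩ := sI_mp hSI (P := R) (Q' := R) le_rfl hRT hb hbi.1
    (mp_of_norm hRS (hζ.restrict hRB)) hζR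
  have hh₃i : Img R h₃ R := by
    refine ⟨fun w hw => ?_, fun w hw => ?_⟩
    · obtain ⟨r, hr, rfl⟩ := hζR.2 w hw
      rw [hh₃e r hr]
      exact hζR.1 _ (hbi.1 r hr)
    · obtain ⟨r, hr, rfl⟩ := hζR.2 w hw
      obtain ⟨r₁, hr₁, rfl⟩ := hbi.2 r hr
      exact ⟨_, hζR.1 r₁ hr₁, hh₃e r₁ hr₁⟩
  obtain ⟨α₁, hα₁, hα₁e⟩ := hh₃.toAut hh₃i
  obtain ⟨Γ, hΓ, hΓe, hΓc⟩ := pi_main hS hN R hRT hc α₁ hα₁
  have hΓz : ∀ r ∈ R, Γ r = h₃ r := by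
    intro r hr
    rw [hΓe r hr, autFun_of_mem α₁ hr]
    exact hα₁e ⟨r, hr⟩
  have hf₁ := hΓc s hsC
  have hh' := hΓc _ hx₁C
  have hf₁R := hcz hf₁
  have hh'R := hcz hh'
  have hsA : s ∈ R ⊔ centralizerIn S R := Subgroup.mem_sup_right hsC
  have hx₁A : extOf φ x ∈ R ⊔ centralizerIn S R := Subgroup.mem_sup_right hx₁C
  have hleR : R ≤ R ⊔ centralizerIn S R := le_sup_left
  have e1 : Γ (s * extOf φ x * s⁻¹) = Γ s * Γ (extOf φ x) * (Γ s)⁻¹ := hΓ.map_conj hsA hx₁A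
  rw [hvx, hΓ.map_mul hx₁A (hleR hz'R), hΓz _ hz'R] at e1
  have hfix : h₃ (extOf φ (x⁻¹ * κ x)) = extOf φ (x⁻¹ * κ x) := by
    set z' := extOf φ (x⁻¹ * κ x) with hz'def
    set x₁ := extOf φ x with hx₁def
    set f₁ := s⁻¹ * Γ s with hf₁def
    set h' := x₁⁻¹ * Γ x₁ with hh'def
    have e2 : Γ s = s * f₁ := by rw [hf₁def]; group
    have e3 : Γ x₁ = x₁ * h' := by rw [hh'def]; group
    clear_value h' f₁
    have c1 : f₁ * x₁ = x₁ * f₁ := (mem_cent.1 hx₁C).2 f₁ hf₁R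
    have c2 : f₁ * h' = h' * f₁ := (mem_zz.1 hh').2 f₁ hf₁R
    have c3 : h' * s = s * h' := (mem_cent.1 hsC).2 h' hh'R
    have c4 : z' * h' = h' * z' := (mem_zz.1 hh').2 z' hz'R
    rw [e2, e3] at e1
    have e4 : s * f₁ * (x₁ * h') * (s * f₁)⁻¹ = s * x₁ * s⁻¹ * (s * h' * s⁻¹) := by
      calc s * f₁ * (x₁ * h') * (s * f₁)⁻¹ = s * (f₁ * x₁) * h' * f₁⁻¹ * s⁻¹ := by group
        _ = s * x₁ * (f₁ * h') * f₁⁻¹ * s⁻¹ := by rw [c1]; group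
        _ = s * x₁ * h' * s⁻¹ := by rw [c2]; group
        _ = s * x₁ * s⁻¹ * (s * h' * s⁻¹) := by group
    rw [e4, hvx] at e1
    have e5 : s * h' * s⁻¹ = h' := by
      rw [← c3]
      group
    rw [e5] at e1
    have e6 : z' * h' = h' * h₃ z' := by
      rw [mul_assoc, mul_assoc] at e1
      exact (mul_left_cancel e1).symm
    rw [c4] at e6
    exact (mul_left_cancel e6).symm
  rw [hh₃e _ hzR] at hfix
  exact hζ.inj (hRB (hbi.1 _ hzR)) (hRB hzR) hfix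

/-- **The kernel is central**, in general. -/
theorem kc_gen (hS : IsPGroup p S) (hN : E.IsNormalIn F p) (hRT : R ≤ T)
    (hc : ∀ Q, F.IsConj R Q → zz T Q ≤ Q) {x : Ω} (hxC : x ∈ centralizerIn S R)
    (hb : Mp E R b) (hbi : Img R b R)
    (hκ : Mp F (R ⊔ Subgroup.zpowers x) κ) (hκR : ∀ r ∈ R, κ r = r) (hκx : x⁻¹ * κ x ∈ zz T R) :
    b (x⁻¹ * κ x) = x⁻¹ * κ x := by
  obtain ⟨⟨hEs, hF, hsub, hT, hInv, hFr⟩, hext⟩ := id hN
  have hSI : StrongInv F E := strong_of_inv hInv hFr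
  have hRS : R ≤ S := hRT.trans hT.1
  obtain ⟨X, hRX, hXfn⟩ := exists_isFullyNormalized F hRS
  have hr := isReceptive_of_isFullyNormalized F hS hF hXfn
  obtain ⟨φ, hφ, hφr⟩ := id hRX
  have hφm : Mp F R (extOf φ) := mp_of_hom hφ
  have hφi : Img R (extOf φ) X := img_of_range hφr
  obtain ⟨ρ, hρ, hρe⟩ := ext_cent hr hφm hφi
  have hρi : Img R ρ X := hφi.congr (fun r hr => (hρe r hr).symm)
  have hcX : ∀ Q, F.IsConj X Q → zz T Q ≤ Q := fun Q hQ => hc Q (isConj_trans F hRX hQ)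
  have hXT : X ≤ T := by
    intro u hu
    obtain ⟨r, hr', rfl⟩ := hρi.2 u hu
    exact Cfsg.Agent.Lib.FusionExt.PowerE.sc_mp hT (hρ.restrict le_sup_left) hRT hr'
  have hcz : zz T R ≤ R := hc R (isConj_refl F hRS)
  have hzR : x⁻¹ * κ x ∈ R := hcz hκx
  have hRB : R ≤ R ⊔ Subgroup.zpowers x := le_sup_left
  have hxB : x ∈ R ⊔ Subgroup.zpowers x := Subgroup.mem_sup_right (Subgroup.mem_zpowers x)
  have hle : R ⊔ Subgroup.zpowers x ≤ R ⊔ centralizerIn S R :=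
    sup_le le_sup_left ((Subgroup.zpowers_le).2 (Subgroup.mem_sup_right hxC))
  have hρB : Mp F (R ⊔ Subgroup.zpowers x) ρ := hρ.restrict hle
  have hx'C : ρ x ∈ centralizerIn S X := map_cent hρ hρi.2 hxC
  have hκxe : κ x = x * (x⁻¹ * κ x) := by group
  have hκB : ∀ w ∈ R ⊔ Subgroup.zpowers x, κ w ∈ R ⊔ Subgroup.zpowers x :=
    maps_sup_z hκ (fun a ha => by rw [hκR a ha]; exact hRB ha) (by rw [hκxe]; exact Subgroup.mul_mem _ hxB (hRB hzR))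
  have hBi : Img (R ⊔ Subgroup.zpowers x) ρ (X ⊔ Subgroup.zpowers (ρ x)) := by
    obtain ⟨B', hB'⟩ := hρB.exists_img
    have hXB' : X ≤ B' := fun u hu => by
      obtain ⟨r, hr', rfl⟩ := hρi.2 u hu
      exact hB'.1 _ (hRB hr')
    have hxB' : ρ x ∈ B' := hB'.1 x hxB
    have : B' = X ⊔ Subgroup.zpowers (ρ x) := by
      refine le_antisymm ?_ (sup_le hXB' ((Subgroup.zpowers_le).2 hxB'))
      intro u hu
      obtain ⟨w, hw, rfl⟩ := hB'.2 u hu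
      exact maps_sup_z hρB (fun a ha => Subgroup.mem_sup_left (hρi.1 a ha))
        (Subgroup.mem_sup_right (Subgroup.mem_zpowers _)) w hw
    rw [← this]
    exact hB'
  obtain ⟨ι, hι, k1, k2, k3⟩ := hρB.inverse hBi
  have hκ' : Mp F (X ⊔ Subgroup.zpowers (ρ x)) (fun w => ρ (κ (ι w))) :=
    hι.comp k3.1 (hκ.comp hκB hρB)
  have hκ'X : ∀ u ∈ X, ρ (κ (ι u)) = u := by
    intro u hu
    obtain ⟨r, hr', rfl⟩ := hρi.2 u hu
    rw [k1 _ (hRB hr'), hκR r hr']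
  have hκ'e : ρ (κ (ι (ρ x))) = ρ x * ρ (x⁻¹ * κ x) := by
    rw [k1 x hxB]
    conv_lhs => rw [hκxe]
    exact hρB.map_mul hxB (hRB hzR)
  have hzρ : ρ (x⁻¹ * κ x) ∈ zz T X := by
    refine mem_zz.2 ⟨Cfsg.Agent.Lib.FusionExt.PowerE.sc_mp hT (hρ.restrict le_sup_left) hRT hzR, fun u hu => ?_⟩
    obtain ⟨r, hr', rfl⟩ := hρi.2 u hu
    rw [← hρB.map_mul (hRB hr') (hRB hzR), ← hρB.map_mul (hRB hzR) (hRB hr'), (mem_zz.1 hκx).2 r hr']
  have hκ'x : (ρ x)⁻¹ * (fun w => ρ (κ (ι w))) (ρ x) = ρ (x⁻¹ * κ x) := by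
    show (ρ x)⁻¹ * ρ (κ (ι (ρ x))) = _
    rw [hκ'e]
    group
  obtain ⟨h₃, hh₃, hh₃e⟩ := sI_mp hSI (P := R) (Q' := R) le_rfl hRT hb hbi.1 (hρ.restrict le_sup_left) hρi
  have hh₃i : Img X h₃ X := by
    refine ⟨fun w hw => ?_, fun w hw => ?_⟩
    · obtain ⟨r, hr', rfl⟩ := hρi.2 w hw
      rw [hh₃e r hr']
      exact hρi.1 _ (hbi.1 r hr')
    · obtain ⟨r, hr', rfl⟩ := hρi.2 w hw
      obtain ⟨r₁, hr₁, rfl⟩ := hbi.2 r hr'
      exact ⟨_, hρi.1 r₁ hr₁, hh₃e r₁ hr₁⟩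
  have key := kc_fn hS hN hXfn hXT hcX hx'C hh₃ hh₃i hκ' hκ'X (by rw [hκ'x]; exact hzρ)
  rw [hκ'x, hh₃e _ hzR] at key
  exact hρB.inj (hRB (hbi.1 _ hzR)) (hRB hzR) key

end main

/-- The element `y⁻¹ g y` centralizes the image of `W ⊓ T`. -/
theorem cocycle_zz (C : Ctx F E y p) (hP : P1 F E y W g) (hy : y ∈ W) (hi : Img (W ⊓ T) g Q) : y⁻¹ * g y ∈ zz T Q := by
  refine mem_zz.2 ⟨hP.mt y hy, fun q hq => ?_⟩
  obtain ⟨r, hr', rfl⟩ := hi.2 q hq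
  have h1 : g (r * y) = g (y * r) := by rw [C.comm hr'.2]
  rw [hP.mp.map_mul hr'.1 hy, hP.mp.map_mul hy hr'.1] at h1
  have hcq := C.comm (hP.mem_T hr'.1 hr'.2)
  calc g r * (y⁻¹ * g y) = y⁻¹ * (y * g r) * (y⁻¹ * g y) := by group
    _ = y⁻¹ * (g r * y) * (y⁻¹ * g y) := by rw [hcq]
    _ = y⁻¹ * (g r * g y) := by group
    _ = y⁻¹ * (g y * g r) := by rw [h1]
    _ = y⁻¹ * g y * g r := by group

/-- **The kernel is central**, in the ambient system. -/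
theorem kc [Finite S] [Fact p.Prime] (C : Ctx F E y p) (hW : Uc (F₁ C) (Tt T y) W) (hκ : P1 F E y W κ) (hκ0 : ∀ r ∈ W ⊓ T, κ r = r)
    (hb : Mp E (W ⊓ T) b) (hbi : Img (W ⊓ T) b (W ⊓ T)) : b (y⁻¹ * κ y) = y⁻¹ * κ y := by
  have hy := C.y_mem hW
  have hc := hc_of_uc C hW
  have hRT : W ⊓ T ≤ T := inf_le_right
  have e : W = W ⊓ T ⊔ Subgroup.zpowers y := le_sup_of_over C hW.1 hy
  have hκ' : Mp F (W ⊓ T ⊔ Subgroup.zpowers y) κ := by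
    rw [← e]
    exact hκ.mp
  have hi : Img (W ⊓ T) κ (W ⊓ T) := (img_refl _).congr (fun r hr => (hκ0 r hr).symm)
  exact kc_gen C.hS C.hN hRT hc (mem_cent.2 ⟨C.hyS, fun z hz => C.comm hz.2⟩) hb hbi hκ' hκ0 (cocycle_zz C hκ hy hi)

end Cfsg.Agent.Lib.FusionTheory.LiftY3
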