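import Cfsg.Agent.Lib.FusionTheory.LiftY3

/-!
# Families generated by `p'`-automorphisms and transported conjugations (helper93)

`G` is any fusion system on `R`: the family of the generated saturated subsystem of `p`-power index.
-/

set_option autoImplicit false
set_option linter.unusedSectionVars false
set_option linter.style.haveILetI false

namespace Cfsg.Agent.Lib.FusionTheory.LiftY4

open Cfsg Cfsg.FusionSystem Cfsg.Agent.Lib.Fusion.Basic Cfsg.Agent.Lib.Fusion.GroupSystem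
open Cfsg.Agent.Lib.FusionExt.MapApi Cfsg.Agent.Lib.FusionExt.PowerSys Cfsg.Agent.Lib.FusionExt.LowPi
open Cfsg.Agent.Lib.FusionExt.PrimeRes1 Cfsg.Agent.Lib.Fusion.Saturation Cfsg.Agent.Lib.Fusion.Saturation2
open Cfsg.Agent.Lib.FusionExt.Glue1 Cfsg.Agent.Lib.FusionExt.Glue2 Cfsg.Agent.Lib.FusionExt.Glue3 Cfsg.Agent.Lib.FusionExt.Glue4
open Cfsg.Agent.Lib.FusionExt.Normal Cfsg.Agent.Lib.FusionExt.Invariant Cfsg.Agent.Lib.FusionExt.Meet3

universe u

variable {Ω : Type u} [Group Ω] {R : Subgroup Ω} {G : FusionSystem R} {p : ℕ}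
variable {X Y W W' P P' Q U U' : Subgroup Ω} {f f' g h κ φ χ : Ω → Ω}

/-- Transports of conjugations by `R`. -/
def Pr (G : FusionSystem R) (U : Subgroup Ω) (f : Ω → Ω) : Prop :=
  ∃ W φ t, Mp G U φ ∧ Img U φ W ∧ t ∈ normalizerIn R W ∧ ∀ x ∈ U, φ (f x) = t * φ x * t⁻¹

/-- The candidate automizer. -/
def AQ (G : FusionSystem R) (p : ℕ) (U : Subgroup Ω) : Subgroup (MulAut U) :=
  Subgroup.closure {α | Pp G p U (autFun α) ∨ Pr G U (autFun α)}

/-- The family. -/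
def Af (G : FusionSystem R) (p : ℕ) (U : Subgroup Ω) (f : Ω → Ω) : Prop :=
  Uc G R U ∧ ∃ α ∈ AQ G p U, ∀ x ∈ U, autFun α x = f x

theorem pr_mp (h : Pr G U f) (hU : Img U f U) : Mp G U f := by
  obtain ⟨W, φ, t, h1, h2, ht, h3⟩ := h
  have hWR : W ≤ R := h1.img_le h2
  obtain ⟨k, hk, hk1, hk2, hk3⟩ := h1.inverse h2
  have hct : Mp G W (fun x => t * x * t⁻¹) := Mp.conj hWR ht.1
  refine ((h1.comp h2.1 hct).comp (fun x hx => norm_conj ht.2 (h2.1 x hx)) hk).congr (fun x hx => ?_)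
  show k (t * φ x * t⁻¹) = f x
  rw [← h3 x hx, hk1 _ (hU.1 x hx)]

theorem pr_congr (h : Pr G U f) (e : ∀ x ∈ U, f x = g x) : Pr G U g := by
  obtain ⟨W, φ, t, h1, h2, ht, h3⟩ := h
  exact ⟨W, φ, t, h1, h2, ht, fun x hx => by rw [← e x hx]; exact h3 x hx⟩

theorem pp_congr (h : Pp G p U f) (e : ∀ x ∈ U, f x = g x) : Pp G p U g := by
  obtain ⟨h1, h2, m, hm, h3⟩ := h
  refine ⟨h1.congr e, h2.congr e, m, hm, fun x hx => ?_⟩
  rw [← Cfsg.Agent.Lib.FusionExt.PowerSys.iterate_congr h2.1 e m hx]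
  exact h3 x hx

/-- Transport of `p'`-elements. -/
theorem pp_tr (h : Pp G p U f) (hφ : Mp G U φ) (hi : Img U φ U') (hfe : ∀ x ∈ U, f' (φ x) = φ (f x)) : Pp G p U' f' := by
  obtain ⟨h1, h2, q, hq, h3⟩ := h
  obtain ⟨k, hk, hk1, hk2, hk3⟩ := hφ.inverse hi
  have hf'e : ∀ y ∈ U', φ (f (k y)) = f' y := by
    intro y hy
    obtain ⟨x, hx, rfl⟩ := hi.2 y hy
    rw [hk1 x hx, hfe x hx]
  refine ⟨?_, ⟨fun y hy => ?_, fun y hy => ?_⟩, q, hq, fun y hy => ?_⟩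
  · exact ((hk.comp hk3.1 h1).comp (fun y hy => h2.1 _ (hk3.1 y hy)) hφ).congr hf'e
  · rw [← hf'e y hy]
    exact hi.1 _ (h2.1 _ (hk3.1 y hy))
  · obtain ⟨x, hx, rfl⟩ := hi.2 y hy
    obtain ⟨u, hu, rfl⟩ := h2.2 x hx
    exact ⟨φ u, hi.1 u hu, hfe u hu⟩
  · obtain ⟨x, hx, rfl⟩ := hi.2 y hy
    have key : ∀ j : ℕ, f'^[j] (φ x) = φ (f^[j] x) := by
      intro j
      induction j with
      | zero => rfl
      | succ j ih =>
        rw [Function.iterate_succ_apply', Function.iterate_succ_apply', ih, hfe _ (iterate_mem h2.1 j hx)]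
    rw [key q, h3 x hx]

/-- Transport of `Pr`. -/
theorem pr_tr (h : Pr G U f) (hU : Img U f U) (hφ : Mp G U χ) (hi : Img U χ U') (hfe : ∀ x ∈ U, f' (χ x) = χ (f x)) :
    Pr G U' f' := by
  obtain ⟨W, φ, t, h1, h2, ht, h3⟩ := h
  obtain ⟨k, hk, hk1, hk2, hk3⟩ := hφ.inverse hi
  refine ⟨W, fun y => φ (k y), t, hk.comp hk3.1 h1, hk3.comp h2, ht, fun y hy => ?_⟩
  obtain ⟨x, hx, rfl⟩ := hi.2 y hy
  show φ (k (f' (χ x))) = t * φ (k (χ x)) * t⁻¹
  rw [hfe x hx, hk1 _ (hU.1 x hx), hk1 x hx]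
  exact h3 x hx

/-- Transport of `AQ`. -/
theorem AQ_tr (hφ : Mp G U φ) (hi : Img U φ U') {α : MulAut U} (hα : α ∈ AQ G p U) :
    ∃ α' ∈ AQ G p U', ∀ x ∈ U, autFun α' (φ x) = φ (autFun α x) := by
  obtain ⟨e, hee⟩ := exists_iso hφ hi
  have hce := fun β (x : Ω) (hx : x ∈ U) => autFun_congr_apply e hee β hx
  have hle : AQ G p U ≤ (AQ G p U').comap (MulAut.congr e).toMonoidHom := by
    refine (Subgroup.closure_le _).2 (fun β hβ => ?_)
    refine Subgroup.subset_closure ?_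
    rcases hβ with hβ | hβ
    · exact Or.inl (pp_tr hβ hφ hi (fun x hx => hce β x hx))
    · exact Or.inr (pr_tr hβ (img_autFun β) hφ hi (fun x hx => hce β x hx))
  exact ⟨_, hle hα, fun x hx => hce α x hx⟩

theorem AQ_le (hU : U ≤ R) : AQ G p U ≤ G.autGroup U := by
  refine (Subgroup.closure_le _).2 (fun α hα => ?_)
  have hm : Mp G U (autFun α) := by
    rcases hα with hα | hα
    · exact hα.1
    · exact pr_mp hα (img_autFun α)
  obtain ⟨a, ha, hae⟩ := hm.toAut (img_autFun α)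
  have : a = α := eq_of_autFun (fun y hy => by
    rw [autFun_of_mem a hy]
    exact hae ⟨y, hy⟩)
  rwa [← this]

theorem AQ_conj (hU : U ≤ R) {β α : MulAut U} (hβ : β ∈ G.autGroup U) (hα : α ∈ AQ G p U) : β * α * β⁻¹ ∈ AQ G p U := by
  obtain ⟨α', hα', e⟩ := AQ_tr (mp_autFun hU hβ) (img_autFun β) hα
  have : α' = β * α * β⁻¹ := by
    apply eq_of_autFun
    intro y hy
    obtain ⟨x, hx, rfl⟩ := (img_autFun β).2 y hy
    rw [e x hx, conj_fun]
  rwa [← this]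

theorem mem_AQ_inner (hU : U ≤ R) {c : MulAut U} (hc : c ∈ autInducedBy R U) : c ∈ AQ G p U := by
  obtain ⟨t, ht, e⟩ := inT_iff.1 hc
  exact Subgroup.subset_closure (Or.inr ⟨U, fun x => x, t, Mp.refl hU, img_refl U, ht, e⟩)

theorem mem_AQ_of_pp {c : MulAut U} (hc : Pp G p U (autFun c)) : c ∈ AQ G p U := Subgroup.subset_closure (Or.inl hc)

section main

variable [Finite R] [Fact p.Prime]

/-- Restriction of `p'`-elements. -/
theorem res_q {β : MulAut P} (hP : P ≤ R) (hβ : β ∈ AQ G p P) {q : ℕ} (hq : β ^ q = 1) (hqc : q.Coprime p) (hUP : U ≤ P)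
    (hi : Img U (autFun β) U) : ∃ α ∈ AQ G p U, ∀ x ∈ U, autFun α x = autFun β x := by
  have hm : Mp G P (autFun β) := mp_autFun hP (AQ_le hP hβ)
  obtain ⟨α, -, hαe⟩ := (hm.restrict hUP).toAut hi
  have hαf : ∀ x ∈ U, autFun α x = autFun β x := fun x hx => by
    rw [autFun_of_mem α hx]
    exact hαe ⟨x, hx⟩
  refine ⟨α, mem_AQ_of_pp ⟨(hm.restrict hUP).congr (fun x hx => (hαf x hx).symm), (img_autFun α), q, hqc, fun x hx => ?_⟩, hαf⟩
  rw [iterate_congr (img_autFun α).1 hαf q hx]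
  rw [show x = ((⟨x, hUP hx⟩ : P) : Ω) from rfl, iterate_autFun, hq]
  rfl

/-- Restriction of `p`-elements. -/
theorem res_p (hR : IsPGroup p R) {β : MulAut P} (hP : P ≤ R) (hβ : β ∈ AQ G p P) {k' : ℕ} (hk' : β ^ p ^ k' = 1)
    (hUP : U ≤ P) (hi : Img U (autFun β) U) {P' : Subgroup Ω} {ρ : Ω → Ω} (hρ : Mp G P ρ) (hρi : Img P ρ P')
    (hsyl : IsSylowIn p (autInducedBy R P') (AQ G p P')) :
    ∃ α ∈ AQ G p U, ∀ x ∈ U, autFun α x = autFun β x := by
  have hP'R : P' ≤ R := hρ.img_le hρi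
  haveI : Finite P' := finite_of_le hP'R
  haveI : Finite (MulAut P') := Cfsg.Agent.Lib.Fusion.Basic.finite_mulAut_of_finite (A := P')
  obtain ⟨β', hβ', hβ'e⟩ := AQ_tr hρ hρi hβ
  have hpow : ∀ j : ℕ, ∀ x ∈ P, autFun (β' ^ j) (ρ x) = ρ (autFun (β ^ j) x) := by
    intro j
    induction j with
    | zero =>
      intro x _
      simp only [pow_zero, autFun_one_apply]
    | succ j ih =>
      intro x hx
      rw [pow_succ, pow_succ, autFun_mul_apply, autFun_mul_apply, hβ'e x hx, ih _ (autFun_mem β hx)]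
  have hone : β' ^ p ^ k' = 1 := by
    apply eq_one_of_fun
    intro y hy
    obtain ⟨x, hx, rfl⟩ := hρi.2 y hy
    rw [hpow _ x hx, hk', autFun_one_apply]
  have hCle : Subgroup.zpowers β' ≤ AQ G p P' := Subgroup.zpowers_le.2 hβ'
  have hCp : IsPGroup p (Subgroup.zpowers β') := by
    refine isPGroup_of_pow_eq_one (fun b hb => ?_)
    obtain ⟨i, rfl⟩ := Subgroup.mem_zpowers_iff.1 hb
    refine ⟨k', ?_⟩
    rw [← zpow_natCast, ← zpow_mul, mul_comm, zpow_mul, zpow_natCast, hone, one_zpow]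
  obtain ⟨g₀, hg₀, hgc⟩ := hsyl.exists_conj hCle hCp
  obtain ⟨t, ht, et⟩ := inT_iff.1 (hgc β' (Subgroup.mem_zpowers β'))
  have hg₀F : Mp G P' (autFun g₀) := mp_autFun hP'R (AQ_le hP'R hg₀)
  have hζ : Mp G P (fun x => autFun g₀ (ρ x)) := hρ.comp hρi.1 hg₀F
  obtain ⟨U₂, hU₂⟩ := (hζ.restrict hUP).exists_img
  have hact : ∀ x ∈ P, t * autFun g₀ (ρ x) * t⁻¹ = autFun g₀ (ρ (autFun β x)) := by
    intro x hx
    rw [← et _ (autFun_mem g₀ (hρi.1 x hx)), conj_fun, hβ'e x hx]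
  have hU₂R : U₂ ≤ R := (hζ.restrict hUP).img_le hU₂
  have htN : t ∈ normalizerIn R U₂ := by
    haveI : Finite U₂ := finite_of_le hU₂R
    refine ⟨ht.1, mem_normalizer_of_conj_le' (fun y hy => ?_)⟩
    obtain ⟨x, hx, rfl⟩ := hU₂.2 y hy
    show t * autFun g₀ (ρ x) * t⁻¹ ∈ U₂
    rw [hact x (hUP hx)]
    exact hU₂.1 _ (hi.1 x hx)
  have hm : Mp G P (autFun β) := mp_autFun hP (AQ_le hP hβ)
  obtain ⟨α, -, hαe⟩ := (hm.restrict hUP).toAut hi
  have hαf : ∀ x ∈ U, autFun α x = autFun β x := fun x hx => by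
    rw [autFun_of_mem α hx]
    exact hαe ⟨x, hx⟩
  refine ⟨α, Subgroup.subset_closure (Or.inr ⟨U₂, _, t, hζ.restrict hUP, hU₂, htN, fun x hx => ?_⟩), hαf⟩
  rw [hαf x hx]
  exact (hact x (hUP hx)).symm

/-- The family, given the Sylow property at a conjugate. -/
theorem fam (hR : IsPGroup p R) (hSyl : ∀ P, Uc G R P → ∃ P' ρ, Mp G P ρ ∧ Img P ρ P' ∧ IsSylowIn p (autInducedBy R P') (AQ G p P')) :
    Fam G R (Af G p) where
  sc := ⟨le_rfl, fun _ _ _ hφ x => val_mem G hφ x⟩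
  congr := fun {P f g} h e => by
    obtain ⟨h1, α, hα, hαe⟩ := h
    exact ⟨h1, α, hα, fun x hx => (hαe x hx).trans (e x hx)⟩
  uc := fun h => h.1
  mp := fun {P f} h => by
    obtain ⟨h1, α, hα, hαe⟩ := h
    exact (mp_autFun h1.1 (AQ_le h1.1 hα)).congr hαe
  img := fun {P f} h => by
    obtain ⟨h1, α, hα, hαe⟩ := h
    exact (img_autFun α).congr hαe
  inner := fun {P t} h ht =>
    ⟨h, normAct P ht.2, mem_AQ_inner h.1 (normAct_mem_autInducedBy R P ht.2 ht.1), fun x hx => normAct_fun ht.2 hx⟩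
  comp := fun {P f g} h1 h2 => by
    obtain ⟨h1, α, hα, hαe⟩ := h1
    obtain ⟨-, β, hβ, hβe⟩ := h2
    refine ⟨h1, β * α, Subgroup.mul_mem _ hβ hα, fun x hx => ?_⟩
    rw [autFun_mul_apply, hαe x hx, hβe _ ((img_autFun α).congr hαe |>.1 x hx)]
  inv := fun {P f} h => by
    obtain ⟨h1, α, hα, hαe⟩ := h
    refine ⟨autFun α⁻¹, ⟨h1, α⁻¹, Subgroup.inv_mem _ hα, fun _ _ => rfl⟩, fun x hx => ?_⟩
    rw [← hαe x hx, autFun_inv_apply]
  tr := fun {P P' f φ} h hφ hi => by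
    obtain ⟨h1, α, hα, hαe⟩ := h
    obtain ⟨α', hα', e⟩ := AQ_tr hφ hi hα
    exact ⟨autFun α', ⟨h1.conj ⟨le_rfl, fun _ _ _ hφ x => val_mem G hφ x⟩ hφ hi, α', hα', fun _ _ => rfl⟩, fun x hx => by rw [e x hx, hαe x hx]⟩
  res := fun {P U f} h hU hUP hi => by
    obtain ⟨huP, α, hα, hαe⟩ := h
    have hPR := huP.1
    haveI : Finite P := finite_of_le hPR
    haveI : Finite U := finite_of_le (hUP.trans hPR)
    haveI : Finite (MulAut P) := Cfsg.Agent.Lib.Fusion.Basic.finite_mulAut_of_finite (A := P)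
    have hiα : Img U (autFun α) U := hi.congr (fun x hx => (hαe x (hUP hx)).symm)
    obtain ⟨u, v, hαuv, ⟨k', hk'⟩, q, hq, hqe⟩ := Cfsg.Agent.Lib.FusionExt.LowPi.exists_parts (p := p) α
    obtain ⟨P', ρ, hρ, hρi, hsyl⟩ := hSyl P huP
    obtain ⟨α₁, hα₁, hα₁e⟩ := res_p hR hPR (Subgroup.pow_mem _ hα u) hk' hUP
      (Cfsg.Agent.Lib.FusionExt.Meet5.img_pow hUP inferInstance hiα u) hρ hρi hsyl
    obtain ⟨α₂, hα₂, hα₂e⟩ := res_q hPR (Subgroup.pow_mem _ hα v) hqe hq hUP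
      (Cfsg.Agent.Lib.FusionExt.Meet5.img_pow hUP inferInstance hiα v)
    refine ⟨hU, α₁ * α₂, Subgroup.mul_mem _ hα₁ hα₂, fun x hx => ?_⟩
    have hx2 := (Cfsg.Agent.Lib.FusionExt.Meet5.img_pow hUP inferInstance hiα v).1 x hx
    rw [autFun_mul_apply, hα₂e x hx, hα₁e _ hx2, ← autFun_mul_apply, ← hαuv, hαe x (hUP hx)]

end main

theorem aSub_eq {A : Fam G R (Af G p)} (h : Uc G R W) : aSub A h = AQ G p W := by
  ext α
  constructor
  · rintro ⟨-, β, hβ, e⟩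
    have : β = α := eq_of_autFun e
    rwa [← this]
  · intro hα
    exact ⟨h, α, hα, fun _ _ => rfl⟩

/-- **Saturation of the generated system**, centric version. -/
theorem D_sat' [Finite R] [Fact p.Prime] {Aa : Subgroup Ω → (Ω → Ω) → Prop} {Fl' : Subgroup Ω → Prop} (hTp : IsPGroup p R) (A : Fam G R Aa)
    (B : FlS A p Fl') (hstar : ∀ P, (mkD A).IsCentric P → Uc G R P) : (mkD A).IsSaturated p := by
  have hmF : ∀ {X : Subgroup Ω} {f : Ω → Ω}, Mp (mkD A) X f → Mp G X f := fun h => ((mp_D (A := A)).1 h).mp A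
  have hUcl : ∀ P, Uc G R P → ∀ Q, (mkD A).IsConj P Q → Uc G R Q := by
    intro P hP Q hQ
    obtain ⟨φ, hφ, hr⟩ := hQ
    have h1 : Mp (mkD A) P (extOf φ) := mp_of_hom hφ
    refine hP.conj A.sc (hmF h1) ⟨fun x hx => ?_, fun y hy => ?_⟩
    · rw [extOf_of_mem φ hx, ← hr]
      exact ⟨⟨x, hx⟩, rfl⟩
    · rw [← hr] at hy
      obtain ⟨x, rfl⟩ := hy
      exact ⟨x, x.2, extOf_coe φ x⟩
  refine Cfsg.Agent.Lib.FusionExt.SatCrit4.main hTp (mkD A) {P | Uc G R P} (fun P hP => hP.1) hUcl ?_ ?_ ?_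
  · intro P hP
    obtain ⟨W, δ, hW, hδ, hδi⟩ := B.exist hP
    have huW := B.uc hW
    refine ⟨W, ((mp_D (A := A)).2 hδ).isConj hδi, ?_, ?_⟩
    · refine (isFullyAutomized_iff (F := mkD A) hTp huW.1).2 (fun R' hRp hRle hAR => ?_)
      have hmax := ((isSylowIn_iff_maximal (inducedBy_le A huW)).1 (B.syl hW)).2
      exact hmax R' (fun r hr => aut_D hTp A B huW (hRle hr)) hRp hAR
    · refine ⟨huW.1, fun P' φ hφ hr => ?_⟩
      have hφm : Mp (mkD A) P' (extOf φ) := mp_of_hom hφ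
      have hφd := (mp_D (A := A)).1 hφm
      have hI : Img P' (extOf φ) W := by
        refine ⟨fun x hx => ?_, fun y hy => ?_⟩
        · rw [extOf_of_mem φ hx, ← hr]
          exact ⟨⟨x, hx⟩, rfl⟩
        · rw [← hr] at hy
          obtain ⟨x, rfl⟩ := hy
          exact ⟨x, x.2, extOf_coe φ x⟩
      have hP'T : P' ≤ R := hφd.le A
      have huP' : Uc G R P' := by
        obtain ⟨k, hk, -, -, hki⟩ := hφd.inv A hI
        exact huW.conj A.sc (hk.mp A) hki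
      have hPZ : P' ≤ extender R P' φ := le_extender (mkD A) hφ
      have hZN : extender R P' φ ≤ normalizerIn R P' := extender_le_normalizerIn φ
      obtain ⟨τ', hτ', eτ'⟩ := (main_ind hTp A B P' huP').2 _ W hφd hI (extender R P' φ) hPZ hZN (by
        intro z hz
        obtain ⟨hz1, hz2, t, ht, et⟩ := (mem_extender_iff φ).1 hz
        refine ⟨t, ⟨ht, extCond_mem_normalizer hr hz2 et⟩, fun x hx => ?_⟩
        have hx' := norm_conj hz2 hx
        rw [extOf_of_mem φ hx', extOf_of_mem φ hx]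
        exact et ⟨x, hx⟩ hx')
      obtain ⟨ψ, hψ, eψ⟩ := (mp_D (A := A)).2 hτ'
      refine ⟨ψ, hψ, fun x hP hN => ?_⟩
      rw [eψ ⟨x, hN⟩]
      show τ' x = _
      rw [eτ' x hP, extOf_of_mem φ hP]
  · intro E hE P φ hφ
    have h1 : Dp R Aa P (extOf φ) := (mp_D (A := A)).1 (mp_of_hom hφ)
    have key : ∀ {X : Subgroup Ω} {f : Ω → Ω}, Dp R Aa X f → Mp E X f := by
      intro X f hd
      induction hd with
      | @nil X' f' hX h => exact (Mp.refl hX).congr (fun x hx => (h x hx).symm)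
      | @cons X' Y' P' g' h' f' h1 h2 h3 h4 h5 ih =>
        have h6 : Mp (mkD A) P' g' := (mp_D (A := A)).2 (Dp.edge A h1 le_rfl)
        obtain ⟨ψ, hψ, eψ⟩ := h6
        have h7 : Mp E P' g' := ⟨ψ, hE P' (A.uc h1) hψ, eψ⟩
        exact ((h7.restrict h2).comp h3.1 ih).congr (fun x hx => (h5 x hx).symm)
    exact Cfsg.Agent.Lib.FusionExt.PowerE.hom_of_mp (key h1)
  · intro P hP hPU
    exact absurd (hstar P hP) hPU

end Cfsg.Agent.Lib.FusionTheory.LiftY4
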