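import Cfsg.Agent.Lib.FusionTheory.LiftY4

/-!
# Adjoining an element of `C_S(T)`: the automizers at good subgroups (helper93)
-/

set_option autoImplicit false
set_option linter.unusedSectionVars false
set_option linter.style.haveILetI false

namespace Cfsg.Agent.Lib.FusionTheory.LiftY5

open Cfsg Cfsg.FusionSystem Cfsg.Agent.Lib.Fusion.Basic Cfsg.Agent.Lib.Fusion.GroupSystem
open Cfsg.Agent.Lib.FusionExt.MapApi Cfsg.Agent.Lib.FusionExt.PowerSys Cfsg.Agent.Lib.FusionExt.LowPi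
open Cfsg.Agent.Lib.FusionExt.PrimeRes1 Cfsg.Agent.Lib.Fusion.Saturation Cfsg.Agent.Lib.Fusion.Saturation2
open Cfsg.Agent.Lib.FusionExt.Glue1 Cfsg.Agent.Lib.FusionExt.Glue2 Cfsg.Agent.Lib.FusionExt.Normal Cfsg.Agent.Lib.FusionExt.Invariant
open Cfsg.Agent.Lib.FusionExt.Meet3 Cfsg.Agent.Lib.FusionExt.Meet4 Cfsg.Agent.Lib.Core.Residual
open Cfsg.Agent.Lib.FusionTheory.LiftY1 Cfsg.Agent.Lib.FusionTheory.LiftY2 Cfsg.Agent.Lib.FusionTheory.LiftY3 Cfsg.Agent.Lib.FusionTheory.LiftY4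

universe u

variable {Ω : Type u} [Group Ω] {S T : Subgroup Ω} {F : FusionSystem S} {E : FusionSystem T} {y : Ω} {p : ℕ}
variable {X Y W W' P Q U : Subgroup Ω} {f g h b κ : Ω → Ω}

section

variable [Finite S] [Fact p.Prime] (C : Ctx F E y p)
include C

theorem p1_aut (hWR : W ≤ Tt T y) {a : MulAut W} (ha : a ∈ (F₁ C).autGroup W) : P1 F E y W (autFun a) :=
  mp_F₁.1 (mp_autFun hWR ha)

theorem aut_of_p1 {a : MulAut W} (ha : P1 F E y W (autFun a)) : a ∈ (F₁ C).autGroup W := by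
  obtain ⟨b, hb, e⟩ := (mp_F₁ (C := C).2 ha).toAut (img_autFun a)
  have : b = a := eq_of_autFun (fun x hx => by
    rw [autFun_of_mem b hx]
    exact e ⟨x, hx⟩)
  rwa [← this]

theorem img0 (hWR : W ≤ Tt T y) {a : MulAut W} (ha : a ∈ (F₁ C).autGroup W) : Img (W ⊓ T) (autFun a) (W ⊓ T) :=
  (p1_aut C hWR ha).img_inf (img_autFun a)

theorem zz_le (hW : Uc (F₁ C) (Tt T y) W) : zz T (W ⊓ T) ≤ W ⊓ T :=
  hc_of_uc C hW _ (isConj_refl F (inf_le_right.trans C.hTS))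

/-- Two maps agreeing on `W ⊓ T` and at `y` agree. -/
theorem eq_of_over {R' : Subgroup Ω} {G : FusionSystem R'} (hWR : W ≤ Tt T y) (hy : y ∈ W) (h₁ : Mp G W f) (h₂ : Mp G W g)
    (e0 : ∀ r ∈ W ⊓ T, f r = g r) (e1 : f y = g y) : ∀ w ∈ W, f w = g w := by
  intro w hw
  obtain ⟨t, ht, k, rfl⟩ := C.exists_dec hWR hy hw
  rw [h₁.map_mul ht.1 (W.zpow_mem hy k), h₂.map_mul ht.1 (W.zpow_mem hy k), e0 t ht,
    Cfsg.Agent.Lib.FusionExt.CentE.mp_zpow h₁ hy k, Cfsg.Agent.Lib.FusionExt.CentE.mp_zpow h₂ hy k, e1]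

/-- **The kernel of restriction to `T` is central in the automizer.** -/
theorem central_K (hW : Uc (F₁ C) (Tt T y) W) {κ a : MulAut W} (hκ : κ ∈ (F₁ C).autGroup W) (hκ0 : ∀ r ∈ W ⊓ T, autFun κ r = r)
    (ha : a ∈ (F₁ C).autGroup W) : a * κ * a⁻¹ = κ := by
  have hWR := hW.1
  have hy := C.y_mem hW
  have hcz := zz_le C hW
  have hP := p1_aut C hWR hκ
  have hPa := p1_aut C hWR ha
  have hai := Subgroup.inv_mem _ ha
  have hPai := p1_aut C hWR hai
  have hz : y⁻¹ * autFun κ y ∈ zz T (W ⊓ T) :=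
    cocycle_zz C hP hy ((img_refl _).congr (fun r hr => (hκ0 r hr).symm))
  have hu : y⁻¹ * autFun a⁻¹ y ∈ zz T (W ⊓ T) := cocycle_zz C hPai hy (img0 C hWR hai)
  have hfix := kc C hW hP hκ0 hPa.me (img0 C hWR ha)
  apply eq_of_autFun
  refine eq_of_over C hWR hy (mp_autFun (F := F₁ C) hWR (Subgroup.mul_mem _ (Subgroup.mul_mem _ ha hκ) hai)) (mp_autFun hWR hκ) ?_ ?_
  · intro r hr
    rw [autFun_mul_apply, autFun_mul_apply, hκ0 _ ((img0 C hWR hai).1 r hr), autFun_apply_inv, hκ0 r hr]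
  · rw [autFun_mul_apply, autFun_mul_apply]
    set z := y⁻¹ * autFun κ y with hzd
    set u := y⁻¹ * autFun a⁻¹ y with hud
    have e1 : autFun a⁻¹ y = y * u := by rw [hud]; group
    have e2 : autFun κ y = y * z := by rw [hzd]; group
    clear_value z u
    have hzW := (hcz hz).1
    have huW := (hcz hu).1
    rw [e1, autFun_mul κ hy huW, hκ0 u (hcz hu), e2]
    have hcomm : u * z = z * u := (mem_zz.1 hz).2 u (hcz hu)
    have e3 : y * z * u = y * u * z := by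
      calc y * z * u = y * (z * u) := by rw [mul_assoc]
        _ = y * (u * z) := by rw [hcomm]
        _ = y * u * z := by rw [mul_assoc]
    rw [e3, autFun_mul a (W.mul_mem hy huW) hzW, ← e1, autFun_apply_inv, hfix]

/-- The kernel of restriction consists of `p`-elements. -/
theorem pow_K (hW : Uc (F₁ C) (Tt T y) W) {κ : MulAut W} (hκ : κ ∈ (F₁ C).autGroup W) (hκ0 : ∀ r ∈ W ⊓ T, autFun κ r = r) :
    ∃ k : ℕ, κ ^ p ^ k = 1 := by
  have hWR := hW.1
  have hy := C.y_mem hW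
  have hcz := zz_le C hW
  have hP := p1_aut C hWR hκ
  have hz : y⁻¹ * autFun κ y ∈ zz T (W ⊓ T) :=
    cocycle_zz C hP hy ((img_refl _).congr (fun r hr => (hκ0 r hr).symm))
  set z := y⁻¹ * autFun κ y with hzd
  have e2 : autFun κ y = y * z := by rw [hzd]; group
  clear_value z
  have hzT : z ∈ T := (mem_zz.1 hz).1
  obtain ⟨k, hk⟩ := C.hTp ⟨z, hzT⟩
  have hk' : z ^ p ^ k = 1 := congrArg Subtype.val hk
  have hit0 : ∀ n : ℕ, ∀ r ∈ W ⊓ T, autFun (κ ^ n) r = r := by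
    intro n
    induction n with
    | zero =>
      intro r _
      rw [pow_zero, autFun_one_apply]
    | succ n ih =>
      intro r hr
      rw [pow_succ, autFun_mul_apply, hκ0 r hr, ih r hr]
  have hit : ∀ n : ℕ, autFun (κ ^ n) y = y * z ^ n := by
    intro n
    induction n with
    | zero => rw [pow_zero, autFun_one_apply, pow_zero, mul_one]
    | succ n ih =>
      rw [pow_succ, autFun_mul_apply, e2, autFun_mul _ hy (hcz hz).1, ih, hit0 n z (hcz hz), mul_assoc, ← pow_succ]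
  refine ⟨k, ?_⟩
  apply eq_of_autFun
  refine eq_of_over C hWR hy (mp_autFun (F := F₁ C) hWR (Subgroup.pow_mem _ hκ _)) (mp_autFun hWR (Subgroup.one_mem _)) ?_ ?_
  · intro r hr
    rw [hit0 _ r hr, autFun_one_apply]
  · rw [hit, hk', mul_one, autFun_one_apply]

end

/-- The elements of the automizer inducing an element of `Aut_T(W ⊓ T)`. -/
def Psi (C : Ctx F E y p) (W : Subgroup Ω) : Subgroup (MulAut W) where
  carrier := {γ | γ ∈ (F₁ C).autGroup W ∧ ∃ t ∈ normalizerIn T (W ⊓ T), ∀ r ∈ W ⊓ T, autFun γ r = t * r * t⁻¹}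
  one_mem' := ⟨Subgroup.one_mem _, 1, Subgroup.one_mem _, fun r _ => by
    rw [autFun_one_apply]
    group⟩
  mul_mem' := by
    rintro a b ⟨h1, s, hs, e1⟩ ⟨h2, t, ht, e2⟩
    refine ⟨Subgroup.mul_mem _ h1 h2, s * t, Subgroup.mul_mem _ hs ht, fun r hr => ?_⟩
    rw [autFun_mul_apply, e2 r hr, e1 _ (norm_conj ht.2 hr)]
    group
  inv_mem' := by
    rintro a ⟨h1, t, ht, e⟩
    refine ⟨Subgroup.inv_mem _ h1, t⁻¹, Subgroup.inv_mem _ ht, fun r hr => ?_⟩
    have hr' : t⁻¹ * r * t⁻¹⁻¹ ∈ W ⊓ T := norm_conj (Subgroup.inv_mem _ ht.2) hr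
    have h3 := e _ hr'
    have h4 : t * (t⁻¹ * r * t⁻¹⁻¹) * t⁻¹ = r := by group
    rw [h4] at h3
    calc autFun a⁻¹ r = autFun a⁻¹ (autFun a (t⁻¹ * r * t⁻¹⁻¹)) := by rw [h3]
      _ = _ := autFun_inv_apply a _

section

variable [Finite S] [Fact p.Prime] (C : Ctx F E y p)
include C

/-- An element of `N_T(W ⊓ T)` normalizes `W`. -/
theorem norm_W (hWR : W ≤ Tt T y) (hy : y ∈ W) {t : Ω} (ht : t ∈ normalizerIn T (W ⊓ T)) : t ∈ normalizerIn (Tt T y) W := by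
  haveI : Finite W := finite_of_le (hWR.trans C.TtS)
  refine ⟨le_Tt ht.1, mem_normalizer_of_conj_le' (fun x hx => ?_)⟩
  obtain ⟨r, hr, k, rfl⟩ := C.exists_dec hWR hy hx
  have h1 := C.comm' (k := k) ht.1
  have e : t * (r * y ^ k) * t⁻¹ = (t * r * t⁻¹) * y ^ k := by
    calc t * (r * y ^ k) * t⁻¹ = t * r * (y ^ k * t⁻¹) := by group
      _ = t * r * (t⁻¹ * (t * y ^ k) * t⁻¹) := by group
      _ = t * r * (t⁻¹ * (y ^ k * t) * t⁻¹) := by rw [h1]
      _ = _ := by group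
  rw [e]
  exact W.mul_mem (norm_conj ht.2 hr).1 (W.zpow_mem hy k)

/-- An element of `T⟨y⟩` normalizing `W` induces an element of `T` normalizing `W`. -/
theorem split_norm (hWR : W ≤ Tt T y) {t : Ω} (ht : t ∈ normalizerIn (Tt T y) W) :
    ∃ s ∈ normalizerIn T W, (∀ x ∈ Tt T y, t * x * t⁻¹ = s * x * s⁻¹) := by
  obtain ⟨s, hs, k, rfl⟩ := C.mem_Tt.1 ht.1
  have key : ∀ x ∈ Tt T y, s * y ^ k * x * (s * y ^ k)⁻¹ = s * x * s⁻¹ := by
    intro x hx
    have h1 := C.central_zpow (k := k) hx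
    calc s * y ^ k * x * (s * y ^ k)⁻¹ = s * (y ^ k * x) * y ^ (-k) * s⁻¹ := by
          simp only [mul_inv_rev, zpow_neg]; group
      _ = s * (x * y ^ k) * y ^ (-k) * s⁻¹ := by rw [h1]
      _ = _ := by group
  haveI : Finite W := finite_of_le (hWR.trans C.TtS)
  refine ⟨s, ⟨hs, mem_normalizer_of_conj_le' (fun x hx => ?_)⟩, key⟩
  rw [← key x (hWR hx)]
  exact norm_conj ht.2 hx

/-- Elements of the group `Psi`. -/
theorem mem_Psi {γ : MulAut W} : γ ∈ Psi C W ↔ γ ∈ (F₁ C).autGroup W ∧ ∃ t ∈ normalizerIn T (W ⊓ T), ∀ r ∈ W ⊓ T, autFun γ r = t * r * t⁻¹ := Iff.rfl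

/-- **`Psi` is a Sylow subgroup of the automizer in the ambient system.** -/
theorem syl_psi (hW : Uc (F₁ C) (Tt T y) W) (hfn : E.IsFullyNormalized (W ⊓ T)) : IsSylowIn p (Psi C W) ((F₁ C).autGroup W) := by
  have hWR := hW.1
  have hy := C.y_mem hW
  haveI : Finite T := finite_of_le C.hTS
  haveI : Finite (Tt T y) := C.finite_T
  haveI : Finite W := finite_of_le (hWR.trans C.TtS)
  haveI : Finite (MulAut W) := Cfsg.Agent.Lib.Fusion.Basic.finite_mulAut_of_finite (A := W)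
  have hW0T : W ⊓ T ≤ T := inf_le_right
  haveI : Finite ↥(W ⊓ T) := finite_of_le (hW0T.trans C.hTS)
  haveI : Finite (MulAut ↥(W ⊓ T)) := Cfsg.Agent.Lib.Fusion.Basic.finite_mulAut_of_finite (A := ↥(W ⊓ T))
  have hle : Psi C W ≤ (F₁ C).autGroup W := fun γ hγ => hγ.1
  have hFA := isFullyAutomized_of_isFullyNormalized E C.hTp C.hEs hfn
  have hmax := (isFullyAutomized_iff (F := E) C.hTp hW0T).1 hFA
  rw [isSylowIn_iff_maximal hle]
  refine ⟨isPGroup_of_pow_eq_one (fun γ hγ => ?_), fun D hD hDp hΨD => ?_⟩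
  · obtain ⟨hγΓ, t, ht, e⟩ := hγ
    obtain ⟨a, ha⟩ := C.hTp ⟨t, ht.1⟩
    have ha' : t ^ p ^ a = 1 := congrArg Subtype.val ha
    have hpow : ∀ n : ℕ, ∀ r ∈ W ⊓ T, autFun (γ ^ n) r = t ^ n * r * (t ^ n)⁻¹ := by
      intro n
      induction n with
      | zero =>
        intro r _
        rw [pow_zero, autFun_one_apply]
        group
      | succ n ih =>
        intro r hr
        rw [pow_succ, autFun_mul_apply, e r hr, ih _ (norm_conj ht.2 hr), pow_succ]
        group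
    obtain ⟨k, hk⟩ := pow_K C hW (Subgroup.pow_mem _ hγΓ (p ^ a)) (fun r hr => by
      rw [hpow _ r hr, ha']
      group)
    refine ⟨a + k, ?_⟩
    rw [pow_add, pow_mul, hk]
  · apply le_antisymm _ hΨD
    intro γ hγ
    -- the restriction of `D` to `W ⊓ T`
    let D₀ : Subgroup (MulAut ↥(W ⊓ T)) :=
      { carrier := {a | ∃ γ ∈ D, ∀ r ∈ W ⊓ T, autFun a r = autFun γ r}
        one_mem' := ⟨1, D.one_mem, fun r _ => by rw [autFun_one_apply, autFun_one_apply]⟩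
        mul_mem' := by
          rintro a b ⟨g₁, h1, e1⟩ ⟨g₂, h2, e2⟩
          refine ⟨g₁ * g₂, D.mul_mem h1 h2, fun r hr => ?_⟩
          rw [autFun_mul_apply, autFun_mul_apply, e2 r hr, ← e2 r hr, e1 _ (autFun_mem b hr), e2 r hr]
        inv_mem' := by
          rintro a ⟨g₁, h1, e1⟩
          refine ⟨g₁⁻¹, D.inv_mem h1, fun r hr => ?_⟩
          have hr' := autFun_mem a⁻¹ hr
          have h3 := e1 _ hr'
          rw [autFun_apply_inv] at h3
          calc autFun a⁻¹ r = autFun g₁⁻¹ (autFun g₁ (autFun a⁻¹ r)) := (autFun_inv_apply g₁ _).symm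
            _ = autFun g₁⁻¹ r := by rw [← h3] }
    have hD₀le : D₀ ≤ E.autGroup (W ⊓ T) := by
      rintro a ⟨g₁, h1, e1⟩
      have hm : Mp E (W ⊓ T) (autFun a) := (p1_aut C hWR (hD h1)).me.congr (fun r hr => (e1 r hr).symm)
      obtain ⟨b, hb, eb⟩ := hm.toAut (img_autFun a)
      have : b = a := eq_of_autFun (fun x hx => by
        rw [autFun_of_mem b hx]
        exact eb ⟨x, hx⟩)
      rwa [← this]
    have hD₀p : IsPGroup p D₀ := by
      refine isPGroup_of_pow_eq_one (fun a ha => ?_)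
      obtain ⟨g₁, h1, e1⟩ := ha
      obtain ⟨k, hk⟩ := hDp ⟨g₁, h1⟩
      have hk' : g₁ ^ p ^ k = 1 := congrArg Subtype.val hk
      have hpow : ∀ n : ℕ, ∀ r ∈ W ⊓ T, autFun (a ^ n) r = autFun (g₁ ^ n) r := by
        intro n
        induction n with
        | zero =>
          intro r _
          rw [pow_zero, pow_zero, autFun_one_apply, autFun_one_apply]
        | succ n ih =>
          intro r hr
          rw [pow_succ, pow_succ, autFun_mul_apply, autFun_mul_apply, e1 r hr, ← e1 r hr, ih _ (autFun_mem a hr), e1 r hr]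
      refine ⟨k, eq_one_of_fun (fun r hr => ?_)⟩
      rw [hpow _ r hr, hk', autFun_one_apply]
    have hAD₀ : autInducedBy T (W ⊓ T) ≤ D₀ := by
      intro c hc
      obtain ⟨t, ht, et⟩ := inT_iff.1 hc
      have htN := norm_W C hWR hy ht
      refine ⟨normAct W htN.2, hΨD ⟨?_, t, ht, fun r hr => normAct_fun htN.2 hr.1⟩, fun r hr => ?_⟩
      · exact autInducedBy_le_autGroup (F₁ C) hWR (normAct_mem_autInducedBy (Tt T y) W htN.2 htN.1)
      · rw [et r hr, normAct_fun htN.2 hr.1]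
    have hD₀e := hmax D₀ hD₀p hD₀le hAD₀
    have hγΓ := hD hγ
    obtain ⟨a, -, ea⟩ := (p1_aut C hWR hγΓ).me.toAut (img0 C hWR hγΓ)
    have ea' : ∀ r ∈ W ⊓ T, autFun a r = autFun γ r := fun r hr => by
      rw [autFun_of_mem a hr]
      exact ea ⟨r, hr⟩
    have haD : a ∈ D₀ := ⟨γ, hγ, ea'⟩
    rw [hD₀e] at haD
    obtain ⟨t, ht, et⟩ := inT_iff.1 haD
    exact ⟨hγΓ, t, ht, fun r hr => by rw [← ea' r hr, et r hr]⟩

end

end Cfsg.Agent.Lib.FusionTheory.LiftY5
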