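import Cfsg.Agent.Lib.FusionTheory.LiftY5

/-!
# Adjoining an element of `C_S(T)`: the candidate automizer at a good subgroup (helper93)
-/

set_option autoImplicit false
set_option linter.unusedSectionVars false
set_option linter.style.haveILetI false

namespace Cfsg.Agent.Lib.FusionTheory.LiftY6

open Cfsg Cfsg.FusionSystem Cfsg.Agent.Lib.Fusion.Basic Cfsg.Agent.Lib.Fusion.GroupSystem
open Cfsg.Agent.Lib.FusionExt.MapApi Cfsg.Agent.Lib.FusionExt.PowerSys Cfsg.Agent.Lib.FusionExt.LowPi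
open Cfsg.Agent.Lib.FusionExt.PrimeRes1 Cfsg.Agent.Lib.Fusion.Saturation Cfsg.Agent.Lib.Fusion.Saturation2
open Cfsg.Agent.Lib.FusionExt.Glue1 Cfsg.Agent.Lib.FusionExt.Glue2 Cfsg.Agent.Lib.FusionExt.Normal Cfsg.Agent.Lib.FusionExt.Invariant
open Cfsg.Agent.Lib.FusionExt.Meet3 Cfsg.Agent.Lib.FusionExt.Meet4 Cfsg.Agent.Lib.Core.Residual
open Cfsg.Agent.Lib.FusionTheory.LiftY1 Cfsg.Agent.Lib.FusionTheory.LiftY2 Cfsg.Agent.Lib.FusionTheory.LiftY3 Cfsg.Agent.Lib.FusionTheory.LiftY4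
open Cfsg.Agent.Lib.FusionTheory.LiftY5

universe u

variable {Ω : Type u} [Group Ω] {S T : Subgroup Ω} {F : FusionSystem S} {E : FusionSystem T} {y : Ω} {p : ℕ}
variable {X Y W W' P Q U : Subgroup Ω} {f g h b κ : Ω → Ω}

/-- Extension along a receptive target, by one element of the extender. -/
theorem ext_one (hQ : E.IsReceptive Q) (hf : Mp E X f) (hi : Img X f Q) {t : Ω} (ht : t ∈ T)
    (hN : t ∈ Subgroup.normalizer (X : Set Ω)) {a : Ω} (ha : a ∈ T) (h : ∀ x ∈ X, f (t * x * t⁻¹) = a * f x * a⁻¹) :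
    ∃ g, Mp E (X ⊔ Subgroup.zpowers t) g ∧ ∀ x ∈ X, g x = f x := by
  have hf' := hf
  obtain ⟨φ, hφ, e⟩ := hf
  have hr : φ.range = Q := Mp.range_eq e hi
  have hT : X ⊔ Subgroup.zpowers t ≤ extender T X φ := by
    refine sup_le (fun z hz => ?_) ((Subgroup.zpowers_le).2 ?_)
    · have hN' : z ∈ Subgroup.normalizer (X : Set Ω) := Subgroup.le_normalizer hz
      refine mem_extender_of φ (hf'.le hz) hN' (hf'.mem_S hz) (fun x => ?_)
      rw [e, e]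
      exact hf'.map_conj hz x.2
    · refine mem_extender_of φ ht hN ha (fun x => ?_)
      rw [e, e]
      exact h x x.2
  obtain ⟨ψ, hψ, hext⟩ := IsReceptive.exists_extension E hQ hφ hr hT le_sup_left
  refine ⟨extOf ψ, mp_of_hom hψ, fun x hx => ?_⟩
  rw [extOf_of_mem ψ (Subgroup.mem_sup_left hx), ← e ⟨x, hx⟩]
  exact hext ⟨x, hx⟩

section

variable [Finite S] [Fact p.Prime] (C : Ctx F E y p)
include C

/-- A `P1` map on `W ∋ y` carrying `W ⊓ T` to a subgroup with `zz ≤` carries `W` into the join. -/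
theorem maps_W (hWR : W ≤ Tt T y) (hy : y ∈ W) (hP : P1 F E y W g) {W₂ : Subgroup Ω} (hy₂ : y ∈ W₂)
    (hi : Img (W ⊓ T) g (W₂ ⊓ T)) (hcz : zz T (W₂ ⊓ T) ≤ W₂ ⊓ T) : ∀ w ∈ W, g w ∈ W₂ := by
  have hu := hcz (cocycle_zz C hP hy hi)
  have e : g y = y * (y⁻¹ * g y) := by group
  intro w hw
  obtain ⟨r, hr, k, rfl⟩ := C.exists_dec hWR hy hw
  rw [hP.mp.map_mul hr.1 (W.zpow_mem hy k), Cfsg.Agent.Lib.FusionExt.CentE.mp_zpow hP.mp hy k]
  refine W₂.mul_mem (hi.1 r hr).1 (W₂.zpow_mem ?_ k)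
  rw [e]
  exact W₂.mul_mem hy₂ hu.1

/-- **The focal step.** -/
theorem focal_step (hW : Uc (F₁ C) (Tt T y) W) (hfn : E.IsFullyNormalized (W ⊓ T)) {a : MulAut W} (ha : a ∈ (F₁ C).autGroup W)
    {t : Ω} (ht : t ∈ normalizerIn T (W ⊓ T)) (htN : t ∈ Subgroup.normalizer (W : Set Ω))
    (hmem : a * normAct W htN * a⁻¹ ∈ Psi C W) : a * normAct W htN * a⁻¹ ∈ autInducedBy (Tt T y) W := by
  have hWR := hW.1
  have hy := C.y_mem hW
  haveI : Finite T := finite_of_le C.hTS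
  haveI : Finite (Tt T y) := C.finite_T
  haveI : Finite W := finite_of_le (hWR.trans C.TtS)
  have hP := p1_aut C hWR ha
  have hW0T : W ⊓ T ≤ T := inf_le_right
  have hr := isReceptive_of_isFullyNormalized E C.hTp C.hEs hfn
  have hai := img0 C hWR ha
  obtain ⟨hmem1, t', ht', et'⟩ := hmem
  -- the extension of `α = a` on `W ⊓ T`
  obtain ⟨αx, hαx, hαxe⟩ := ext_one hr hP.me hai ht.1 ht.2 ht'.1 (fun r₀ hr₀ => by
    have h1 := et' _ (hai.1 r₀ hr₀)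
    rw [autFun_mul_apply, autFun_mul_apply, autFun_inv_apply, normAct_fun htN hr₀.1] at h1
    exact h1)
  set X₁ := (W ⊓ T) ⊔ Subgroup.zpowers t with hX₁
  have hX₁T : X₁ ≤ T := sup_le hW0T ((Subgroup.zpowers_le).2 ht.1)
  have hover : (W ⊔ X₁) ⊓ T = X₁ := over_sup C hWR hy hX₁T le_sup_left
  have hUc₁ : Uc (F₁ C) (Tt T y) (W ⊔ X₁) := Uc.up hW le_sup_left (sup_le hWR (hX₁T.trans le_Tt))
  obtain ⟨G₁, hG₁, hG₁e⟩ := lift_P1 C hUc₁ (f := αx) (by rw [hover]; exact hαx)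
  rw [hover] at hG₁e
  have hG₁W : P1 F E y W G₁ := hG₁.restrict le_sup_left
  have hW0X₁ : W ⊓ T ≤ X₁ := le_sup_left
  have hG₁0 : ∀ r ∈ W ⊓ T, G₁ r = autFun a r := fun r hr => by rw [hG₁e r (hW0X₁ hr), hαxe r hr]
  have hi0 : Img (W ⊓ T) G₁ (W ⊓ T) := hai.congr (fun r hr => (hG₁0 r hr).symm)
  have hm := maps_W C hWR hy hG₁W hy hi0 (zz_le C hW)
  have hiW : Img W G₁ W := img_self (mp_F₁ (C := C).2 hG₁W) hm
  obtain ⟨a₁, -, ea₁⟩ := (mp_F₁ (C := C).2 hG₁W).toAut hiW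
  have ea₁' : ∀ x ∈ W, autFun a₁ x = G₁ x := fun x hx => by
    rw [autFun_of_mem a₁ hx]
    exact ea₁ ⟨x, hx⟩
  have ha₁ : a₁ ∈ (F₁ C).autGroup W := aut_of_p1 C (hG₁W.congr (fun x hx => (ea₁' x hx).symm))
  -- the central part
  set κ₀ : MulAut W := a * a₁⁻¹ with hκ₀
  have hκ₀Γ : κ₀ ∈ (F₁ C).autGroup W := Subgroup.mul_mem _ ha (Subgroup.inv_mem _ ha₁)
  have hκ₀0 : ∀ r ∈ W ⊓ T, autFun κ₀ r = r := by
    intro r hr
    have h1 := img0 C hWR (Subgroup.inv_mem _ ha₁)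
    have h2 := h1.1 r hr
    rw [hκ₀, autFun_mul_apply, ← hG₁0 _ h2, ← ea₁' _ h2.1, autFun_apply_inv]
  have hc := normAct_mem_autInducedBy (Tt T y) W htN (le_Tt ht.1)
  have hcΓ : normAct W htN ∈ (F₁ C).autGroup W := autInducedBy_le_autGroup (F₁ C) hWR hc
  have hd : a₁ * normAct W htN * a₁⁻¹ ∈ (F₁ C).autGroup W :=
    Subgroup.mul_mem _ (Subgroup.mul_mem _ ha₁ hcΓ) (Subgroup.inv_mem _ ha₁)
  have hcen := central_K C hW hκ₀Γ hκ₀0 hd
  have e0 : a = κ₀ * a₁ := by rw [hκ₀]; group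
  have e1 : a * normAct W htN * a⁻¹ = a₁ * normAct W htN * a₁⁻¹ := by
    have h2 : (a₁ * normAct W htN * a₁⁻¹) * κ₀ = κ₀ * (a₁ * normAct W htN * a₁⁻¹) := by
      generalize a₁ * normAct W htN * a₁⁻¹ = d at hcen ⊢
      calc d * κ₀ = (d * κ₀ * d⁻¹) * d := by group
        _ = κ₀ * d := by rw [hcen]
    calc a * normAct W htN * a⁻¹ = κ₀ * (a₁ * normAct W htN * a₁⁻¹) * κ₀⁻¹ := by rw [e0]; group
      _ = (a₁ * normAct W htN * a₁⁻¹) * κ₀ * κ₀⁻¹ := by rw [h2]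
      _ = _ := by group
  rw [e1]
  -- the conjugation by `G₁ t`
  have htX : t ∈ W ⊔ X₁ := Subgroup.mem_sup_right (Subgroup.mem_sup_right (Subgroup.mem_zpowers t))
  have hG₁t : G₁ t ∈ T := hG₁.mem_T htX ht.1
  have key : ∀ w ∈ W, autFun (a₁ * normAct W htN * a₁⁻¹) w = G₁ t * w * (G₁ t)⁻¹ := by
    intro w hw
    have hw' := autFun_mem a₁⁻¹ hw
    rw [autFun_mul_apply, autFun_mul_apply, normAct_fun htN hw', ea₁' _ (norm_conj htN hw'),
      hG₁.mp.map_conj htX (Subgroup.mem_sup_left hw'), ← ea₁' _ hw', autFun_apply_inv]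
  refine inT_iff.2 ⟨G₁ t, ⟨le_Tt hG₁t, mem_normalizer_of_conj_le' (fun w hw => ?_)⟩, key⟩
  rw [← key w hw]
  exact autFun_mem _ hw

/-- `Aut_{T⟨y⟩}(W)` lies in `Psi`. -/
theorem P0_le_Psi (hW : Uc (F₁ C) (Tt T y) W) : autInducedBy (Tt T y) W ≤ Psi C W := by
  have hWR := hW.1
  haveI : Finite W := finite_of_le (hWR.trans C.TtS)
  intro c hc
  refine ⟨autInducedBy_le_autGroup (F₁ C) hWR hc, ?_⟩
  obtain ⟨t, ht, e⟩ := inT_iff.1 hc
  obtain ⟨s, hs, es⟩ := split_norm C hWR ht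
  haveI : Finite ↥(W ⊓ T) := finite_of_le (inf_le_left.trans (hWR.trans C.TtS))
  refine ⟨s, ⟨hs.1, mem_normalizer_of_conj_le' (fun r hr => ⟨norm_conj hs.2 hr.1, T.mul_mem (T.mul_mem hs.1 hr.2) (T.inv_mem hs.1)⟩)⟩,
    fun r hr => ?_⟩
  rw [e r hr.1]
  exact es r (hWR hr.1)

/-- Elements of `Psi` are, up to central elements, in `Aut_T(W)`. -/
theorem psi_dec (hW : Uc (F₁ C) (Tt T y) W) {x : MulAut W} (hx : x ∈ Psi C W) :
    ∃ c ∈ autInducedBy (Tt T y) W, (x * c⁻¹) ∈ (F₁ C).autGroup W ∧ (∀ r ∈ W ⊓ T, autFun (x * c⁻¹) r = r) := by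
  have hWR := hW.1
  have hy := C.y_mem hW
  obtain ⟨hxΓ, t, ht, e⟩ := hx
  have htN := norm_W C hWR hy ht
  have hc := normAct_mem_autInducedBy (Tt T y) W htN.2 htN.1
  refine ⟨_, hc, Subgroup.mul_mem _ hxΓ (Subgroup.inv_mem _ (autInducedBy_le_autGroup (F₁ C) hWR hc)), fun r hr => ?_⟩
  have h1 : autFun (normAct W htN.2)⁻¹ r = t⁻¹ * r * t := by
    have hr' : t⁻¹ * r * t ∈ W ⊓ T := conj_inv_mem ht.2 hr
    have h2 := normAct_fun htN.2 hr'.1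
    have h3 : t * (t⁻¹ * r * t) * t⁻¹ = r := by group
    rw [h3] at h2
    calc autFun (normAct W htN.2)⁻¹ r = autFun (normAct W htN.2)⁻¹ (autFun (normAct W htN.2) (t⁻¹ * r * t)) := by rw [h2]
      _ = _ := autFun_inv_apply _ _
  rw [autFun_mul_apply, h1, e _ (conj_inv_mem ht.2 hr)]
  group

/-- Central elements commute with the automizer. -/
theorem comm_K (hW : Uc (F₁ C) (Tt T y) W) {κ d : MulAut W} (hκ : κ ∈ (F₁ C).autGroup W) (hκ0 : ∀ r ∈ W ⊓ T, autFun κ r = r)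
    (hd : d ∈ (F₁ C).autGroup W) : κ * d * κ⁻¹ = d := by
  have h := central_K C hW hκ hκ0 hd
  calc κ * d * κ⁻¹ = (d * κ * d⁻¹)⁻¹ ⁻¹ * d * κ⁻¹ := by rw [inv_inv, h]
    _ = d * κ * d⁻¹ * d * κ⁻¹ := by rw [inv_inv]
    _ = d := by group

/-- **The focal condition.** -/
theorem hfoc (hW : Uc (F₁ C) (Tt T y) W) (hfn : E.IsFullyNormalized (W ⊓ T)) :
    ∀ g ∈ (F₁ C).autGroup W, ∀ x ∈ Psi C W, g * x * g⁻¹ ∈ Psi C W → x⁻¹ * (g * x * g⁻¹) ∈ autInducedBy (Tt T y) W := by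
  intro a ha x hx hax
  have hWR := hW.1
  have hy := C.y_mem hW
  obtain ⟨hxΓ, t, ht, e⟩ := id hx
  have htN := norm_W C hWR hy ht
  have hc := normAct_mem_autInducedBy (Tt T y) W htN.2 htN.1
  have hcΓ := autInducedBy_le_autGroup (F₁ C) hWR hc
  set c := normAct W htN.2 with hcd
  have h1 : autFun c⁻¹ = autFun c⁻¹ := rfl
  have hκ : x * c⁻¹ ∈ (F₁ C).autGroup W := Subgroup.mul_mem _ hxΓ (Subgroup.inv_mem _ hcΓ)
  have hκ0 : ∀ r ∈ W ⊓ T, autFun (x * c⁻¹) r = r := by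
    intro r hr
    have hr' : t⁻¹ * r * t ∈ W ⊓ T := conj_inv_mem ht.2 hr
    have h2 : autFun c (t⁻¹ * r * t) = r := by
      rw [hcd, normAct_fun htN.2 hr'.1]
      group
    have h3 : autFun c⁻¹ r = t⁻¹ * r * t := by
      conv_lhs => rw [← h2]
      exact autFun_inv_apply _ _
    rw [autFun_mul_apply, h3, e _ hr']
    group
  have hcen := central_K C hW hκ hκ0 ha
  have hκΨ : x * c⁻¹ ∈ Psi C W := ⟨hκ, 1, Subgroup.one_mem _, fun r hr => by rw [hκ0 r hr]; group⟩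
  have e2 : a * c * a⁻¹ = (x * c⁻¹)⁻¹ * (a * x * a⁻¹) := by
    have e3 : a * x * a⁻¹ = (a * (x * c⁻¹) * a⁻¹) * (a * c * a⁻¹) := by group
    rw [e3, hcen]
    group
  have hacΨ : a * c * a⁻¹ ∈ Psi C W := by
    rw [e2]
    exact Subgroup.mul_mem _ (Subgroup.inv_mem _ hκΨ) hax
  have hacP := focal_step C hW hfn ha ht htN.2 hacΨ
  have e4 : x⁻¹ * (a * x * a⁻¹) = c⁻¹ * (a * c * a⁻¹) := by
    have e5 : a * x * a⁻¹ = (x * c⁻¹) * (a * c * a⁻¹) := by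
      rw [e2]
      group
    rw [e5]
    group
  rw [e4]
  exact Subgroup.mul_mem _ (Subgroup.inv_mem _ hc) hacP

end

end Cfsg.Agent.Lib.FusionTheory.LiftY6
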