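import Cfsg.Agent.Lib.FusionTheory.LiftY6

/-!
# Adjoining an element of `C_S(T)`: the automizer of the system of `p`-power index (helper93)
-/

set_option autoImplicit false
set_option linter.unusedSectionVars false
set_option linter.style.haveILetI false

namespace Cfsg.Agent.Lib.FusionTheory.LiftY7

open Cfsg Cfsg.FusionSystem Cfsg.Agent.Lib.Fusion.Basic Cfsg.Agent.Lib.Fusion.GroupSystem
open Cfsg.Agent.Lib.FusionExt.MapApi Cfsg.Agent.Lib.FusionExt.PowerSys Cfsg.Agent.Lib.FusionExt.LowPi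
open Cfsg.Agent.Lib.FusionExt.PrimeRes1 Cfsg.Agent.Lib.Fusion.Saturation Cfsg.Agent.Lib.Fusion.Saturation2
open Cfsg.Agent.Lib.FusionExt.Glue1 Cfsg.Agent.Lib.FusionExt.Glue2 Cfsg.Agent.Lib.FusionExt.Normal Cfsg.Agent.Lib.FusionExt.Invariant
open Cfsg.Agent.Lib.FusionExt.Meet3 Cfsg.Agent.Lib.FusionExt.Meet4 Cfsg.Agent.Lib.Core.Residual
open Cfsg.Agent.Lib.FusionTheory.LiftY1 Cfsg.Agent.Lib.FusionTheory.LiftY2 Cfsg.Agent.Lib.FusionTheory.LiftY3 Cfsg.Agent.Lib.FusionTheory.LiftY4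
open Cfsg.Agent.Lib.FusionTheory.LiftY5 Cfsg.Agent.Lib.FusionTheory.LiftY6

universe u

variable {Ω : Type u} [Group Ω] {S T : Subgroup Ω} {F : FusionSystem S} {E : FusionSystem T} {y : Ω} {p : ℕ}
variable {X Y W W' P Q U : Subgroup Ω} {f g h b κ : Ω → Ω}

/-- The automizer of the system of `p`-power index. -/
noncomputable def Ac (C : Ctx F E y p) (W : Subgroup Ω) : Subgroup (MulAut W) :=
  autInducedBy (Tt T y) W ⊔ (pResidual p ((F₁ C).autGroup W)).map ((F₁ C).autGroup W).subtype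

section

variable [Finite S] [Fact p.Prime] (C : Ctx F E y p)
include C

/-- The elements of `Psi` normalize `Aut_{T⟨y⟩}(W)`. -/
theorem psi_norm (hW : Uc (F₁ C) (Tt T y) W) {π c : MulAut W} (hπ : π ∈ Psi C W) (hc : c ∈ autInducedBy (Tt T y) W) :
    π * c * π⁻¹ ∈ autInducedBy (Tt T y) W := by
  have hWR := hW.1
  obtain ⟨c₂, hc₂, hκ, hκ0⟩ := psi_dec C hW hπ
  have hcΓ := autInducedBy_le_autGroup (F₁ C) hWR hc
  have hc₂Γ := autInducedBy_le_autGroup (F₁ C) hWR hc₂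
  have hd : c₂ * c * c₂⁻¹ ∈ (F₁ C).autGroup W := Subgroup.mul_mem _ (Subgroup.mul_mem _ hc₂Γ hcΓ) (Subgroup.inv_mem _ hc₂Γ)
  have h1 := comm_K C hW hκ hκ0 hd
  have e : π * c * π⁻¹ = (π * c₂⁻¹) * (c₂ * c * c₂⁻¹) * (π * c₂⁻¹)⁻¹ := by group
  rw [e, h1]
  exact Subgroup.mul_mem _ (Subgroup.mul_mem _ hc₂ hc) (Subgroup.inv_mem _ hc₂)

theorem psi_le : Psi C W ≤ (F₁ C).autGroup W := fun _ h => h.1

/-- `Ac` is invariant under `Psi`. -/
theorem psi_Ac (hW : Uc (F₁ C) (Tt T y) W) {π x : MulAut W} (hπ : π ∈ Psi C W) (hx : x ∈ Ac C W) : π * x * π⁻¹ ∈ Ac C W := by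
  have hWR := hW.1
  haveI : Finite W := finite_of_le (hWR.trans C.TtS)
  haveI : Finite (MulAut W) := Cfsg.Agent.Lib.Fusion.Basic.finite_mulAut_of_finite (A := W)
  have hle : Ac C W ≤ (Ac C W).comap (MulAut.conj π).toMonoidHom := by
    refine sup_le (fun c hc => ?_) (fun o ho => ?_)
    · exact Subgroup.mem_sup_left (psi_norm C hW hπ hc)
    · exact Subgroup.mem_sup_right (res_normal (psi_le C hπ) ho)
  exact hle hx

/-- `Ac` is normal in the automizer. -/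
theorem conj_Ac (hW : Uc (F₁ C) (Tt T y) W) (hfn : E.IsFullyNormalized (W ⊓ T)) {b c : MulAut W} (hb : b ∈ (F₁ C).autGroup W)
    (hc : c ∈ Ac C W) : b * c * b⁻¹ ∈ Ac C W := by
  have hWR := hW.1
  haveI : Finite W := finite_of_le (hWR.trans C.TtS)
  haveI : Finite (MulAut W) := Cfsg.Agent.Lib.Fusion.Basic.finite_mulAut_of_finite (A := W)
  have hΓ : Psi C W ⊔ (pResidual p ((F₁ C).autGroup W)).map ((F₁ C).autGroup W).subtype = (F₁ C).autGroup W :=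
    sup_res (syl_psi C hW hfn) (psi_le C)
  have hle : (F₁ C).autGroup W ≤ Subgroup.normalizer (Ac C W : Set (MulAut W)) := by
    rw [← hΓ]
    refine sup_le (fun π hπ => ?_) (fun o ho => Subgroup.le_normalizer (Subgroup.mem_sup_right ho))
    rw [Subgroup.mem_normalizer_iff]
    intro x
    refine ⟨fun hx => psi_Ac C hW hπ hx, fun hx => ?_⟩
    have := psi_Ac C hW (Subgroup.inv_mem _ hπ) hx
    have e : π⁻¹ * (π * x * π⁻¹) * π⁻¹⁻¹ = x := by group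
    rwa [e] at this
  exact (Subgroup.mem_normalizer_iff.1 (hle hb) c).1 hc

/-- One inclusion. -/
theorem Ac_le_AQ (hW : Uc (F₁ C) (Tt T y) W) : Ac C W ≤ AQ (F₁ C) p W := by
  have hWR := hW.1
  refine sup_le (fun c hc => mem_AQ_inner hWR hc) ?_
  rw [Subgroup.map_le_iff_le_comap]
  refine (Subgroup.closure_le _).2 (fun x hx => ?_)
  have h1 : (orderOf x).Coprime p := hx
  have h2 : orderOf (x : MulAut W) = orderOf x := (Subgroup.orderOf_coe x)
  exact mem_AQ_of_pp (Pp.of_aut hWR x.2 (by show (orderOf (x : MulAut W)).Coprime p; rw [h2]; exact h1))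

/-- The other inclusion. -/
theorem AQ_le_Ac (hW : Uc (F₁ C) (Tt T y) W) (hfn : E.IsFullyNormalized (W ⊓ T)) : AQ (F₁ C) p W ≤ Ac C W := by
  have hWR := hW.1
  have hy := C.y_mem hW
  haveI : Finite T := finite_of_le C.hTS
  haveI : Finite (Tt T y) := C.finite_T
  haveI : Finite W := finite_of_le (hWR.trans C.TtS)
  haveI : Finite (MulAut W) := Cfsg.Agent.Lib.Fusion.Basic.finite_mulAut_of_finite (A := W)
  refine (Subgroup.closure_le _).2 ?_
  rintro α (hα | hα)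
  · obtain ⟨h1, h2, m, hm, h3⟩ := hα
    have hαΓ : α ∈ (F₁ C).autGroup W := aut_of_p1 C (mp_F₁.1 h1)
    have hαm : α ^ m = 1 := Cfsg.Agent.Lib.FusionExt.Meet6.pow_of_iter h3
    exact Subgroup.mem_sup_right (mem_res_of_pow hαΓ hm hαm)
  · obtain ⟨W₂, φ, t, h1, h2, ht, h3⟩ := hα
    have hP : P1 F E y W φ := mp_F₁.1 h1
    have hW₂ : Uc (F₁ C) (Tt T y) W₂ := C.uc_img hW hP h2
    have hW₂R := hW₂.1
    have hy₂ := C.y_mem hW₂
    haveI : Finite W₂ := finite_of_le (hW₂R.trans C.TtS)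
    haveI : Finite ↥(W₂ ⊓ T) := finite_of_le (inf_le_left.trans (hW₂R.trans C.TtS))
    have hi0 : Img (W ⊓ T) φ (W₂ ⊓ T) := hP.img_inf h2
    obtain ⟨ρ, hρ, hρv, hρi⟩ := nm_map C.hTp C.hEs hfn (isConj_symm E (hP.me.isConj hi0))
    obtain ⟨s, hs, es⟩ := split_norm C hW₂R ht
    have hsN : s ∈ normalizerIn T (W₂ ⊓ T) := ⟨hs.1, mem_normalizer_of_conj_le' (fun r hr =>
      ⟨norm_conj hs.2 hr.1, T.mul_mem (T.mul_mem hs.1 hr.2) (T.inv_mem hs.1)⟩)⟩
    have hNT : normalizerIn T (W₂ ⊓ T) ≤ T := inf_le_left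
    have hle : W₂ ⊓ T ≤ normalizerIn T (W₂ ⊓ T) := le_normalizerIn inf_le_right
    have hover := over_sup C hW₂R hy₂ hNT hle
    have hUc₁ : Uc (F₁ C) (Tt T y) (W₂ ⊔ normalizerIn T (W₂ ⊓ T)) := Uc.up hW₂ le_sup_left (sup_le hW₂R (hNT.trans le_Tt))
    obtain ⟨ρ', hρ', hρ'e⟩ := lift_P1 C hUc₁ (f := ρ) (by rw [hover]; exact hρ)
    rw [hover] at hρ'e
    have hρ'W : P1 F E y W₂ ρ' := hρ'.restrict le_sup_left
    have hi' : Img (W₂ ⊓ T) ρ' (W ⊓ T) := hρi.congr (fun r hr => (hρ'e r (hle hr)).symm)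
    have hm := maps_W C hW₂R hy₂ hρ'W hy hi' (zz_le C hW)
    have hcomp : P1 F E y W (fun w => ρ' (φ w)) := hP.comp h2.1 hρ'W
    have hiW : Img W (fun w => ρ' (φ w)) W := img_self (mp_F₁ (C := C).2 hcomp) (fun w hw => hm _ (h2.1 w hw))
    obtain ⟨β, -, eβ⟩ := (mp_F₁ (C := C).2 hcomp).toAut hiW
    have eβ' : ∀ x ∈ W, autFun β x = ρ' (φ x) := fun x hx => by
      rw [autFun_of_mem β hx]
      exact eβ ⟨x, hx⟩
    have hβ : β ∈ (F₁ C).autGroup W := aut_of_p1 C (hcomp.congr (fun x hx => (eβ' x hx).symm))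
    have hs'N : ρ' s ∈ normalizerIn T (W ⊓ T) := by
      rw [hρ'e s hsN]
      exact hρv s hsN
    have htN := norm_W C hWR hy hs'N
    have hc := normAct_mem_autInducedBy (Tt T y) W htN.2 htN.1
    have hsW₁ : s ∈ W₂ ⊔ normalizerIn T (W₂ ⊓ T) := Subgroup.mem_sup_right hsN
    have key : β * α * β⁻¹ = normAct W htN.2 := by
      apply eq_of_autFun
      intro w hw
      obtain ⟨w₀, hw₀, rfl⟩ := (img_autFun β).2 w hw
      rw [conj_fun, normAct_fun htN.2 (autFun_mem β hw₀), eβ' _ (autFun_mem α hw₀), eβ' _ hw₀, h3 w₀ hw₀, es _ (hW₂R (h2.1 w₀ hw₀)),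
        hρ'.mp.map_conj hsW₁ (Subgroup.mem_sup_left (h2.1 w₀ hw₀))]
    have e : α = β⁻¹ * normAct W htN.2 * β⁻¹⁻¹ := by
      rw [← key]
      group
    rw [e]
    exact conj_Ac C hW hfn (Subgroup.inv_mem _ hβ) (Subgroup.mem_sup_left hc)

theorem AQ_eq (hW : Uc (F₁ C) (Tt T y) W) (hfn : E.IsFullyNormalized (W ⊓ T)) : AQ (F₁ C) p W = Ac C W :=
  le_antisymm (AQ_le_Ac C hW hfn) (Ac_le_AQ C hW)

/-- **`Aut_{T⟨y⟩}(W)` is Sylow in the candidate automizer.** -/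
theorem syl_AQ (hW : Uc (F₁ C) (Tt T y) W) (hfn : E.IsFullyNormalized (W ⊓ T)) :
    IsSylowIn p (autInducedBy (Tt T y) W) (AQ (F₁ C) p W) := by
  have hWR := hW.1
  haveI : Finite W := finite_of_le (hWR.trans C.TtS)
  haveI : Finite (MulAut W) := Cfsg.Agent.Lib.Fusion.Basic.finite_mulAut_of_finite (A := W)
  rw [AQ_eq C hW hfn]
  exact focal_syl (syl_psi C hW hfn) (psi_le C) (P0_le_Psi C hW) (hfoc C hW hfn)

/-- **Elements of the candidate automizer are determined on `W ⊓ T`.** -/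
theorem kill (hW : Uc (F₁ C) (Tt T y) W) (hfn : E.IsFullyNormalized (W ⊓ T)) {k : MulAut W} (hk : k ∈ AQ (F₁ C) p W)
    (h0 : ∀ r ∈ W ⊓ T, autFun k r = r) : k = 1 := by
  have hWR := hW.1
  have hy := C.y_mem hW
  haveI : Finite W := finite_of_le (hWR.trans C.TtS)
  haveI : Finite (MulAut W) := Cfsg.Agent.Lib.Fusion.Basic.finite_mulAut_of_finite (A := W)
  have hkΓ := AQ_le hWR hk
  obtain ⟨n, hn⟩ := pow_K C hW hkΓ h0
  have hCle : Subgroup.zpowers k ≤ AQ (F₁ C) p W := Subgroup.zpowers_le.2 hk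
  have hCp : IsPGroup p (Subgroup.zpowers k) := by
    refine isPGroup_of_pow_eq_one (fun b hb => ?_)
    obtain ⟨i, rfl⟩ := Subgroup.mem_zpowers_iff.1 hb
    refine ⟨n, ?_⟩
    rw [← zpow_natCast, ← zpow_mul, mul_comm, zpow_mul, zpow_natCast, hn, one_zpow]
  obtain ⟨g₀, hg₀, hgc⟩ := (syl_AQ C hW hfn).exists_conj hCle hCp
  have h1 := hgc k (Subgroup.mem_zpowers k)
  rw [central_K C hW hkΓ h0 (AQ_le hWR hg₀)] at h1
  obtain ⟨t, ht, et⟩ := inT_iff.1 h1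
  apply eq_one_of_fun
  refine eq_of_over C hWR hy (mp_autFun (F := F₁ C) hWR hkΓ) (Mp.refl hWR) h0 ?_
  rw [et y hy, C.central ht.1]
  group

end

end Cfsg.Agent.Lib.FusionTheory.LiftY7
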