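import Cfsg.Agent.Lib.FusionTheory.LiftY7

/-!
# Adjoining an element of `C_S(T)`: saturation of the system of `p`-power index (helper93)
-/

set_option autoImplicit false
set_option linter.unusedSectionVars false
set_option linter.style.haveILetI false

namespace Cfsg.Agent.Lib.FusionTheory.LiftY8

open Cfsg Cfsg.FusionSystem Cfsg.Agent.Lib.Fusion.Basic Cfsg.Agent.Lib.Fusion.GroupSystem
open Cfsg.Agent.Lib.FusionExt.MapApi Cfsg.Agent.Lib.FusionExt.PowerSys Cfsg.Agent.Lib.FusionExt.LowPi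
open Cfsg.Agent.Lib.FusionExt.PrimeRes1 Cfsg.Agent.Lib.Fusion.Saturation Cfsg.Agent.Lib.Fusion.Saturation2
open Cfsg.Agent.Lib.FusionExt.Glue1 Cfsg.Agent.Lib.FusionExt.Glue2 Cfsg.Agent.Lib.FusionExt.Normal Cfsg.Agent.Lib.FusionExt.Invariant
open Cfsg.Agent.Lib.FusionExt.Meet3 Cfsg.Agent.Lib.FusionExt.Meet4 Cfsg.Agent.Lib.Core.Residual
open Cfsg.Agent.Lib.FusionTheory.LiftY1 Cfsg.Agent.Lib.FusionTheory.LiftY2 Cfsg.Agent.Lib.FusionTheory.LiftY3 Cfsg.Agent.Lib.FusionTheory.LiftY4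
open Cfsg.Agent.Lib.FusionTheory.LiftY5 Cfsg.Agent.Lib.FusionTheory.LiftY6 Cfsg.Agent.Lib.FusionTheory.LiftY7

universe u

variable {Ω : Type u} [Group Ω] {S T : Subgroup Ω} {F : FusionSystem S} {E : FusionSystem T} {y : Ω} {p : ℕ}
variable {X Y W W' P Q U : Subgroup Ω} {f g h b κ : Ω → Ω}

section

variable [Finite S] [Fact p.Prime] (C : Ctx F E y p)
include C

/-- A conjugate with a fully normalized part in `T`. -/
theorem exists_good (hU : Uc (F₁ C) (Tt T y) U) :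
    ∃ W₀ f₀, E.IsFullyNormalized W₀ ∧ Mp E (U ⊓ T) f₀ ∧ Img (U ⊓ T) f₀ W₀ := by
  haveI : Finite T := finite_of_le C.hTS
  obtain ⟨W₀, hW₀, hfn⟩ := exists_isFullyNormalized E (inf_le_right : U ⊓ T ≤ T)
  obtain ⟨φ, hφ, hr⟩ := id hW₀
  exact ⟨W₀, extOf φ, hfn, mp_of_hom hφ, Cfsg.Agent.Lib.FusionExt.CentE.img_of_range hr⟩

/-- The image of a lift. -/
theorem img_good (hU : Uc (F₁ C) (Tt T y) U) {W₀ : Subgroup Ω} {φ f₀ : Ω → Ω} (hφ : P1 F E y U φ) (he : ∀ x ∈ U ⊓ T, φ x = f₀ x)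
    (hf₀ : Img (U ⊓ T) f₀ W₀) {W : Subgroup Ω} (hi : Img U φ W) : W ⊓ T = W₀ :=
  (hφ.img_inf hi).unique (hf₀.congr (fun x hx => (he x hx).symm))

/-- **The family.** -/
theorem fam_C : Fam (F₁ C) (Tt T y) (Af (F₁ C) p) := by
  haveI : Finite (Tt T y) := C.finite_T
  refine fam C.hT₁p (fun P hP => ?_)
  obtain ⟨W₀, f₀, hfn, hf₀, hf₀i⟩ := exists_good C hP
  obtain ⟨ρ, hρ, hρe⟩ := lift_P1 C hP hf₀
  obtain ⟨W, hW⟩ := hρ.mp.exists_img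
  have he := img_good C hP hρ hρe hf₀i hW
  have hWu := C.uc_img hP hρ hW
  refine ⟨W, ρ, mp_F₁ (C := C).2 hρ, hW, syl_AQ C hWu (by rw [he]; exact hfn)⟩

/-- The family at a subgroup, in terms of its automorphism. -/
theorem af_of_pp (hU : Uc (F₁ C) (Tt T y) U) (h : Pp (F₁ C) p U f) : Af (F₁ C) p U f := by
  obtain ⟨α, -, e⟩ := h.1.toAut h.2.1
  have e' : ∀ x ∈ U, autFun α x = f x := fun x hx => by
    rw [autFun_of_mem α hx]
    exact e ⟨x, hx⟩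
  exact ⟨hU, α, mem_AQ_of_pp (pp_congr h (fun x hx => (e' x hx).symm)), e'⟩

/-- **The extension property.** -/
theorem ext_AF (hW : Uc (F₁ C) (Tt T y) W) (hfn : E.IsFullyNormalized (W ⊓ T)) (hf : Af (F₁ C) p W f)
    (hq : ∃ m : ℕ, m.Coprime p ∧ ∀ x ∈ W, f^[m] x = x) (hWX : W ≤ X) (hXN : X ≤ normalizerIn (Tt T y) W)
    (hrel : ∀ x ∈ X, ∃ x' ∈ X, ∀ w ∈ W, f (x * w * x⁻¹) = x' * f w * x'⁻¹) :
    ∃ f', Af (F₁ C) p X f' ∧ ∀ w ∈ W, f' w = f w := by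
  haveI : Finite T := finite_of_le C.hTS
  haveI : Finite (Tt T y) := C.finite_T
  have hWR := hW.1
  have hy := C.y_mem hW
  haveI : Finite W := finite_of_le (hWR.trans C.TtS)
  haveI : Finite (MulAut W) := Cfsg.Agent.Lib.Fusion.Basic.finite_mulAut_of_finite (A := W)
  haveI : Finite ↥(W ⊓ T) := finite_of_le (inf_le_left.trans (hWR.trans C.TtS))
  obtain ⟨-, α, hα, hαe⟩ := hf
  have hαΓ := AQ_le hWR hα
  have hfP : P1 F E y W f := (p1_aut C hWR hαΓ).congr hαe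
  have hfi : Img W f W := (img_autFun α).congr hαe
  have hf0i : Img (W ⊓ T) f (W ⊓ T) := hfP.img_inf hfi
  have hXR : X ≤ Tt T y := hXN.trans inf_le_left
  have hX : Uc (F₁ C) (Tt T y) X := Uc.up hW hWX hXR
  have hyX := C.y_mem hX
  have hWX₀ : W ⊓ T ≤ X ⊓ T := inf_le_inf_right _ hWX
  have hr := isReceptive_of_isFullyNormalized E C.hTp C.hEs hfn
  obtain ⟨m, hm, hm1⟩ := hq
  -- the relation on `X ⊓ T`
  have hrel₀ : ∀ x ∈ X ⊓ T, ∃ t' ∈ X ⊓ T, ∀ r ∈ W ⊓ T, f (x * r * x⁻¹) = t' * f r * t'⁻¹ := by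
    intro x hx
    obtain ⟨x', hx', e⟩ := hrel x hx.1
    obtain ⟨t', ht', k, rfl⟩ := C.exists_dec hXR hyX hx'
    refine ⟨t', ht', fun r hr => ?_⟩
    rw [e r hr.1]
    have hfr : f r ∈ T := hfP.mem_T hr.1 hr.2
    have h1 := C.central_zpow (k := k) (le_Tt hfr)
    calc t' * y ^ k * f r * (t' * y ^ k)⁻¹ = t' * (y ^ k * f r) * y ^ (-k) * t'⁻¹ := by
          simp only [mul_inv_rev, zpow_neg]; group
      _ = t' * (f r * y ^ k) * y ^ (-k) * t'⁻¹ := by rw [h1]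
      _ = _ := by group
  have hXN₀ : ∀ x ∈ X ⊓ T, x ∈ Subgroup.normalizer ((W ⊓ T : Subgroup Ω) : Set Ω) := fun x hx =>
    mem_normalizer_of_conj_le' (fun r hr => ⟨norm_conj (hXN hx.1).2 hr.1, T.mul_mem (T.mul_mem hx.2 hr.2) (T.inv_mem hx.2)⟩)
  -- the extension in `E`
  obtain ⟨f₁, hf₁, hf₁e⟩ := hfP.me.ext_rec hr hf0i hWX₀ (fun x hx => by
    obtain ⟨t', ht', e⟩ := hrel₀ x hx
    exact ⟨hx.2, hXN₀ x hx, t', ht'.2, e⟩)
  have hf₁m : ∀ x ∈ X ⊓ T, f₁ x ∈ X ⊓ T := by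
    intro x hx
    obtain ⟨t', ht', e⟩ := hrel₀ x hx
    have hf₁x : f₁ x ∈ T := hf₁.mem_S hx
    have hz : t'⁻¹ * f₁ x ∈ zz T (W ⊓ T) := by
      refine mem_zz.2 ⟨T.mul_mem (T.inv_mem ht'.2) hf₁x, fun q hq => ?_⟩
      obtain ⟨r, hr', rfl⟩ := hf0i.2 q hq
      have hxr := norm_conj (hXN₀ x hx) hr'
      have h1 : f₁ x * f₁ r * (f₁ x)⁻¹ = t' * f r * t'⁻¹ := by
        rw [← hf₁.map_conj hx (hWX₀ hr'), hf₁e _ hxr, e r hr']
      rw [hf₁e r hr'] at h1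
      calc f r * (t'⁻¹ * f₁ x) = t'⁻¹ * (t' * f r * t'⁻¹) * f₁ x := by group
        _ = t'⁻¹ * (f₁ x * f r * (f₁ x)⁻¹) * f₁ x := by rw [h1]
        _ = _ := by group
    have e2 : f₁ x = t' * (t'⁻¹ * f₁ x) := by group
    rw [e2]
    exact Subgroup.mul_mem _ ht' (hWX₀ (zz_le C hW hz))
  have hf₁i : Img (X ⊓ T) f₁ (X ⊓ T) := img_self hf₁ hf₁m
  -- the lift
  obtain ⟨g₀, hg₀, hg₀e⟩ := lift_P1 C hX hf₁
  have hg₀i0 : Img (X ⊓ T) g₀ (X ⊓ T) := hf₁i.congr (fun x hx => (hg₀e x hx).symm)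
  have hg₀m := maps_W C hXR hyX hg₀ hyX hg₀i0 (zz_le C hX)
  have hg₀i : Img X g₀ X := img_self (mp_F₁ (C := C).2 hg₀) hg₀m
  -- the `p'`-part
  have hPp0 : Pp (F₁ C) p (W ⊓ T) f := ⟨mp_F₁ (C := C).2 (hfP.restrict inf_le_left), hf0i, m, hm, fun x hx => hm1 x hx.1⟩
  obtain ⟨f₃, m₃, hf₃, hf₃0, -⟩ := pp_extend' hXR (mp_F₁ (C := C).2 hg₀) hg₀i (inf_le_left.trans hWX) hPp0
    (fun x hx => by rw [hg₀e x (hWX₀ hx), hf₁e x hx])
  refine ⟨f₃, af_of_pp C hX hf₃, ?_⟩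
  -- agreement on `W`
  have hf₃P : P1 F E y X f₃ := mp_F₁.1 hf₃.1
  have hf₃W : P1 F E y W f₃ := hf₃P.restrict hWX
  have hi0 : Img (W ⊓ T) f₃ (W ⊓ T) := hf0i.congr (fun x hx => (hf₃0 x hx).symm)
  have hf₃m := maps_W C hWR hy hf₃W hy hi0 (zz_le C hW)
  have hf₃i : Img W f₃ W := img_self (mp_F₁ (C := C).2 hf₃W) hf₃m
  obtain ⟨-, -, m₄, hm₄, hm₄e⟩ := id hf₃
  have hPpW : Pp (F₁ C) p W f₃ := ⟨mp_F₁ (C := C).2 hf₃W, hf₃i, m₄, hm₄, fun x hx => hm₄e x (hWX hx)⟩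
  obtain ⟨α₄, -, e₄⟩ := hPpW.1.toAut hf₃i
  have e₄' : ∀ x ∈ W, autFun α₄ x = f₃ x := fun x hx => by
    rw [autFun_of_mem α₄ hx]
    exact e₄ ⟨x, hx⟩
  have hα₄ : α₄ ∈ AQ (F₁ C) p W := mem_AQ_of_pp (pp_congr hPpW (fun x hx => (e₄' x hx).symm))
  have hk : α₄ * α⁻¹ = 1 := by
    refine kill C hW hfn (Subgroup.mul_mem _ hα₄ (Subgroup.inv_mem _ hα)) (fun r hr => ?_)
    have hα0 : Img (W ⊓ T) (autFun α⁻¹) (W ⊓ T) := img0 C hWR (Subgroup.inv_mem _ hαΓ)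
    have hr' := hα0.1 r hr
    rw [autFun_mul_apply, e₄' _ hr'.1, hf₃0 _ hr', ← hαe _ hr'.1, autFun_apply_inv]
  have hαe₄ : α₄ = α := mul_inv_eq_one.1 hk
  intro w hw
  rw [← e₄' w hw, hαe₄, hαe w hw]

/-- The maps in the family lift the automorphisms of the base subgroups. -/
theorem base_D (A : Fam (F₁ C) (Tt T y) (Af (F₁ C) p)) (hQ : (W ⊓ T) = T ∨ E.IsEssential p (W ⊓ T)) {α : MulAut ↥(W ⊓ T)}
    (hα : α ∈ E.autGroup (W ⊓ T)) (hWR : W ≤ Tt T y) (hy : y ∈ W) :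
    ∃ g, Dp (Tt T y) (Af (F₁ C) p) W g ∧ ∀ x ∈ W ⊓ T, g x = autFun α x := by
  haveI : Finite T := finite_of_le C.hTS
  haveI : Finite (Tt T y) := C.finite_T
  haveI : Finite W := finite_of_le (hWR.trans C.TtS)
  haveI : Finite ↥(W ⊓ T) := finite_of_le (inf_le_left.trans (hWR.trans C.TtS))
  haveI : Finite (MulAut ↥(W ⊓ T)) := Cfsg.Agent.Lib.Fusion.Basic.finite_mulAut_of_finite (A := ↥(W ⊓ T))
  have hQT : W ⊓ T ≤ T := inf_le_right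
  have hc := hc_base C hQ
  have hU : Uc (F₁ C) (Tt T y) W := C.uc_of_hc hWR hy hc
  have hcz := zz_le C hU
  have hfn : E.IsFullyNormalized (W ⊓ T) := by
    rcases hQ with hQ | hQ
    · rw [hQ]
      exact Cfsg.Agent.Lib.FusionExt.PPowerNormal.isFullyNormalized_of_stronglyClosed sc_top
    · exact hQ.2.1
  -- maps of `W` over `W ⊓ T`
  have hself : ∀ {g : Ω → Ω} {a : MulAut ↥(W ⊓ T)}, P1 F E y W g → (∀ x ∈ W ⊓ T, g x = autFun a x) → Img W g W := by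
    intro g a hg e
    have h0 : Img (W ⊓ T) g (W ⊓ T) := (img_autFun a).congr (fun x hx => (e x hx).symm)
    exact img_self (mp_F₁ (C := C).2 hg) (maps_W C hWR hy hg hy h0 hcz)
  let FF : Subgroup (MulAut ↥(W ⊓ T)) :=
    { carrier := {a | a ∈ E.autGroup (W ⊓ T) ∧ ∃ g, Dp (Tt T y) (Af (F₁ C) p) W g ∧ ∀ x ∈ W ⊓ T, g x = autFun a x}
      one_mem' := ⟨Subgroup.one_mem _, fun x => x, Dp.refl hWR, fun x _ => (autFun_one_apply x).symm⟩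
      mul_mem' := by
        rintro a b ⟨ha, g₁, hg₁, e₁⟩ ⟨hb, g₂, hg₂, e₂⟩
        refine ⟨Subgroup.mul_mem _ ha hb, fun x => g₁ (g₂ x), Dp.comp A hg₂ ?_ hg₁, fun x hx => ?_⟩
        · exact (hself (mp_F₁.1 (hg₂.mp A)) e₂).1
        · show g₁ (g₂ x) = _
          rw [autFun_mul_apply, e₂ x hx, e₁ _ (autFun_mem b hx)]
      inv_mem' := by
        rintro a ⟨ha, g₁, hg₁, e₁⟩
        obtain ⟨k, hk, k1, -⟩ := hg₁.inv A (hself (mp_F₁.1 (hg₁.mp A)) e₁)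
        refine ⟨Subgroup.inv_mem _ ha, k, hk, fun x hx => ?_⟩
        have h1 := k1 _ (autFun_mem a⁻¹ hx).1
        rwa [e₁ _ (autFun_mem a⁻¹ hx), autFun_apply_inv] at h1 }
  have hFA := isFullyAutomized_of_isFullyNormalized E C.hTp C.hEs hfn
  have hAF : autInducedBy T (W ⊓ T) ≤ FF := by
    intro c hc'
    refine ⟨autInducedBy_le_autGroup E hQT hc', ?_⟩
    obtain ⟨t, ht, et⟩ := inT_iff.1 hc'
    have htN := norm_W C hWR hy ht
    exact ⟨fun x => t * x * t⁻¹, Dp.edge A (A.inner hU htN) le_rfl, fun x hx => (et x hx).symm⟩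
  have hp' : ∀ a ∈ E.autGroup (W ⊓ T), (∃ q : ℕ, q.Coprime p ∧ a ^ q = 1) → a ∈ FF := by
    rintro a ha ⟨q, hq, haq⟩
    refine ⟨ha, ?_⟩
    obtain ⟨g₀, hg₀, e₀⟩ := base_P1 C hQT hc ha hWR hy rfl
    have hg₀i := hself hg₀ e₀
    have hPp0 : Pp (F₁ C) p (W ⊓ T) (autFun a) := by
      refine ⟨(mp_F₁ (C := C).2 (hg₀.restrict inf_le_left)).congr e₀, img_autFun a, q, hq, fun x hx => ?_⟩
      exact (Cfsg.Agent.Lib.FusionExt.PowerSys.iterate_autFun (a := a) q ⟨x, hx⟩).trans (by rw [haq]; rfl)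
    obtain ⟨f₃, m₃, hf₃, hf₃0, -⟩ := pp_extend' hWR (mp_F₁ (C := C).2 hg₀) hg₀i inf_le_left hPp0 e₀
    exact ⟨f₃, Dp.edge A (af_of_pp C hU hf₃) le_rfl, hf₃0⟩
  have hEq := Cfsg.Agent.Lib.FusionExt.CentE.eq_of_sylow_pprime (p := p) hFA.2 hAF (fun a ha => ha.1) hp'
  have hαF : α ∈ FF := by
    rw [hEq]
    exact hα
  exact hαF.2

/-- Lifting to paths, for the class of a system containing the paths. -/
theorem liftD (A : Fam (F₁ C) (Tt T y) (Af (F₁ C) p)) (H : FusionSystem (Tt T y)) (hH : ∀ {W g}, Dp (Tt T y) (Af (F₁ C) p) W g → Mp H W g) :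
    LiftCl C (Dp (Tt T y) (Af (F₁ C) p)) (Uc H (Tt T y)) where
  p1 h := mp_F₁.1 (h.mp A)
  congr h e := h.congr e
  restrict h hle := h.restrict A hle
  comp h hm h' := h.comp A hm h'
  hy h := h.self le_rfl (mem_zz.2 ⟨y_mem_Tt, fun z hz => C.central (h.1 hz)⟩)
  le h := h.1
  up {W W'} h hle h' := by
    haveI : Finite (Tt T y) := C.finite_T
    exact Uc.up h hle h'
  conj h hg hi := h.conj sc_top (hH hg) hi
  base {Q} hQ α hα W hW he := by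
    subst he
    exact base_D C A hQ hα hW.1 (hW.self le_rfl (mem_zz.2 ⟨y_mem_Tt, fun z hz => C.central (hW.1 hz)⟩))

/-- **The family has the saturation data.** -/
theorem flS (A : Fam (F₁ C) (Tt T y) (Af (F₁ C) p)) : FlS A p (fun W => Uc (F₁ C) (Tt T y) W ∧ E.IsFullyNormalized (W ⊓ T)) where
  uc h := h.1
  syl h := by
    rw [aSub_eq]
    exact syl_AQ C h.1 h.2
  ext h hf hq hWX hXN hrel := ext_AF C h.1 h.2 hf hq hWX hXN hrel
  exist {U} hU := by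
    obtain ⟨W₀, f₀, hfn, hf₀, hf₀i⟩ := exists_good C hU
    obtain ⟨φ, hφ, hφe⟩ := lift_mp C (liftD C A (F₁ C) (fun h => h.mp A)) hU hf₀
    obtain ⟨W, hW⟩ := (hφ.mp A).exists_img
    have he := img_good C hU (mp_F₁.1 (hφ.mp A)) hφe hf₀i hW
    exact ⟨W, φ, ⟨C.uc_img hU (mp_F₁.1 (hφ.mp A)) hW, by rw [he]; exact hfn⟩, hφ, hW⟩

/-- **The system of `p`-power index on `T⟨y⟩` is saturated.** -/
theorem sat [Finite (Tt T y)] (A : Fam (F₁ C) (Tt T y) (Af (F₁ C) p)) : (mkD A).IsSaturated p := by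
  refine D_sat' C.hT₁p A (flS C A) (fun P hP => ?_)
  have hP' : Uc (mkD A) (Tt T y) P := hP
  have hL := liftD C A (mkD A) (fun h => (mp_D (A := A)).2 h)
  have hc := hc_of_lift C hL (fun W hW => hW.self le_rfl) hP'
  exact C.uc_of_hc hP'.1 (hL.hy hP') hc

end

end Cfsg.Agent.Lib.FusionTheory.LiftY8
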