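import Cfsg.Agent.Lib.FusionTheory.LiftY8

/-!
# Adjoining an element of `C_S(T)`: an element of `C_S(E)` in the coset (helper93)
-/

set_option autoImplicit false
set_option linter.unusedSectionVars false
set_option linter.style.haveILetI false

namespace Cfsg.Agent.Lib.FusionTheory.LiftY9

open Cfsg Cfsg.FusionSystem Cfsg.Agent.Lib.Fusion.Basic Cfsg.Agent.Lib.Fusion.GroupSystem
open Cfsg.Agent.Lib.FusionExt.MapApi Cfsg.Agent.Lib.FusionExt.PowerSys Cfsg.Agent.Lib.FusionExt.LowPi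
open Cfsg.Agent.Lib.FusionExt.PrimeRes1 Cfsg.Agent.Lib.Fusion.Saturation Cfsg.Agent.Lib.Fusion.Saturation2
open Cfsg.Agent.Lib.FusionExt.Glue1 Cfsg.Agent.Lib.FusionExt.Glue2 Cfsg.Agent.Lib.FusionExt.Normal Cfsg.Agent.Lib.FusionExt.Invariant
open Cfsg.Agent.Lib.FusionExt.CentE
open Cfsg.Agent.Lib.FusionTheory.FixPts2 Cfsg.Agent.Lib.FusionTheory.FixPts3
open Cfsg.Agent.Lib.FusionTheory.LiftY1 Cfsg.Agent.Lib.FusionTheory.LiftY2 Cfsg.Agent.Lib.FusionTheory.LiftY3 Cfsg.Agent.Lib.FusionTheory.LiftY4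
open Cfsg.Agent.Lib.FusionTheory.LiftY5 Cfsg.Agent.Lib.FusionTheory.LiftY6 Cfsg.Agent.Lib.FusionTheory.LiftY7 Cfsg.Agent.Lib.FusionTheory.LiftY8

universe u

variable {Ω : Type u} [Group Ω] {S T : Subgroup Ω} {F : FusionSystem S} {E : FusionSystem T} {y : Ω} {p : ℕ}
variable {X Y W W' P Q U : Subgroup Ω} {f g h b κ : Ω → Ω}

/-- The norm of a central element over the orbit under the automizer of the Thompson subgroup. -/
theorem exists_fixed {R : Subgroup Ω} [Finite R] [Fact p.Prime] (hR : IsPGroup p R) (H : FusionSystem R) (hH : H.IsSaturated p)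
    {x : Ω} (hxR : x ∈ R) (hxZ : ∀ t ∈ R, t * x = x * t) (M : Subgroup Ω)
    (hM : ∀ f, Mp H (Jt R) f → Img (Jt R) f (Jt R) → x⁻¹ * f x ∈ M) :
    ∃ (c : Ω) (n : ℕ) (m : Ω), n.Coprime p ∧ m ∈ M ∧ c = x ^ n * m ∧ c ∈ Jt R ∧ (∀ t ∈ R, t * c = c * t) ∧
      ∀ f, Mp H (Jt R) f → Img (Jt R) f (Jt R) → f c = c := by
  classical
  have hp : p.Prime := Fact.out
  have hJR : Jt R ≤ R := Jt_le
  haveI : Finite (Jt R) := finite_of_le hJR
  haveI : Finite (Zc (Jt R)) := finite_of_le (inf_le_left.trans hJR)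
  haveI : Finite (MulAut (Jt R)) := Cfsg.Agent.Lib.Fusion.Basic.finite_mulAut_of_finite (A := Jt R)
  have hxJ : x ∈ Jt R := mem_J_of_central hxR hxZ
  have hxZc : x ∈ Zc (Jt R) := mem_Zc.2 ⟨hxJ, fun z hz => hxZ z (hJR hz)⟩
  have hRN : ∀ {t : Ω}, t ∈ R → t ∈ Subgroup.normalizer ((Jt R : Subgroup Ω) : Set Ω) := fun {t} ht =>
    (norm_le_norm_Jt H le_rfl (t := t) (R := R) ⟨ht, Subgroup.le_normalizer ht⟩ le_rfl).2
  have hfn : H.IsFullyNormalized (Jt R) := by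
    refine ⟨hJR, fun Q _ => ?_⟩
    have h1 : normalizerIn R (Jt R) = R := inf_eq_left.2 (fun t ht => hRN ht)
    rw [h1]
    exact card_le_of_le_finite inf_le_left
  have hFA := isFullyAutomized_of_isFullyNormalized H hR hH hfn
  have hsyl : IsSylowIn p (autInducedBy R (Jt R)) (H.autGroup (Jt R)) := hFA.2
  let Xg : Subgroup (MulAut (Jt R)) := H.autGroup (Jt R)
  let x₀ : Zc (Jt R) := ⟨x, hxZc⟩
  let Of : Finset (Zc (Jt R)) := (Set.toFinite (MulAction.orbit Xg x₀)).toFinset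
  have hOf : ∀ ω, ω ∈ Of ↔ ∃ g : Xg, g • x₀ = ω := fun ω => by
    rw [Set.Finite.mem_toFinset]
    exact Iff.rfl
  have hcard : Of.card.Coprime p := by
    have h1 : Of.card = (MulAction.orbit Xg x₀).ncard := (Set.ncard_eq_toFinset_card _ _).symm
    rw [h1, ← MulAction.index_stabilizer]
    obtain ⟨R', hR'⟩ := hsyl
    have hRle : (R' : Subgroup Xg) ≤ MulAction.stabilizer Xg x₀ := by
      intro g hg
      rw [hR'] at hg
      obtain ⟨t, ht, e⟩ := inT_iff.1 (hg : (g : MulAut (Jt R)) ∈ autInducedBy R (Jt R))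
      rw [MulAction.mem_stabilizer_iff]
      apply Subtype.ext
      show autFun (g : MulAut (Jt R)) x = x
      have e' : autFun (g : MulAut (Jt R)) x = t * x * t⁻¹ := e x hxJ
      rw [e', hxZ t ht.1]
      group
    have h2 := Subgroup.index_dvd_of_le hRle
    have h3 := R'.not_dvd_index
    exact ((Nat.Prime.coprime_iff_not_dvd hp).2 (fun h => h3 (h.trans h2))).symm
  let c₀ : Zc (Jt R) := ∏ ω ∈ Of, ω
  let m₀ : Zc (Jt R) := ∏ ω ∈ Of, (x₀⁻¹ * ω)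
  have hc₀ : c₀ = x₀ ^ Of.card * m₀ := by
    show ∏ ω ∈ Of, ω = x₀ ^ Of.card * ∏ ω ∈ Of, (x₀⁻¹ * ω)
    rw [← Finset.prod_const, ← Finset.prod_mul_distrib]
    refine Finset.prod_congr rfl (fun ω _ => ?_)
    rw [mul_inv_cancel_left]
  have hm₀ : (m₀ : Ω) ∈ M := by
    have h1 : m₀ ∈ M.comap (Zc (Jt R)).subtype := by
      refine Subgroup.prod_mem _ (fun ω hω => ?_)
      obtain ⟨g, rfl⟩ := (hOf ω).1 hω
      exact hM _ (mp_autFun hJR g.2) (img_autFun _)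
    exact h1
  have hfix : ∀ g : Xg, g • c₀ = c₀ := by
    intro g
    show g • (∏ ω ∈ Of, ω) = ∏ ω ∈ Of, ω
    have h2 : g • (∏ ω ∈ Of, ω) = ∏ ω ∈ Of, (g • ω) := map_prod (MulDistribMulAction.toMonoidHom (Zc (Jt R)) g) _ _
    rw [h2]
    have hO : ∀ (g' : Xg), ∀ ω ∈ Of, g' • ω ∈ Of := fun g' ω hω => by
      obtain ⟨g₁, rfl⟩ := (hOf ω).1 hω
      exact (hOf _).2 ⟨g' * g₁, mul_smul _ _ _⟩
    refine Finset.prod_nbij' (fun ω => g • ω) (fun ω => g⁻¹ • ω) (fun ω hω => hO g ω hω) (fun ω hω => hO g⁻¹ ω hω) ?_ ?_ ?_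
    · intro ω _
      simp
    · intro ω _
      simp
    · intro ω _
      rfl
  have hfixf : ∀ a ∈ H.autGroup (Jt R), autFun a (c₀ : Ω) = c₀ := fun a ha => congrArg Subtype.val (hfix ⟨a, ha⟩)
  refine ⟨c₀, Of.card, m₀, hcard, hm₀, ?_, (mem_Zc.1 c₀.2).1, fun t ht => ?_, fun f hf hi => ?_⟩
  · rw [hc₀]
    rfl
  · have h1 := hfixf _ (autInducedBy_le_autGroup H hJR (normAct_mem_autInducedBy R (Jt R) (hRN ht) ht))
    rw [normAct_fun (hRN ht) (mem_Zc.1 c₀.2).1] at h1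
    calc t * (c₀ : Ω) = t * c₀ * t⁻¹ * t := by group
      _ = _ := by rw [h1]
  · obtain ⟨a, ha, e⟩ := hf.toAut hi
    have h1 := hfixf a ha
    rw [autFun_of_mem a (mem_Zc.1 c₀.2).1] at h1
    rw [← e ⟨_, (mem_Zc.1 c₀.2).1⟩]
    exact h1

theorem ext_iso {A B : Subgroup Ω} (e : A ≃* B) {x : Ω} (hx : x ∈ A) : extOf (isoHom e) x = ((e ⟨x, hx⟩ : B) : Ω) :=
  extOf_of_mem _ hx

/-- Maps of `E` satisfy a property closed under restrictions, composition and inverses once the automorphisms of `T` and of the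
essential subgroups do. -/
theorem dm_of_base [Finite T] [Fact p.Prime] (hTp : IsPGroup p T) (hEs : E.IsSaturated p) {K : Subgroup Ω}
    (hb : ∀ Q, (Q = T ∨ E.IsEssential p Q) → ∀ α ∈ E.autGroup Q, Dm F K Q (autFun α)) :
    ∀ P f, Mp E P f → Dm F K P f := by
  rintro P f ⟨φ, hφ, e⟩
  have key := Cfsg.Agent.Lib.Fusion.Alperin.alperin_induction E hTp hEs (fun P φ => Dm F K P (extOf φ)) ?_ ?_ ?_ ?_ P φ hφ
  · exact key.congr (fun x hx => by rw [extOf_of_mem φ hx]; exact e ⟨x, hx⟩)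
  · intro Q hQ α hα
    refine (hb Q hQ α hα).congr (fun x hx => ?_)
    rw [extOf_of_mem _ hx, autFun_of_mem α hx]
    rfl
  · intro P₁ Q₁ hle φ₁ _ ih
    refine (ih.restrict hle).congr (fun x hx => ?_)
    rw [extOf_of_mem _ hx, extOf_of_mem _ (hle hx)]
    rfl
  · intro A B D e₁ e₂ _ _ h1 h2
    have hm : ∀ x ∈ A, extOf (isoHom e₁) x ∈ B := fun x hx => by
      rw [extOf_of_mem _ hx]
      exact (e₁ ⟨x, hx⟩).2
    refine (h1.comp hm h2).congr (fun x hx => ?_)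
    show extOf (isoHom e₂) (extOf (isoHom e₁) x) = _
    rw [ext_iso e₁ hx, ext_iso e₂ (e₁ ⟨x, hx⟩).2, ext_iso (e₁.trans e₂) hx]
    rfl
  · intro A B e₁ _ ih
    refine ih.inverse (fun z hz => ?_) (fun z hz => ?_)
    · rw [extOf_of_mem _ hz]
      exact (e₁.symm ⟨z, hz⟩).2
    · rw [ext_iso e₁.symm hz, ext_iso e₁ (e₁.symm ⟨z, hz⟩).2]
      simp

section

variable [Finite S] [Fact p.Prime] (C : Ctx F E y p)
include C

/-- **An element of `C_S(E)` in the coset of a power of `y`.** -/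
theorem exists_fx (hp2 : p ≠ 2) : ∃ (c : Ω) (n : ℕ) (m : Ω), n.Coprime p ∧ m ∈ T ∧ c = y ^ n * m ∧ Fx F E c := by
  haveI : Finite T := finite_of_le C.hTS
  haveI : Finite (Tt T y) := C.finite_T
  let A := fam_C C
  have hsat : (mkD A).IsSaturated p := sat C A
  obtain ⟨c, n, m, hn, hm, hce, hcJ, hcZ, hcf⟩ := exists_fixed C.hT₁p (mkD A) hsat (x := y) y_mem_Tt (fun t ht => C.central ht) T
    (fun f hf _ => (mp_F₁.1 ((mp_D (A := A)).1 hf |>.mp A)).mt y (mem_J_of_central y_mem_Tt (fun t ht => C.central ht)))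
  have hcR : c ∈ Tt T y := Jt_le hcJ
  have hall := Cfsg.Agent.Lib.FusionTheory.FixPts5.main hp2 C.hT₁p hsat hcR hcZ hcf
  have hcK : ∀ k ∈ Subgroup.zpowers c, k ∈ Tt T y := (Subgroup.zpowers_le).2 hcR
  have hmZ : ∀ t ∈ Tt T y, t * m = m * t := by
    intro t ht
    have e : m = (y ^ n)⁻¹ * c := by rw [hce]; group
    have h1 : t * y ^ n = y ^ n * t := by
      have := C.central_zpow (k := (n : ℤ)) ht
      rwa [zpow_natCast] at this
    have h2 := hcZ t ht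
    rw [e]
    calc t * ((y ^ n)⁻¹ * c) = (y ^ n)⁻¹ * (y ^ n * t) * (y ^ n)⁻¹ * c := by
          rw [inv_mul_cancel_left]
          group
        _ = (y ^ n)⁻¹ * (t * y ^ n) * (y ^ n)⁻¹ * c := by rw [h1]
        _ = (y ^ n)⁻¹ * (t * c) := by group
        _ = _ := by rw [h2]; group
  refine ⟨c, n, m, hn, hm, hce, mem_cent.2 ⟨C.TtS hcR, fun t ht => hcZ t (le_Tt ht)⟩, fun P f hf => ?_⟩
  have hdm : Dm F (Subgroup.zpowers c) P f := by
    refine dm_of_base C.hTp C.hEs (fun Q hQ α hα => ?_) P f hf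
    have hQT : Q ≤ T := by
      rcases hQ with rfl | hQ
      · exact le_rfl
      · exact hQ.1.1
    have hc := hc_base C hQ
    have hcz : zz T Q ≤ Q := hc Q (isConj_refl F (hQT.trans C.hTS))
    have hmQ : m ∈ Q := hcz (mem_zz.2 ⟨hm, fun q hq => hmZ q (le_Tt (hQT hq))⟩)
    have hWR : Q ⊔ Subgroup.zpowers y ≤ Tt T y := sup_le (hQT.trans le_Tt) ((Subgroup.zpowers_le).2 y_mem_Tt)
    have hyW : y ∈ Q ⊔ Subgroup.zpowers y := Subgroup.mem_sup_right (Subgroup.mem_zpowers y)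
    have he : (Q ⊔ Subgroup.zpowers y) ⊓ T = Q := by
      apply le_antisymm
      · rintro x ⟨hx, hxT⟩
        have hn' : Subgroup.zpowers y ≤ Subgroup.normalizer (Q : Set Ω) :=
          (Subgroup.zpowers_le).2 ((Subgroup.centralizer_le_normalizer (Q : Set Ω)) (Subgroup.mem_centralizer_iff.2 (fun t ht => C.comm (hQT ht))))
        have hx' : x ∈ Subgroup.zpowers y ⊔ Q := by
          rw [sup_comm]
          exact hx
        obtain ⟨a, ⟨k, rfl⟩, q, hq, rfl⟩ := exists_mul_of_mem_sup' hn' hx'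
        have hyk : y ^ k ∈ T := by
          have := T.mul_mem hxT (T.inv_mem (hQT hq))
          simpa using this
        have hz : y ^ k ∈ zz T Q := mem_zz.2 ⟨hyk, fun q' hq' => C.central_zpow (le_Tt (hQT hq'))⟩
        exact Q.mul_mem (hcz hz) hq
      · exact fun x hx => ⟨Subgroup.mem_sup_left hx, hQT hx⟩
    have hUc : Uc (F₁ C) (Tt T y) (Q ⊔ Subgroup.zpowers y) := C.uc_of_hc hWR hyW (by rw [he]; exact hc)
    obtain ⟨g₀, hg₀, e₀⟩ := (liftD C A (F₁ C) (fun h => h.mp A)).base hQ α hα _ hUc he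
    have hP : P1 F E y _ g₀ := mp_F₁.1 (hg₀.mp A)
    have hcW : c ∈ Q ⊔ Subgroup.zpowers y := by
      rw [hce]
      exact Subgroup.mul_mem _ (Subgroup.pow_mem _ hyW n) (Subgroup.mem_sup_left hmQ)
    have hfixc : g₀ c = c := hall _ g₀ ((mp_D (A := A)).2 hg₀) hcW
    have hd : Q ⊔ Subgroup.zpowers c ≤ Q ⊔ Subgroup.zpowers y := sup_le le_sup_left ((Subgroup.zpowers_le).2 hcW)
    refine ⟨g₀, hP.mp.restrict hd, e₀, ?_⟩
    rintro _ ⟨k, rfl⟩
    show g₀ (c ^ k) = c ^ k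
    rw [mp_zpow hP.mp hcW k, hfixc]
  obtain ⟨g, hg, h1, h2⟩ := hdm
  exact ⟨g, hg, h1, h2 c (Subgroup.mem_zpowers c)⟩

end

end Cfsg.Agent.Lib.FusionTheory.LiftY9
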