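import Cfsg.Agent.Lib.FusionTheory.AbelianMaximal

/-!
# `p`-groups of maximal class
-/

set_option autoImplicit false
set_option linter.unusedSectionVars false
set_option linter.unusedVariables false

namespace Cfsg.Agent.Lib.FusionTheory.MaxClass

open Cfsg Cfsg.FusionSystem Cfsg.Agent.Lib.Fusion.Basic Cfsg.Agent.Lib.Fusion.Saturation
  Cfsg.Agent.Lib.Fusion.Saturation2 Cfsg.Agent.Lib.Fusion.Alperin Cfsg.Agent.Lib.FusionTheory.Normal
  Cfsg.Agent.Lib.FusionTheory.Essential Cfsg.Agent.Lib.FusionTheory.ClassTwo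
  Cfsg.Agent.Lib.FusionTheory.AbelianMaximal

open scoped commutatorElement

section group

variable {G : Type*} [Group G] {p : ℕ} [hp : Fact p.Prime] [Finite G]

theorem upper_lt (hG : IsPGroup p G) {i : ℕ} (hi : Subgroup.upperCentralSeries G i ≠ ⊤) :
    Subgroup.upperCentralSeries G i < Subgroup.upperCentralSeries G (i + 1) := by
  refine lt_of_le_of_ne (Subgroup.upperCentralSeries_mono G (Nat.le_succ i)) fun he => hi ?_
  have hnil := hG.isNilpotent
  obtain ⟨n, hn⟩ := hnil.nilpotent'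
  have key : ∀ k, Subgroup.upperCentralSeries G (i + k) ≤ Subgroup.upperCentralSeries G i := by
    intro k
    induction k with
    | zero => exact le_rfl
    | succ k ih =>
      intro x hx
      rw [← add_assoc, Subgroup.mem_upperCentralSeries_succ_iff] at hx
      have h1 : x ∈ Subgroup.upperCentralSeries G (i + 1) := by
        rw [Subgroup.mem_upperCentralSeries_succ_iff]
        exact fun y => ih (hx y)
      rwa [← he] at h1
  refine top_le_iff.1 ((top_le_iff.2 hn).trans ((Subgroup.upperCentralSeries_mono G (Nat.le_add_left n i)).trans (key n)))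

theorem card_step (hG : IsPGroup p G) {i : ℕ} (hi : Subgroup.upperCentralSeries G i ≠ ⊤) :
    p * Nat.card (Subgroup.upperCentralSeries G i) ≤ Nat.card (Subgroup.upperCentralSeries G (i + 1)) := by
  have hlt := upper_lt hG hi
  have h1 := rel_mul_card hlt.le
  rw [← h1]
  refine Nat.mul_le_mul_right _ ?_
  have h2 : (Subgroup.upperCentralSeries G i).relIndex (Subgroup.upperCentralSeries G (i + 1)) ≠ 1 := by
    intro h
    exact absurd (Subgroup.relIndex_eq_one.1 h) (not_le_of_gt hlt)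
  have h3 : (Subgroup.upperCentralSeries G i).relIndex (Subgroup.upperCentralSeries G (i + 1)) ∣
      Nat.card (Subgroup.upperCentralSeries G (i + 1)) := ⟨_, h1.symm⟩
  obtain ⟨m, hm⟩ := IsPGroup.iff_card.1 (hG.to_subgroup (Subgroup.upperCentralSeries G (i + 1)))
  rw [hm] at h3
  obtain ⟨k, -, hk⟩ := (Nat.dvd_prime_pow hp.out).1 h3
  rw [hk] at h2 ⊢
  rcases k with _ | k
  · simp at h2
  · rw [pow_succ]
    exact Nat.le_mul_of_pos_left _ (pow_pos hp.out.pos k)

theorem index_top (hG : IsPGroup p G) {j : ℕ} (hj : Subgroup.upperCentralSeries G (j + 1) ≠ ⊤) :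
    p ^ 2 ≤ (Subgroup.upperCentralSeries G (j + 1)).index := by
  classical
  by_contra hcon
  push Not at hcon
  set Z := Subgroup.upperCentralSeries G (j + 1) with hZ
  have hidx : Z.index ∣ Nat.card G := ⟨Nat.card Z, Z.index_mul_card.symm⟩
  obtain ⟨m, hm⟩ := IsPGroup.iff_card.1 hG
  rw [hm] at hidx
  obtain ⟨k, -, hk⟩ := (Nat.dvd_prime_pow hp.out).1 hidx
  have hk1 : k ≠ 0 := by
    rintro rfl
    rw [pow_zero] at hk
    exact hj (Subgroup.index_eq_one.1 hk)
  have hk2 : k < 2 := by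
    rw [hk] at hcon
    exact (Nat.pow_lt_pow_iff_right hp.out.one_lt).1 hcon
  have hk3 : k = 1 := by omega
  rw [hk3, pow_one] at hk
  have hco : IsCoatom Z := Cfsg.Agent.Lib.PGroups.Basic.isCoatom_of_index_prime (hk ▸ hp.out)
  obtain ⟨x, hx⟩ : ∃ x, x ∉ Z := by
    by_contra hall
    push Not at hall
    exact hj (top_le_iff.1 fun v _ => hall v)
  apply hx
  rw [hZ, Subgroup.mem_upperCentralSeries_succ_iff]
  intro y
  let π := QuotientGroup.mk' (Subgroup.upperCentralSeries G j)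
  have hcentral : ∀ u ∈ Z, ∀ v : G, Commute (π u) (π v) := by
    intro u hu v
    rw [hZ, Subgroup.mem_upperCentralSeries_succ_iff] at hu
    have h1 : π ⁅u, v⁆ = 1 := (QuotientGroup.eq_one_iff _).2 (hu v)
    rw [map_commutatorElement] at h1
    exact commutatorElement_eq_one_iff_commute.1 h1
  obtain ⟨l, f, hf, rfl⟩ := exists_zpow_mul_of_coatom hG hco hx y
  have h2 : Commute (π x) (π (x ^ l * f)) := by
    rw [map_mul, map_zpow]
    exact Commute.mul_right ((Commute.refl _).zpow_right l) (hcentral f hf x).symm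
  have h3 : π ⁅x, x ^ l * f⁆ = 1 := by
    rw [map_commutatorElement]
    exact commutatorElement_eq_one_iff_commute.2 h2
  exact (QuotientGroup.eq_one_iff _).1 h3

/-- In a group of order `p^n` and class `≥ n - 1`, the upper central series has `|Z_i| = p^i`. -/
theorem card_upper (hG : IsPGroup p G) {n : ℕ} (hn : Nat.card G = p ^ n) (h3 : 3 ≤ n)
    (hne : (⊤ : Subgroup G).lowerCentralSeries (n - 2) ≠ ⊥) {i : ℕ} (hi : i ≤ n - 2) :
    Nat.card (Subgroup.upperCentralSeries G i) = p ^ i := by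
  have hpp := hp.out
  have hT : Subgroup.upperCentralSeries G (n - 2) ≠ ⊤ := fun h =>
    hne (Subgroup.lowerCentralSeries_eq_bot_iff_upperCentralSeries_eq_top.2 h)
  have hne' : ∀ j ≤ n - 2, Subgroup.upperCentralSeries G j ≠ ⊤ := by
    intro j hj h
    apply hT
    exact top_le_iff.1 (h ▸ Subgroup.upperCentralSeries_mono G hj)
  have h1 : ∀ (a k : ℕ), a + k ≤ n - 2 →
      p ^ k * Nat.card (Subgroup.upperCentralSeries G a) ≤ Nat.card (Subgroup.upperCentralSeries G (a + k)) := by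
    intro a k
    induction k with
    | zero => simp
    | succ k ih =>
      intro hk
      have h2 := ih (by omega)
      have h4 := card_step hG (hne' (a + k) (by omega))
      calc p ^ (k + 1) * Nat.card (Subgroup.upperCentralSeries G a)
          = p * (p ^ k * Nat.card (Subgroup.upperCentralSeries G a)) := by ring
        _ ≤ p * Nat.card (Subgroup.upperCentralSeries G (a + k)) := Nat.mul_le_mul_left _ h2
        _ ≤ _ := h4
  have h5 : p ^ i ≤ Nat.card (Subgroup.upperCentralSeries G i) := by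
    have := h1 0 i (by omega)
    rw [zero_add, Subgroup.upperCentralSeries_zero, Subgroup.card_bot, mul_one] at this
    exact this
  have h6 : p ^ 2 * Nat.card (Subgroup.upperCentralSeries G (n - 2)) ≤ p ^ n := by
    have e : n - 2 = (n - 3) + 1 := by omega
    have h7 := index_top hG (j := n - 3) (by rw [← e]; exact hT)
    rw [← e] at h7
    have h8 := (Subgroup.upperCentralSeries G (n - 2)).index_mul_card
    rw [hn] at h8
    rw [← h8]
    exact Nat.mul_le_mul_right _ h7
  have h9 := h1 i (n - 2 - i) (by omega)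
  have e2 : i + (n - 2 - i) = n - 2 := by omega
  rw [e2] at h9
  have h10 : p ^ 2 * (p ^ (n - 2 - i) * Nat.card (Subgroup.upperCentralSeries G i)) ≤ p ^ 2 * p ^ (n - 2 - i) * p ^ i := by
    have e3 : p ^ 2 * p ^ (n - 2 - i) * p ^ i = p ^ n := by
      rw [← pow_add, ← pow_add]
      congr 1
      omega
    rw [e3]
    exact (Nat.mul_le_mul_left _ h9).trans h6
  have h11 : Nat.card (Subgroup.upperCentralSeries G i) ≤ p ^ i := by
    rw [← mul_assoc] at h10
    exact Nat.le_of_mul_le_mul_left h10 (Nat.mul_pos (pow_pos hpp.pos _) (pow_pos hpp.pos _))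
  exact le_antisymm h11 h5

end group

section main

variable {Ω : Type*} [Group Ω] {S : Subgroup Ω} (F : FusionSystem S) {p : ℕ} [hp : Fact p.Prime] [Finite S]

theorem lcs_top_ne {k : ℕ} (h : Subgroup.lowerCentralSeries S k ≠ ⊥) : (⊤ : Subgroup S).lowerCentralSeries k ≠ ⊥ := by
  intro h1
  apply h
  rw [← Subgroup.top_subtype_lowerCentralSeries, h1, Subgroup.map_bot]

/-- `Z₁` and `Z₂` when `S` has maximal class. -/
theorem card_zz (hS : IsPGroup p S) {n : ℕ} (hn : Nat.card S = p ^ n) (h4 : 4 ≤ n)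
    (hmax : Subgroup.lowerCentralSeries S (n - 2) ≠ ⊥) :
    Nat.card ((Subgroup.center S).map S.subtype) = p ∧
      Nat.card ((Subgroup.upperCentralSeries S 2).map S.subtype) = p ^ 2 := by
  have hne := lcs_top_ne hmax
  have h1 := card_upper hS hn (by omega) hne (i := 1) (by omega)
  have h2 := card_upper hS hn (by omega) hne (i := 2) (by omega)
  rw [Subgroup.upperCentralSeries_one, pow_one] at h1
  rw [Subgroup.card_map_of_injective S.subtype_injective, h1, Subgroup.card_map_of_injective S.subtype_injective, h2]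
  exact ⟨rfl, rfl⟩

theorem zone_eq : (Subgroup.center S).map S.subtype = S ⊓ Subgroup.centralizer (S : Set Ω) := by
  ext y
  constructor
  · rintro ⟨z, hz, rfl⟩
    exact mem_center_iff.1 hz
  · intro h
    exact ⟨⟨y, h.1⟩, mem_center_iff.2 h, rfl⟩

theorem zz_normalized {s : Ω} (hs : s ∈ S) :
    s ∈ Subgroup.normalizer (((Subgroup.upperCentralSeries S 2).map S.subtype : Subgroup Ω) : Set Ω) := by
  have key : ∀ s ∈ S, ∀ v ∈ (Subgroup.upperCentralSeries S 2).map S.subtype,
      s * v * s⁻¹ ∈ (Subgroup.upperCentralSeries S 2).map S.subtype := by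
    rintro s hs _ ⟨z, hz, rfl⟩
    have h1 := (inferInstance : (Subgroup.upperCentralSeries S 2).Normal).conj_mem z hz ⟨s, hs⟩
    exact ⟨_, h1, rfl⟩
  rw [Subgroup.mem_normalizer_iff]
  intro v
  refine ⟨key s hs v, fun h => ?_⟩
  have h1 := key _ (S.inv_mem hs) _ h
  have e : s⁻¹ * (s * v * s⁻¹) * s⁻¹⁻¹ = v := by group
  rwa [e] at h1

theorem isFullyNormalized_of_normalized {N : Subgroup Ω} (hN : N ≤ S) (h : ∀ s ∈ S, s ∈ Subgroup.normalizer (N : Set Ω)) :
    F.IsFullyNormalized N := by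
  refine ⟨hN, fun Q _ => ?_⟩
  have e : normalizerIn S N = S := inf_eq_left.2 h
  rw [e]
  exact Subgroup.card_le_of_le inf_le_left

/-- The centralizer of the second centre in the maximal class situation. -/
theorem index_centralizer (hS : IsPGroup p S)
    (hZ1 : Nat.card ↥(S ⊓ Subgroup.centralizer (S : Set Ω)) = p)
    (hZ2 : Nat.card ↥((Subgroup.upperCentralSeries S 2).map S.subtype) = p ^ 2) :
    ((S ⊓ Subgroup.centralizer (((Subgroup.upperCentralSeries S 2).map S.subtype : Subgroup Ω) : Set Ω)).subgroupOf S).index = p ∧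
    (upperCentralSeries S 2).map S.subtype ≤ S ⊓ Subgroup.centralizer (((Subgroup.upperCentralSeries S 2).map S.subtype : Subgroup Ω) : Set Ω) := by
  classical
  have hpp := hp.out
  let Z := S ⊓ Subgroup.centralizer (S : Set Ω)
  let Z₂ := (upperCentralSeries S 2).map S.subtype
  have hZZ : Z ≤ Z₂ := center_le_zzTwo
  have hZ₂S : Z₂ ≤ S := fun v hv => (mem_zzTwo.1 hv).1
  have hfin : Finite Z₂ := finite_of_le hZ₂S
  have hrel : Z.relIndex Z₂ = p := by
    have h1 := rel_mul_card hZZ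
    have h2 : Nat.card Z = p := hZ1
    have h3 : Nat.card Z₂ = p ^ 2 := hZ2
    rw [h2, h3] at h1
    have h4 : p ^ 2 = p * p := by ring
    rw [h4] at h1
    exact Nat.eq_of_mul_eq_mul_right hpp.pos h1
  have hco : IsCoatom (Z.subgroupOf Z₂) := Cfsg.Agent.Lib.PGroups.Basic.isCoatom_of_index_prime (by
    show (Z.relIndex Z₂).Prime
    rw [hrel]
    exact hpp)
  have hZ₂p : IsPGroup p Z₂ := IsPGroup.iff_card.2 ⟨2, hZ2⟩
  obtain ⟨u, hu⟩ : ∃ u : Z₂, u ∉ Z.subgroupOf Z₂ := by
    by_contra hall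
    push Not at hall
    have : Z.subgroupOf Z₂ = ⊤ := top_le_iff.1 fun v _ => hall v
    exact hco.1 this
  have hdec : ∀ v ∈ Z₂, ∃ k : ℤ, ∃ z ∈ Z, v = (u : Ω) ^ k * z := by
    intro v hv
    obtain ⟨k, q, hq, he⟩ := exists_zpow_mul_of_coatom hZ₂p hco hu ⟨v, hv⟩
    refine ⟨k, q, hq, ?_⟩
    have := congrArg Subtype.val he
    simpa using this
  have hcen : ∀ z ∈ Z, ∀ s ∈ S, s * z = z * s := fun z hz s hs => Subgroup.mem_centralizer_iff.1 hz.2 s hs
  have hab : ∀ a ∈ Z₂, ∀ b ∈ Z₂, a * b = b * a := by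
    intro a ha b hb
    obtain ⟨k, z, hz, rfl⟩ := hdec a ha
    obtain ⟨l, w, hw, rfl⟩ := hdec b hb
    have hc1 : Commute ((u : Ω) ^ k) ((u : Ω) ^ l) := (Commute.refl _).zpow_zpow k l
    have hc2 : Commute ((u : Ω) ^ k) w := Commute.zpow_left (hcen w hw _ (hZ₂S u.2)) k
    have hc3 : Commute z ((u : Ω) ^ l) := Commute.zpow_right (Commute.symm (hcen z hz _ (hZ₂S u.2))) l
    have hc4 : Commute z w := Commute.symm (hcen z hz w hw.1)
    exact ((hc1.mul_right hc2).mul_left (hc3.mul_right hc4))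
  refine ⟨?_, fun v hv => ⟨hZ₂S hv, Subgroup.mem_centralizer_iff.2 fun w hw => hab w hw v hv⟩⟩
  -- the commutator homomorphism
  have hcomm : ∀ s ∈ S, s * u * s⁻¹ * (u : Ω)⁻¹ ∈ Z := by
    intro s hs
    have h1 := (mem_zzTwo.1 u.2).2 s hs
    have h2 := Z.inv_mem h1
    have e : ((u : Ω) * s * (u : Ω)⁻¹ * s⁻¹)⁻¹ = s * u * s⁻¹ * (u : Ω)⁻¹ := by group
    rwa [e] at h2
  let f : S →* Z :=
    { toFun := fun s => ⟨s * u * (s : Ω)⁻¹ * (u : Ω)⁻¹, hcomm s s.2⟩
      map_one' := by
        apply Subtype.ext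
        simp
      map_mul' := fun a b => by
        apply Subtype.ext
        show ((a * b : S) : Ω) * u * ((a * b : S) : Ω)⁻¹ * (u : Ω)⁻¹ =
          ((a : Ω) * u * (a : Ω)⁻¹ * (u : Ω)⁻¹) * ((b : Ω) * u * (b : Ω)⁻¹ * (u : Ω)⁻¹)
        have h1 := hcen _ (hcomm b b.2) a a.2
        calc ((a * b : S) : Ω) * u * ((a * b : S) : Ω)⁻¹ * (u : Ω)⁻¹
            = (a : Ω) * ((b : Ω) * u * (b : Ω)⁻¹ * (u : Ω)⁻¹) * u * (a : Ω)⁻¹ * (u : Ω)⁻¹ := by
              simp only [Subgroup.coe_mul]
              group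
          _ = ((b : Ω) * u * (b : Ω)⁻¹ * (u : Ω)⁻¹) * (a : Ω) * u * (a : Ω)⁻¹ * (u : Ω)⁻¹ := by rw [h1]
          _ = ((b : Ω) * u * (b : Ω)⁻¹ * (u : Ω)⁻¹) * ((a : Ω) * u * (a : Ω)⁻¹ * (u : Ω)⁻¹) := by group
          _ = _ := (hcen _ (hcomm b b.2) _ (hcomm a a.2).1).symm }
  have hker : f.ker = (S ⊓ Subgroup.centralizer (Z₂ : Set Ω)).subgroupOf S := by
    ext s
    rw [MonoidHom.mem_ker, Subgroup.mem_subgroupOf]
    constructor
    · intro h
      have h1 : (s : Ω) * u * (s : Ω)⁻¹ * (u : Ω)⁻¹ = 1 := congrArg Subtype.val h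
      have h2 : (s : Ω) * u = u * s := by
        have h3 := mul_eq_one_iff_eq_inv.1 h1
        rw [inv_inv] at h3
        calc (s : Ω) * u = (s : Ω) * u * (s : Ω)⁻¹ * s := by group
          _ = u * s := by rw [h3]
      refine ⟨s.2, Subgroup.mem_centralizer_iff.2 fun v hv => ?_⟩
      obtain ⟨k, z, hz, rfl⟩ := hdec v hv
      have hc1 : Commute (s : Ω) ((u : Ω) ^ k) := Commute.zpow_right h2 k
      have hc2 : Commute (s : Ω) z := hcen z hz s s.2
      exact ((hc1.mul_right hc2).symm).eq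
    · intro h
      apply Subtype.ext
      show (s : Ω) * u * (s : Ω)⁻¹ * (u : Ω)⁻¹ = 1
      have h1 : (u : Ω) * s = s * u := Subgroup.mem_centralizer_iff.1 h.2 u u.2
      rw [← h1]
      group
  have h1 := Subgroup.index_ker f
  rw [hker] at h1
  show ((S ⊓ Subgroup.centralizer (Z₂ : Set Ω)).subgroupOf S).index = p
  rw [h1]
  have hfinZ : Finite Z := finite_of_le inf_le_left
  have h2 : Nat.card f.range ∣ p := by
    have := Subgroup.card_subgroup_dvd_card f.range
    rwa [show Nat.card Z = p from hZ1] at this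
  rcases (Nat.dvd_prime hpp).1 h2 with h3 | h3
  · exfalso
    rw [h3] at h1
    have h4 := Subgroup.index_eq_one.1 h1
    have h5 : Z₂ ≤ Z := by
      intro v hv
      refine ⟨hZ₂S hv, Subgroup.mem_centralizer_iff.2 fun s hs => ?_⟩
      have h6 : (⟨s, hs⟩ : S) ∈ (S ⊓ Subgroup.centralizer (Z₂ : Set Ω)).subgroupOf S := by
        rw [h4]
        trivial
      have h7 := (Subgroup.mem_subgroupOf.1 h6).2
      exact (Subgroup.mem_centralizer_iff.1 h7 v hv).symm
    have h8 := Subgroup.card_le_of_le h5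
    rw [show Nat.card Z = p from hZ1, show Nat.card Z₂ = p ^ 2 from hZ2] at h8
    have h9 : p ^ 2 = p * p := by ring
    rw [h9] at h8
    have := Nat.le_of_mul_le_mul_right (by rwa [one_mul] : 1 * p * p ≤ 1 * p) hpp.pos
    nlinarith [hpp.two_le]
  · exact h3

/-- **The main theorem.** -/
theorem essential_of_moving (hS : IsPGroup p S) (hF : F.IsSaturated p)
    (hZ1 : Nat.card ↥(S ⊓ Subgroup.centralizer (S : Set Ω)) = p)
    (hZ2 : Nat.card ↥((Subgroup.upperCentralSeries S 2).map S.subtype) = p ^ 2)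
    (φ : ↥((Subgroup.upperCentralSeries S 2).map S.subtype) →* Ω)
    (hφ : φ ∈ F.Hom ((Subgroup.upperCentralSeries S 2).map S.subtype))
    (hφZ : φ.range = (Subgroup.upperCentralSeries S 2).map S.subtype)
    (z : Ω) (hz : z ∈ (Subgroup.upperCentralSeries S 2).map S.subtype)
    (hzZ : z ∈ S ⊓ Subgroup.centralizer (S : Set Ω)) (hmove : φ ⟨z, hz⟩ ∉ S ⊓ Subgroup.centralizer (S : Set Ω)) :
    F.IsEssential p (S ⊓ Subgroup.centralizer (((Subgroup.upperCentralSeries S 2).map S.subtype : Subgroup Ω) : Set Ω)) := by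
  classical
  have hpp := hp.out
  obtain ⟨hidx, hZ₂C⟩ := index_centralizer hS hZ1 hZ2
  let Z₂ := (Subgroup.upperCentralSeries S 2).map S.subtype
  let C := S ⊓ Subgroup.centralizer (Z₂ : Set Ω)
  have hZ₂C : Z₂ ≤ C := hZ₂C
  have hidx : (C.subgroupOf S).index = p := hidx
  show F.IsEssential p C
  have hCS : C ≤ S := inf_le_left
  have hCfin : Finite C := finite_of_le hCS
  have hco : IsCoatom (C.subgroupOf S) := Cfsg.Agent.Lib.PGroups.Basic.isCoatom_of_index_prime (hidx ▸ hpp)
  have hnormal := Cfsg.Agent.Lib.PGroups.Basic.normal_of_isCoatom hS hco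
  have hClt : C < S := by
    refine lt_of_le_of_ne hCS fun h => ?_
    apply hco.1
    rw [h]
    exact Subgroup.subgroupOf_self S
  have hCN : ∀ s ∈ S, s ∈ Subgroup.normalizer (C : Set Ω) := by
    intro s hs
    rw [Subgroup.mem_normalizer_iff]
    have key : ∀ s ∈ S, ∀ v ∈ C, s * v * s⁻¹ ∈ C := fun s hs v hv =>
      Subgroup.mem_subgroupOf.1 (hnormal.conj_mem (⟨v, hCS hv⟩ : S) (Subgroup.mem_subgroupOf.2 hv) ⟨s, hs⟩)
    intro v
    refine ⟨key s hs v, fun h => ?_⟩
    have h1 := key _ (S.inv_mem hs) _ h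
    have e : s⁻¹ * (s * v * s⁻¹) * s⁻¹⁻¹ = v := by group
    rwa [e] at h1
  have hCn : F.IsFullyNormalized C := isFullyNormalized_of_normalized F hCS hCN
  have hZn : F.IsFullyNormalized Z₂ := isFullyNormalized_of_normalized F (hZ₂C.trans hCS) (fun s hs => zz_normalized hs)
  have hrec := isReceptive_of_isFullyNormalized F hS hF hZn
  have hCext : C ≤ extender S Z₂ φ := by
    intro c hc
    refine mem_extender_of φ (hCS hc) (zz_normalized (hCS hc)) S.one_mem ?_
    · intro x
      have h7 : (x : Ω) * c = c * x := Subgroup.mem_centralizer_iff.1 hc.2 x x.2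
      have e : c * (x : Ω) * c⁻¹ = x := by
        rw [← h7]
        group
      have e2 : (⟨c * x * c⁻¹, (Subgroup.mem_normalizer_iff.1 (zz_normalized (hCS hc)) x).1 x.2⟩ : Z₂) = x := Subtype.ext e
      have e3 := congrArg φ e2
      refine e3.trans ?_
      simp
  obtain ⟨ψ, hψ, hψext⟩ := IsReceptive.exists_extension F hrec hφ hφZ hCext hZ₂C
  have hψC : ψ.range ≤ C := by
    rintro _ ⟨c, rfl⟩
    refine ⟨range_le F hψ ⟨c, rfl⟩, Subgroup.mem_centralizer_iff.2 fun v hv => ?_⟩
    obtain ⟨w, hw⟩ : v ∈ φ.range := by rw [hφZ]; exact hv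
    rw [← hw, ← hψext w, ← map_mul, ← map_mul]
    congr 1
    apply Subtype.ext
    exact Subgroup.mem_centralizer_iff.1 c.2.2 w w.2
  have hψr : ψ.range = C := Subgroup.eq_of_le_of_card_ge hψC (by rw [card_range F hψ])
  obtain ⟨α, hα, hαψ⟩ := exists_aut_of_range F hψ hψr
  rcases essential_dichotomy F hS hF hClt hCn with ⟨-, hH⟩ | ⟨hE, -⟩
  swap
  · exact hE
  exfalso
  rw [← hH] at hα
  let Z := S ⊓ Subgroup.centralizer (S : Set Ω)
  have hZC : Z ≤ C := fun v hv => ⟨hv.1, Subgroup.mem_centralizer_iff.2 fun w hw => Subgroup.mem_centralizer_iff.1 hv.2 w ((hZ₂C.trans hCS) hw)⟩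
  have key : ∀ β ∈ extendable F C, ∀ x : C, (x : Ω) ∈ Z ↔ ((β x : C) : Ω) ∈ Z := by
    intro β hβ
    induction hβ using Subgroup.closure_induction with
    | mem β hβ =>
      obtain ⟨Q, hCQ, φ', hφ', hext⟩ := hβ
      intro x
      have hQS := Cfsg.Agent.Lib.Fusion.Basic.le_of_mem F hφ'
      have hQ : Q = S := by
        have h1 : C.subgroupOf S < Q.subgroupOf S := by
          obtain ⟨q, hq, hqC⟩ := SetLike.exists_of_lt hCQ
          refine SetLike.lt_iff_le_and_exists.2 ⟨fun v hv => Subgroup.mem_subgroupOf.2 (hCQ.le (Subgroup.mem_subgroupOf.1 hv)), ⟨q, hQS hq⟩, Subgroup.mem_subgroupOf.2 hq, fun h => hqC (Subgroup.mem_subgroupOf.1 h)⟩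
        have h2 := hco.2 _ h1
        refine le_antisymm hQS fun v hv => ?_
        have : (⟨v, hv⟩ : S) ∈ Q.subgroupOf S := by rw [h2]; trivial
        exact Subgroup.mem_subgroupOf.1 this
      subst hQ
      have hinj := F.injective_of_mem hφ'
      have hrange : φ'.range = Q := Subgroup.eq_of_le_of_card_ge (range_le F hφ') (by rw [card_range F hφ'])
      rw [← hext x]
      constructor
      · intro hx
        refine ⟨val_mem F hφ' _, Subgroup.mem_centralizer_iff.2 fun y hy => ?_⟩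
        obtain ⟨s, hs⟩ : y ∈ φ'.range := by rw [hrange]; exact hy
        rw [← hs, ← map_mul, ← map_mul]
        congr 1
        apply Subtype.ext
        exact Subgroup.mem_centralizer_iff.1 hx.2 s s.2
      · intro hx
        refine ⟨hCS x.2, Subgroup.mem_centralizer_iff.2 fun y hy => ?_⟩
        have h1 := Subgroup.mem_centralizer_iff.1 hx.2 (φ' ⟨y, hy⟩) (val_mem F hφ' _)
        rw [← map_mul, ← map_mul] at h1
        have h2 := congrArg Subtype.val (hinj h1)
        exact h2
    | one =>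
      intro x
      rfl
    | mul a b _ _ ha hb =>
      intro x
      rw [hb x, ha (b x)]
      rfl
    | inv a _ ha =>
      intro x
      have h1 := ha (a⁻¹ x)
      have e : a (a⁻¹ x) = x := MulAut.apply_inv_self _ _ _ |> fun h => h
      rw [e] at h1
      exact h1.symm
  have h1 := (key α hα ⟨z, hZC hzZ⟩).1 hzZ
  rw [hαψ] at h1
  have h2 := hψext ⟨z, hz⟩
  have e : (⟨((⟨z, hz⟩ : Z₂) : Ω), hZ₂C (⟨z, hz⟩ : Z₂).2⟩ : C) = ⟨z, hZC hzZ⟩ := rfl
  rw [e] at h2
  rw [h2] at h1
  exact hmove h1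

end main

end Cfsg.Agent.Lib.FusionTheory.MaxClass
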