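import Cfsg.Agent.Lib.Fusion.Model
import Cfsg.Agent.Lib.Core.Basic
import Cfsg.Agent.Lib.Core.PSolvable
import Cfsg.Agent.Lib.PReduced.StrongFusion
import Cfsg.Agent.Lib.FusionExt.NormalSubgroup
import Cfsg.Agent.Lib.Fusion.Trans2
import Cfsg.Agent.Lib.FusionExt.Realized
import Cfsg.Agent.Lib.FusionExt.Constrained
import Cfsg.Agent.S5090
import Cfsg.Agent.S5145

/-!
# Realizations and normal subgroups of the realizing group
-/

set_option autoImplicit false
set_option linter.unusedSectionVars false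
set_option linter.unusedVariables false

namespace Cfsg.Agent.Lib.FusionTheory.RealizeQuot

open Cfsg Cfsg.FusionSystem Cfsg.Agent.Lib.Fusion.Basic Cfsg.Agent.Lib.Core.Basic
open Cfsg.Agent.Lib.FusionExt.MapApi Cfsg.Agent.Lib.Fusion.Trans

section quot

variable {Ω : Type*} [Group Ω] {S : Subgroup Ω} {G : Type*} [Group G] [Finite G] {p : ℕ} [Fact p.Prime]

/-- A realization passes to the quotient by a normal `p'`-subgroup. -/
theorem quot_realized {F : FusionSystem S} {ι : S →* G} (hι : F.IsRealizedBy ι) (T : Sylow p G)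
    (hT : (T : Subgroup G) = ι.range) (N : Subgroup G) [hN : N.Normal] (hc : (Nat.card N).Coprime p) :
    F.IsRealizedBy ((QuotientGroup.mk' N).comp ι) ∧
      ∃ T' : Sylow p (G ⧸ N), (T' : Subgroup (G ⧸ N)) = ((QuotientGroup.mk' N).comp ι).range := by
  classical
  let π := QuotientGroup.mk' N
  have hTN : (T : Subgroup G) ⊓ N = ⊥ := inf_eq_bot_of_isPGroup_of_coprime T.isPGroup' hc
  have hπ : ∀ x y : G, x ∈ (T : Subgroup G) → y ∈ (T : Subgroup G) → π x = π y → x = y := by
    intro x y hx hy h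
    have h1 : x⁻¹ * y ∈ N := QuotientGroup.eq.1 h
    have h2 : x⁻¹ * y ∈ (T : Subgroup G) ⊓ N := ⟨Subgroup.mul_mem _ (Subgroup.inv_mem _ hx) hy, h1⟩
    rw [hTN, Subgroup.mem_bot] at h2
    exact (inv_mul_eq_one.1 h2)
  have hιT : ∀ s : S, ι s ∈ (T : Subgroup G) := fun s => hT ▸ ⟨s, rfl⟩
  refine ⟨⟨?_, ?_⟩, T.mapSurjective (QuotientGroup.mk'_surjective N), ?_⟩
  · intro x y h
    exact hι.1 (hπ _ _ (hιT x) (hιT y) h)
  · intro P hP φ hφ
    constructor
    · intro hm
      obtain ⟨g, hg⟩ := (hι.2 P hP φ hφ).1 hm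
      refine ⟨π g, fun x => ?_⟩
      show π (ι _) = π g * π (ι _) * (π g)⁻¹
      rw [hg x, map_mul, map_mul, map_inv]
    · rintro ⟨gb, hgb⟩
      obtain ⟨g, rfl⟩ := QuotientGroup.mk'_surjective N gb
      refine (hι.2 P hP φ hφ).2 ?_
      let ψ : P →* G := ι.comp (φ.codRestrict S hφ)
      let Q : Subgroup G := ψ.range
      have hQT : Q ≤ T := by
        rintro _ ⟨x, rfl⟩
        exact hιT _
      have hQp : IsPGroup p Q := T.isPGroup'.to_le hQT
      let ψ₁ : P →* G := (MulAut.conj g).toMonoidHom.comp (ι.comp (Subgroup.inclusion hP))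
      have hψ₁ : ∀ x : P, ψ₁ x = g * ι ⟨x, hP x.2⟩ * g⁻¹ := fun x => rfl
      let P₁ : Subgroup G := ψ₁.range
      have hP₁p : IsPGroup p P₁ := by
        have h1 : IsPGroup p ((T : Subgroup G).map (MulAut.conj g).toMonoidHom) := T.isPGroup'.map _
        refine h1.to_le ?_
        rintro _ ⟨x, rfl⟩
        exact ⟨_, hιT _, rfl⟩
      have hπψ : ∀ x : P, π (ψ x) = π (ψ₁ x) := by
        intro x
        have h1 := hgb x
        exact h1
      let H : Subgroup G := Q ⊔ N
      have hP₁H : P₁ ≤ H := by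
        rintro _ ⟨x, rfl⟩
        have h1 : (ψ x)⁻¹ * ψ₁ x ∈ N := QuotientGroup.eq.1 (hπψ x)
        have h2 : ψ₁ x = ψ x * ((ψ x)⁻¹ * ψ₁ x) := by group
        rw [h2]
        exact H.mul_mem (Subgroup.mem_sup_left ⟨x, rfl⟩) (Subgroup.mem_sup_right h1)
      have hQHp : IsPGroup p (Q.subgroupOf H) := isPGroup_subgroupOf H hQp
      obtain ⟨R, hR⟩ := hQHp.exists_le_sylow
      have hRQ : ∀ r ∈ (R : Subgroup H), ((r : H) : G) ∈ Q := by
        intro r hr
        have h1 : (r : G) ∈ ((Q ⊔ N : Subgroup G) : Set G) := r.2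
        rw [Subgroup.mul_normal] at h1
        obtain ⟨q, hq, n, hn, hqn⟩ := Set.mem_mul.1 h1
        have hqH : q ∈ H := Subgroup.mem_sup_left hq
        have hqR : (⟨q, hqH⟩ : H) ∈ (R : Subgroup H) := hR hq
        have hnH : n ∈ H := Subgroup.mem_sup_right hn
        have e : (⟨q, hqH⟩ : H)⁻¹ * r = ⟨n, hnH⟩ := by
          apply Subtype.ext
          show q⁻¹ * (r : G) = n
          rw [← hqn]
          group
        have hnR : (⟨n, hnH⟩ : H) ∈ (R : Subgroup H) := by
          rw [← e]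
          exact Subgroup.mul_mem _ (Subgroup.inv_mem _ hqR) hr
        have hmp : IsPGroup p ((R : Subgroup H).map H.subtype) := R.isPGroup'.map _
        have hbot := inf_eq_bot_of_isPGroup_of_coprime hmp hc
        have hn1 : n ∈ (R : Subgroup H).map H.subtype ⊓ N := ⟨⟨⟨n, hnH⟩, hnR, rfl⟩, hn⟩
        rw [hbot, Subgroup.mem_bot] at hn1
        rw [← hqn, hn1, mul_one]
        exact hq
      have hP₁Hp : IsPGroup p (P₁.subgroupOf H) := isPGroup_subgroupOf H hP₁p
      obtain ⟨y, hy⟩ := Cfsg.Agent.Lib.PReduced.StrongFusion.exists_conj_le_sylow R hP₁Hp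
      have h1 : (y : G) ∈ ((Q ⊔ N : Subgroup G) : Set G) := y.2
      rw [Subgroup.mul_normal] at h1
      obtain ⟨q, hq, n, hn, hqn⟩ := Set.mem_mul.1 h1
      refine ⟨n * g, fun x => ?_⟩
      have hu : n * ψ₁ x * n⁻¹ ∈ Q := by
        have h2 : (⟨ψ₁ x, hP₁H ⟨x, rfl⟩⟩ : H) ∈ P₁.subgroupOf H := ⟨x, rfl⟩
        have h3 := hRQ _ (hy _ h2)
        have h4 : ((y * ⟨ψ₁ x, hP₁H ⟨x, rfl⟩⟩ * y⁻¹ : H) : G) = y * ψ₁ x * (y : G)⁻¹ := rfl
        rw [h4] at h3
        have h5 := Q.mul_mem (Q.mul_mem (Q.inv_mem hq) h3) hq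
        have e : q⁻¹ * ((y : G) * ψ₁ x * (y : G)⁻¹) * q = n * ψ₁ x * n⁻¹ := by
          rw [← hqn]
          group
        rwa [e] at h5
      have hπu : π (n * ψ₁ x * n⁻¹) = π (ψ x) := by
        have hn1 : π n = 1 := (QuotientGroup.eq_one_iff n).2 hn
        rw [map_mul, map_mul, map_inv, hn1, hπψ]
        group
      have h6 := hπ _ _ (hQT hu) (hQT ⟨x, rfl⟩) hπu
      show ψ x = n * g * ι ⟨x, hP x.2⟩ * (n * g)⁻¹
      rw [← h6, hψ₁]
      group
  · rw [Sylow.coe_mapSurjective, hT, MonoidHom.range_comp]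

end quot

section realize

universe u v

variable {Ω : Type u} [Group Ω] {S : Subgroup Ω} {G : Type v} [Group G] {ι : S →* G}

open Classical in
/-- The forward function of a realization. -/
noncomputable def fwdFun (ι : S →* G) : Ω → G := fun x => if h : x ∈ S then ι ⟨x, h⟩ else 1

open Classical in
/-- The backward function of a realization. -/
noncomputable def bwdFun (ι : S →* G) (hinj : Function.Injective ι) : G → Ω :=
  fun y => if h : y ∈ ι.range then (((MonoidHom.ofInjective hinj).symm ⟨y, h⟩ : S) : Ω) else 1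

theorem fwdFun_mem {x : Ω} (h : x ∈ S) : fwdFun ι x = ι ⟨x, h⟩ := by
  simp only [fwdFun, dif_pos h]

theorem bwdFun_iota (hinj : Function.Injective ι) (s : S) : bwdFun ι hinj (ι s) = s := by
  have h : ι s ∈ ι.range := ⟨s, rfl⟩
  simp only [bwdFun, dif_pos h]
  have e : (⟨ι s, h⟩ : ι.range) = MonoidHom.ofInjective hinj s := rfl
  rw [e, MulEquiv.symm_apply_apply]

theorem iso_of_inj (hinj : Function.Injective ι) : Iso S ι.range (fwdFun ι) (bwdFun ι hinj) where
  mul := by
    intro x hx y hy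
    rw [fwdFun_mem hx, fwdFun_mem hy, fwdFun_mem (S.mul_mem hx hy), ← map_mul]
    rfl
  mem := by
    intro x hx
    rw [fwdFun_mem hx]
    exact ⟨_, rfl⟩
  mem' := by
    rintro _ ⟨s, rfl⟩
    rw [bwdFun_iota]
    exact s.2
  ba := by
    intro x hx
    rw [fwdFun_mem hx, bwdFun_iota]
  ab := by
    rintro _ ⟨s, rfl⟩
    rw [bwdFun_iota, fwdFun_mem s.2]

theorem mem_im_iff (hinj : Function.Injective ι) {X : Subgroup Ω} (hX : X ≤ S) {y : G} :
    y ∈ (iso_of_inj hinj).im X ↔ ∃ x : X, y = ι ⟨x, hX x.2⟩ := by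
  constructor
  · rintro ⟨⟨s, rfl⟩, h2⟩
    rw [bwdFun_iota] at h2
    exact ⟨⟨s, h2⟩, rfl⟩
  · rintro ⟨x, rfl⟩
    refine ⟨⟨_, rfl⟩, ?_⟩
    rw [bwdFun_iota]
    exact x.2

/-- A realization gives a correspondence with the fusion system of the group. -/
theorem corr_of_realized {F : FusionSystem S} (hι : F.IsRealizedBy ι) :
    Corr (iso_of_inj hι.1) F (groupFusionSystem ι.range) := by
  have hinj := hι.1
  have h := iso_of_inj hinj
  refine ⟨le_rfl, ?_, ?_, ?_⟩
  · ext y
    constructor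
    · intro hy
      exact ⟨hy, (iso_of_inj hinj).mem' y hy⟩
    · intro hy
      exact hy.1
  · rintro X f ⟨φ, hφ, e⟩
    have hXS := Cfsg.Agent.Lib.Fusion.Basic.le_of_mem F hφ
    obtain ⟨g, hg⟩ := (hι.2 X hXS φ (fun x => val_mem F hφ x)).1 hφ
    refine ⟨conjHom _ g, ⟨Iso.im_le _, ?_, g, fun x => rfl⟩, ?_⟩
    · rintro ⟨y, hy⟩
      obtain ⟨x, rfl⟩ := (mem_im_iff hinj hXS).1 hy
      show g * ι ⟨x, hXS x.2⟩ * g⁻¹ ∈ ι.range
      rw [← hg x]
      exact ⟨_, rfl⟩
    · rintro ⟨y, hy⟩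
      obtain ⟨x, rfl⟩ := (mem_im_iff hinj hXS).1 hy
      show g * ι ⟨x, hXS x.2⟩ * g⁻¹ = fwdFun ι (f (bwdFun ι hinj (ι ⟨x, hXS x.2⟩)))
      rw [bwdFun_iota, ← hg x]
      show _ = fwdFun ι (f x)
      rw [← e x, fwdFun_mem (val_mem F hφ x)]
  · rintro X' f' ⟨χ, hχ, e⟩
    obtain ⟨hX'T, hval, g, hg⟩ := hχ
    have hSim : ∀ x : Ω, x ∈ (iso_of_inj hinj).symm.im X' → ∃ hxS : x ∈ S, ι ⟨x, hxS⟩ ∈ X' := by
      rintro x ⟨hxS, hx⟩
      rw [fwdFun_mem hxS] at hx
      exact ⟨hxS, hx⟩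
    have hXS : (iso_of_inj hinj).symm.im X' ≤ S := Iso.im_le _
    let ρ : (iso_of_inj hinj).symm.im X' →* X' :=
      { toFun := fun x => ⟨ι ⟨x, hXS x.2⟩, (hSim x x.2).2⟩
        map_one' := by
          apply Subtype.ext
          exact map_one ι
        map_mul' := by
          intro x y
          apply Subtype.ext
          show ι _ = ι _ * ι _
          rw [← map_mul]
          rfl }
    let χ' : (iso_of_inj hinj).symm.im X' →* ι.range := (χ.codRestrict _ hval).comp ρ
    let σ : ι.range →* Ω := S.subtype.comp (MonoidHom.ofInjective hinj).symm.toMonoidHom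
    let φ : (iso_of_inj hinj).symm.im X' →* Ω := σ.comp χ'
    have hφS : ∀ x, φ x ∈ S := fun x => ((MonoidHom.ofInjective hinj).symm (χ' x)).2
    have hιφ : ∀ x, ι ⟨φ x, hφS x⟩ = χ (ρ x) := by
      intro x
      have h1 : (⟨φ x, hφS x⟩ : S) = (MonoidHom.ofInjective hinj).symm (χ' x) := rfl
      rw [h1]
      have h2 := (MonoidHom.ofInjective hinj).apply_symm_apply (χ' x)
      exact congrArg Subtype.val h2
    refine ⟨φ, (hι.2 _ hXS φ hφS).2 ⟨g, fun x => ?_⟩, fun x => ?_⟩
    · rw [hιφ, hg]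
      rfl
    · show φ x = bwdFun ι hinj (f' (fwdFun ι x))
      have h1 : f' (ι ⟨x, hXS x.2⟩) = χ (ρ x) := (e (ρ x)).symm
      rw [fwdFun_mem (hXS x.2), h1, ← hιφ, bwdFun_iota]

end realize

section solvable

universe u

variable {Ω : Type u} [Group Ω] {S : Subgroup Ω} [Finite S] {p : ℕ} [Fact p.Prime]

open Cfsg.Agent.Lib.Fusion.Model Cfsg.Agent.Lib.Core.PSolvable in
/-- The group of automorphisms of `O_p(F)` is a quotient of a model. -/
theorem isPSolvable_aut_of_model {F : FusionSystem S} {G : Type u} [Group G] [Finite G] {ι : S →* G}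
    (hG : F.IsModel p G ι) (hs : IsPSolvable p G) : IsPSolvable p ↥(F.autGroup F.core) := by
  have hQ : F.IsNormal F.core := Cfsg.Agent.S5145.result F
  let r : G →* F.autGroup F.core := (rho hG hQ).codRestrict _ (rho_mem hG hQ)
  have hr : Function.Surjective r := by
    rintro ⟨a, ha⟩
    obtain ⟨g, hg⟩ := rho_surj hG hQ ha
    exact ⟨g, Subtype.ext hg⟩
  exact isPSolvable_of_surjective r hr hs

open Cfsg.Agent.Lib.Fusion.Model Cfsg.Agent.Lib.Core.PSolvable in
/-- A model is `p`-solvable when the automorphism group of `O_p(F)` is. -/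
theorem isPSolvable_model {F : FusionSystem S} (hS : IsPGroup p S) {G : Type u} [Group G] [Finite G] {ι : S →* G}
    (hG : F.IsModel p G ι) (hc : F.IsConstrained p) (hs : IsPSolvable p ↥(F.autGroup F.core)) : IsPSolvable p G := by
  have hQ : F.IsNormal F.core := Cfsg.Agent.S5145.result F
  obtain ⟨-, Q₀, hQ₀, hQ₀c⟩ := hc
  have hcent := Cfsg.Agent.Lib.FusionExt.Constrained.isCentric_core F hQ₀ hQ₀c
  have hC : centralizerIn S F.core ≤ F.core := hcent.2 _ (isConj_refl F hQ.1)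
  let r : G →* F.autGroup F.core := (rho hG hQ).codRestrict _ (rho_mem hG hQ)
  have hr : Function.Surjective r := by
    rintro ⟨a, ha⟩
    obtain ⟨g, hg⟩ := rho_surj hG hQ ha
    exact ⟨g, Subtype.ext hg⟩
  have hfinQ : Finite F.core := finite_of_le hQ.1
  have hfinA : Finite (MulAut F.core) := finite_mulAut_of_finite (A := F.core)
  have hq : IsPSolvable p (G ⧸ r.ker) :=
    isPSolvable_of_equiv (QuotientGroup.quotientKerEquivOfSurjective r hr).symm hs
  have hkp : IsPGroup p r.ker := by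
    rintro ⟨g, hg⟩
    have hg1 : rho hG hQ g = 1 := congrArg Subtype.val (MonoidHom.mem_ker.1 hg)
    obtain ⟨s, -, rfl⟩ := exists_of_rho_eq_one hS hG hQ hC hg1
    obtain ⟨k, hk⟩ := hS s
    refine ⟨k, Subtype.ext ?_⟩
    show ι s ^ p ^ k = 1
    rw [← map_pow, hk, map_one]
  obtain ⟨k, hk⟩ := IsPGroup.iff_card.1 hkp
  exact isPSolvable_of_normal_of_quotient r.ker (Or.inl ⟨k, hk⟩) hq

open Cfsg.Agent.Lib.Core.PSolvable in
/-- **S5292**. -/
theorem s5292 (hS : IsPGroup p S) (F : FusionSystem S) (hF : F.IsSaturated p) :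
    (∃ (G : Type u) (_ : Group G) (_ : Finite G) (ι : S →* G), IsPSolvable p G ∧ F.IsRealizedBy ι ∧
        ∃ T : Sylow p G, (T : Subgroup G) = ι.range) ↔
      (F.IsConstrained p ∧ IsPSolvable p ↥(F.autGroup F.core)) := by
  constructor
  · rintro ⟨G, _, _, ι, hs, hι, T, hT⟩
    have hO : (pPrimeCore p G).Normal := pPrimeCore_normal p G
    obtain ⟨h1, h2⟩ := quot_realized hι T hT (pPrimeCore p G) pPrimeCore_coprime
    have hsq : IsPSolvable p (G ⧸ pPrimeCore p G) :=
      isPSolvable_of_surjective (QuotientGroup.mk' _) (QuotientGroup.mk'_surjective _) hs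
    have hb : pPrimeCore p (G ⧸ pPrimeCore p G) = ⊥ := pPrimeCore_quotient_eq_bot
    have hc := centralizer_pCore_le_of_isPSolvable hsq hb
    have hM : F.IsModel p (G ⧸ pPrimeCore p G) ((QuotientGroup.mk' _).comp ι) := ⟨inferInstance, h1, h2, hc⟩
    exact ⟨Cfsg.Agent.Lib.FusionExt.Realized.isConstrained_of_isModel hM, isPSolvable_aut_of_model hM hsq⟩
  · rintro ⟨hc, hs⟩
    obtain ⟨L, _, ι, hM⟩ := Cfsg.Agent.S5090.result p hS F hc
    have hfin : Finite L := hM.1
    exact ⟨L, _, hfin, ι, isPSolvable_model hS hM hc hs, hM.2.1, hM.2.2.1⟩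

end solvable

section simple

universe u

variable {Ω : Type u} [Group Ω] {S : Subgroup Ω} [Finite S] {p : ℕ} [Fact p.Prime]

open Cfsg.Agent.Lib.Fusion.Trans2 in
/-- Descent to a smaller group from a proper nontrivial normal subgroup. -/
theorem exists_smaller (hS : IsPGroup p S) (F : FusionSystem S) (hsimple : F.IsSimple p)
    {G : Type u} [Group G] [Finite G] (ι : S →* G) (hι : F.IsRealizedBy ι) (T : Sylow p G)
    (hT : (T : Subgroup G) = ι.range) (N : Subgroup G) [hN : N.Normal] (hN1 : N ≠ ⊥) (hN2 : N ≠ ⊤) :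
    ∃ (G' : Type u) (_ : Group G') (_ : Finite G') (ι' : S →* G'), Nat.card G' < Nat.card G ∧
      F.IsRealizedBy ι' ∧ ∃ T' : Sylow p G', (T' : Subgroup G') = ι'.range := by
  classical
  have hinj := hι.1
  have hrp : IsPGroup p ι.range := hT ▸ T.isPGroup'
  have hrm : ∀ {Q : Subgroup G}, IsPGroup p Q → ι.range ≤ Q → Q = ι.range := by
    rw [← hT]
    exact T.is_maximal'
  let T₁ : Sylow p G := { toSubgroup := ι.range, isPGroup' := hrp, is_maximal' := hrm }
  have hnE : (fusionSystemOfSubgroup N (ι.range ⊓ N) inf_le_right).IsNormalIn (groupFusionSystem ι.range) p :=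
    Cfsg.Agent.Lib.FusionExt.NormalSubgroup.isNormalIn_ofNormal T₁ N
  have hcorr := corr_of_realized hι
  have h := iso_of_inj hinj
  obtain ⟨E', hE'⟩ := exists_corr (iso_of_inj hinj).symm (inf_le_left : ι.range ⊓ N ≤ ι.range)
    (fusionSystemOfSubgroup N (ι.range ⊓ N) inf_le_right)
  have hnormal := normal hrp hcorr.symm hE' hnE
  rcases hsimple.2.2 _ E' hnormal with h0 | ⟨h0, hhom⟩
  · -- a normal `p'`-subgroup
    have hι1 : ∀ s : S, ι s ∈ N → s = 1 := by
      intro s hs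
      have h1 : (s : Ω) ∈ (iso_of_inj hinj).symm.im (ι.range ⊓ N) := by
        refine ⟨s.2, ?_⟩
        show fwdFun ι s ∈ _
        rw [fwdFun_mem s.2]
        exact ⟨⟨s, rfl⟩, hs⟩
      rw [h0, Subgroup.mem_bot] at h1
      exact Subtype.ext h1
    have hcop : (Nat.card N).Coprime p := by
      refine ((Nat.Prime.coprime_iff_not_dvd Fact.out).2 fun hd => ?_).symm
      obtain ⟨x, hx⟩ := exists_prime_orderOf_dvd_card' (p := p) hd
      have hzp : IsPGroup p (Subgroup.zpowers (x : G)) := by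
        refine IsPGroup.of_card (n := 1) ?_
        rw [Nat.card_zpowers, Subgroup.orderOf_coe, hx, pow_one]
      obtain ⟨y, hy⟩ := Cfsg.Agent.Lib.PReduced.StrongFusion.exists_conj_le_sylow T₁ hzp
      obtain ⟨s, hs⟩ := hy x (Subgroup.mem_zpowers _)
      have hsN : ι s ∈ N := by
        rw [hs]
        exact hN.conj_mem _ x.2 y
      have h1 := hι1 s hsN
      rw [h1, map_one] at hs
      have h2 : (x : G) = 1 := by
        have : y * (x : G) * y⁻¹ = 1 := hs.symm
        have h3 : (x : G) = y⁻¹ * (y * (x : G) * y⁻¹) * y := by group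
        rw [h3, this]
        group
      have h3 : x = 1 := Subtype.ext h2
      rw [h3, orderOf_one] at hx
      exact (Fact.out : p.Prime).one_lt.ne hx
    obtain ⟨h1, h2⟩ := quot_realized hι T₁ rfl N hcop
    refine ⟨G ⧸ N, inferInstance, inferInstance, _, ?_, h1, h2⟩
    have hc1 : 1 < Nat.card N := by
      by_contra hc
      have hc2 : Nat.card N = 1 := by
        have : 0 < Nat.card N := Nat.card_pos
        omega
      exact hN1 (Subgroup.eq_bot_of_card_eq N hc2)
    have hc2 := Subgroup.card_eq_card_quotient_mul_card_subgroup N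
    have hc3 : 0 < Nat.card (G ⧸ N) := Nat.card_pos
    rw [hc2]
    nlinarith
  · -- `N` contains the Sylow subgroup
    have hιN : ∀ s : S, ι s ∈ N := by
      intro s
      have h1 : (s : Ω) ∈ (iso_of_inj hinj).symm.im (ι.range ⊓ N) := by
        rw [h0]
        exact s.2
      have h2 := h1.2
      have h3 : fwdFun ι s ∈ ι.range ⊓ N := h2
      rw [fwdFun_mem s.2] at h3
      exact h3.2
    have hrN : ι.range ≤ N := by
      rintro _ ⟨s, rfl⟩
      exact hιN s
    let ι' : S →* N := ι.codRestrict N hιN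
    have hcard : Nat.card N < Nat.card G :=
      lt_of_le_of_ne (Subgroup.card_le_card_group N) (fun e => hN2 (Subgroup.eq_top_of_card_eq N e))
    refine ⟨N, inferInstance, inferInstance, ι', hcard, ⟨?_, ?_⟩, T₁.subtype hrN, ?_⟩
    · intro x y hxy
      exact hinj (congrArg Subtype.val hxy)
    · intro P hP φ hφ
      constructor
      · intro hm
        have hm' : φ ∈ E'.Hom P := by
          rw [hhom P]
          exact hm
        obtain ⟨ψ, ⟨-, -, g, hgN, hg⟩, e⟩ := hE'.bwd _ _ (mp_of_hom hm')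
        refine ⟨⟨g, hgN⟩, fun x => Subtype.ext ?_⟩
        have hxim : ι ⟨x, hP x.2⟩ ∈ (iso_of_inj hinj).symm.symm.im P := by
          refine ⟨⟨_, rfl⟩, ?_⟩
          rw [bwdFun_iota]
          exact x.2
        have h1 := e ⟨_, hxim⟩
        rw [hg] at h1
        have h2 : tr (fwdFun ι) (bwdFun ι hinj) (extOf φ) (ι ⟨x, hP x.2⟩) = ι ⟨φ x, hφ x⟩ := by
          show fwdFun ι (extOf φ (bwdFun ι hinj (ι ⟨x, hP x.2⟩))) = _
          rw [bwdFun_iota]
          show fwdFun ι (extOf φ x) = _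
          rw [extOf_coe, fwdFun_mem (hφ x)]
        exact h2.symm.trans h1.symm
      · rintro ⟨g, hg⟩
        have hgx : ∀ x : P, ι ⟨φ x, hφ x⟩ = g * ι ⟨x, hP x.2⟩ * (g : G)⁻¹ := fun x => congrArg Subtype.val (hg x)
        let X : Subgroup G := (iso_of_inj hinj).im P
        have hXr : ∀ y : X, ∃ x : P, (y : G) = ι ⟨x, hP x.2⟩ := fun y => (mem_im_iff hinj hP).1 y.2
        have hmp : Mp (fusionSystemOfSubgroup N (ι.range ⊓ N) inf_le_right) X (fun y => g * y * (g : G)⁻¹) := by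
          refine ⟨conjHom X g, ⟨?_, ?_, g, g.2, fun x => rfl⟩, fun _ => rfl⟩
          · intro y hy
            obtain ⟨x, rfl⟩ := hXr ⟨y, hy⟩
            exact ⟨⟨_, rfl⟩, hιN _⟩
          · intro y
            obtain ⟨x, hx⟩ := hXr y
            show g * (y : G) * (g : G)⁻¹ ∈ _
            rw [hx, ← hgx]
            exact ⟨⟨_, rfl⟩, hιN _⟩
        have h1 := hE'.fwd _ _ hmp
        have hsi : (iso_of_inj hinj).symm.im X = P := (iso_of_inj hinj).symm_im_im hP
        rw [hsi] at h1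
        obtain ⟨φ₂, hφ₂, e₂⟩ := h1
        have hφe : φ₂ = φ := by
          ext x
          rw [e₂ x]
          show bwdFun ι hinj (g * fwdFun ι x * (g : G)⁻¹) = φ x
          rw [fwdFun_mem (hP x.2), ← hgx, bwdFun_iota]
        rw [← hhom P, ← hφe]
        exact hφ₂
    · rw [Sylow.coe_subtype]
      ext x
      constructor
      · rintro ⟨s, hs⟩
        exact ⟨s, Subtype.ext hs⟩
      · rintro ⟨s, hs⟩
        exact ⟨s, congrArg Subtype.val hs⟩

/-- The minimal realizing group is simple. -/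
theorem exists_simple_aux (hS : IsPGroup p S) (F : FusionSystem S) (hsimple : F.IsSimple p) :
    ∀ (n : ℕ) (G : Type u) [Group G] [Finite G] (ι : S →* G), Nat.card G = n → F.IsRealizedBy ι →
      (∃ T : Sylow p G, (T : Subgroup G) = ι.range) →
      ∃ (G' : Type u) (_ : Group G') (_ : Finite G') (_ : IsSimpleGroup G') (ι' : S →* G'),
        F.IsRealizedBy ι' ∧ ∃ T : Sylow p G', (T : Subgroup G') = ι'.range := by
  intro n
  induction n using Nat.strong_induction_on with
  | _ n IH =>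
  intro G _ _ ι hn hι hT
  by_cases hsg : IsSimpleGroup G
  · exact ⟨G, inferInstance, inferInstance, hsg, ι, hι, hT⟩
  have hnt : Nontrivial G := by
    obtain ⟨s, hs⟩ := Subgroup.ne_bot_iff_exists_ne_one.1 hsimple.2.1
    refine ⟨⟨ι s, 1, fun h => hs (hι.1 ?_)⟩⟩
    rw [h, map_one]
  obtain ⟨N, hN, hN1, hN2⟩ : ∃ N : Subgroup G, N.Normal ∧ N ≠ ⊥ ∧ N ≠ ⊤ := by
    by_contra hcon
    push Not at hcon
    apply hsg
    refine { toNontrivial := hnt, eq_bot_or_eq_top_of_normal := fun N hN => ?_ }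
    by_cases h : N = ⊥
    · exact Or.inl h
    · exact Or.inr (hcon N hN h)
  obtain ⟨T, hT⟩ := hT
  obtain ⟨G', _, _, ι', hlt, hι', hT'⟩ := exists_smaller hS F hsimple ι hι T hT N hN1 hN2
  exact IH _ (hn ▸ hlt) G' ι' rfl hι' hT'

end simple

end Cfsg.Agent.Lib.FusionTheory.RealizeQuot
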