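import Cfsg.Agent.Lib.FusionTheory.Transvect
import Cfsg.Agent.Lib.FusionTheory.Hyperfocal
import Cfsg.Agent.Lib.Fusion.KSystem
import Cfsg.Agent.Lib.Fusion.Thompson
import Cfsg.Agent.Lib.Transfer.SmallCritical
import Cfsg.Agent.Lib.SolvStruct.Fit
import Cfsg.Agent.Lib.Fusion.LocalGlobal

/-!
# Small exponent abelian subgroups control fusion
-/

set_option autoImplicit false
set_option linter.unusedSectionVars false
set_option linter.unusedVariables false

namespace Cfsg.Agent.Lib.FusionTheory.SmallControl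

open Cfsg Cfsg.FusionSystem Cfsg.Agent.Lib.Fusion.Basic Cfsg.Agent.Lib.Fusion.Saturation
  Cfsg.Agent.Lib.Fusion.Saturation2 Cfsg.Agent.Lib.Fusion.Alperin Cfsg.Agent.Lib.FusionTheory.Normal
  Cfsg.Agent.Lib.FusionTheory.Transvect Cfsg.Agent.Lib.FusionTheory.Hyperfocal
  Cfsg.Agent.Lib.Fusion.KSystem

variable {Ω : Type*} [Group Ω]

/-- The exponent of the small subgroups. -/
def smallExp (p : ℕ) : ℕ := if p = 2 then 4 else p

/-- Abelian of small exponent. -/
structure Small (p : ℕ) (A : Subgroup Ω) : Prop where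
  comm : ∀ a ∈ A, ∀ b ∈ A, a * b = b * a
  exp : ∀ a ∈ A, a ^ smallExp p = 1

/-- The morphisms of a system. -/
def Mor {S : Subgroup Ω} (F : FusionSystem S) : Set (Σ P : Subgroup Ω, (P →* Ω)) := {x | x.2 ∈ F.Hom x.1}

theorem finite_mor {S : Subgroup Ω} [Finite S] (F : FusionSystem S) : (Mor F).Finite := by
  classical
  let f : Mor F → Subgroup S × (S → Option S) := fun x =>
    (x.1.1.subgroupOf S, fun s => if hs : (s : Ω) ∈ x.1.1 then some ⟨x.1.2 ⟨s, hs⟩, val_mem F x.2 _⟩ else none)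
  have hinj : Function.Injective f := by
    rintro ⟨⟨P, φ⟩, hφ⟩ ⟨⟨Q, ψ⟩, hψ⟩ h
    have h1 : P.subgroupOf S = Q.subgroupOf S := congrArg Prod.fst h
    have h2 := congrArg Prod.snd h
    have hPS := Cfsg.Agent.Lib.Fusion.Basic.le_of_mem F hφ
    have hQS := Cfsg.Agent.Lib.Fusion.Basic.le_of_mem F hψ
    have hPQ : P = Q := by
      apply le_antisymm
      · intro x hx
        have : (⟨x, hPS hx⟩ : S) ∈ Q.subgroupOf S := by
          rw [← h1]
          exact hx
        exact this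
      · intro x hx
        have : (⟨x, hQS hx⟩ : S) ∈ P.subgroupOf S := by
          rw [h1]
          exact hx
        exact this
    subst hPQ
    have hφψ : φ = ψ := by
      ext x
      have h3 := congrFun h2 ⟨x, hPS x.2⟩
      have hx : (x : Ω) ∈ P := x.2
      simp only [f, dif_pos hx] at h3
      have h4 := Option.some.inj h3
      exact congrArg Subtype.val h4
    subst hφψ
    rfl
  have : Finite (Mor F) := Finite.of_injective f hinj
  exact Set.toFinite _

/-- Agreement on small subgroups of the hyperfocal subgroup. -/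
def Agree (p : ℕ) {S : Subgroup Ω} (E F : FusionSystem S) : Prop :=
  ∀ A B : Subgroup Ω, A ≤ F.hyperfocalSubgroup p → B ≤ F.hyperfocalSubgroup p → Small p A → Small p B →
    E.homSet A B = F.homSet A B

/-- The inductive hypothesis. -/
def IHyp (p : ℕ) (Ω : Type*) [Group Ω] (m : ℕ) : Prop :=
  ∀ (S : Subgroup Ω) [Finite S], IsPGroup p S → ∀ E F : FusionSystem S, E.IsSaturated p → F.IsSaturated p →
    E.IsSubsystemOf F → Agree p E F → (Mor F).ncard < m → ∀ P, F.Hom P ⊆ E.Hom P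

section hyp

variable {S T : Subgroup Ω} {p : ℕ}

theorem autGroup_mono {E : FusionSystem T} {F : FusionSystem S} (h : E.IsSubsystemOf F) (P : Subgroup Ω) :
    E.autGroup P ≤ F.autGroup P := by
  apply Subgroup.closure_mono
  intro α hα
  exact h P hα

theorem hyp_mono {E : FusionSystem T} {F : FusionSystem S} (hTS : T ≤ S) (h : E.IsSubsystemOf F) :
    E.hyperfocalSubgroup p ≤ F.hyperfocalSubgroup p := by
  classical
  refine (Subgroup.closure_le _).2 ?_
  rintro _ ⟨P, α, x, hP, hα, rfl⟩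
  let i : E.autGroup P →* F.autGroup P := Subgroup.inclusion (autGroup_mono h P)
  have hi : i α ∈ pResidual p (F.autGroup P) := by
    have key : pResidual p (E.autGroup P) ≤ (pResidual p (F.autGroup P)).comap i := by
      refine (Subgroup.closure_le _).2 ?_
      intro g hg
      refine Subgroup.subset_closure ?_
      show (orderOf (i g)).Coprime p
      have : orderOf (i g) = orderOf g := orderOf_injective i (Subgroup.inclusion_injective _) g
      rw [this]
      exact hg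
    exact key hα
  exact mem_hyp F (hP.trans hTS) hi x

end hyp

section choice

variable {S : Subgroup Ω} (F : FusionSystem S) {p : ℕ} [hp : Fact p.Prime] [Finite S]

/-- The subgroup `A`. -/
theorem exists_small_abelian (hS : IsPGroup p S) {P : Subgroup Ω} (hPS : P ≤ S) :
    ∃ A : Subgroup Ω, A ≤ P ∧ A ≤ F.hyperfocalSubgroup p ∧ Small p A ∧
      (∀ s ∈ normalizerIn S P, ∀ a ∈ A, s * a * s⁻¹ ∈ A) ∧
      (∀ β ∈ F.autGroup P, (∀ x : P, (x : Ω) ∈ A → β x = x) → ∃ k : ℕ, orderOf β = p ^ k) := by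
  classical
  have hfinP : Finite P := finite_of_le hPS
  have hPp : IsPGroup p P := hS.to_le hPS
  obtain ⟨D, hDinv, hDhyp, hDsm, -, -, hDmax⟩ :=
    Cfsg.Agent.Lib.Transfer.SmallCritical.exists_small_subgroup hPp (F.autGroup P) (inn_le_autGroup F hPS)
  let Inv : Subgroup P → Prop := fun A => ∀ (s : Ω) (hs : s ∈ S) (hN : s ∈ Subgroup.normalizer (P : Set Ω)), ∀ a ∈ A, normAct P hN a ∈ A
  let 𝒮 : Set (Subgroup P) := {A | A ≤ D ∧ (∀ a ∈ A, ∀ b ∈ A, a * b = b * a) ∧ Inv A}
  have hbot : (⊥ : Subgroup P) ∈ 𝒮 := by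
    refine ⟨bot_le, ?_, ?_⟩
    · intro a ha b hb
      rw [Subgroup.mem_bot] at ha hb
      rw [ha, hb]
    · intro s hs hN a ha
      rw [Subgroup.mem_bot] at ha ⊢
      rw [ha, map_one]
  obtain ⟨A, hA, hAmax⟩ := Set.exists_max_image 𝒮 (fun A => Nat.card A) (Set.toFinite _) ⟨⊥, hbot⟩
  obtain ⟨hAD, hAab, hAinv⟩ := hA
  have hDnorm : ∀ (s : Ω) (hs : s ∈ S) (hN : s ∈ Subgroup.normalizer (P : Set Ω)), ∀ d ∈ D, normAct P hN d ∈ D := by
    intro s hs hN d hd
    have h1 := hDinv _ (autInducedBy_le_autGroup F hPS (normAct_mem_autInducedBy S P hN hs))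
    rw [← h1]
    exact ⟨d, hd, rfl⟩
  have hAmaxab : ∀ B : Subgroup P, A ≤ B → B ≤ D → IsMulCommutative ↥B → B = A := by
    intro B hAB hBD hBab
    by_contra hne
    have hBc : ∀ a ∈ B, ∀ b ∈ B, a * b = b * a := fun a ha b hb =>
      congrArg Subtype.val (hBab.is_comm.comm ⟨a, ha⟩ ⟨b, hb⟩)
    let N := normalizerIn S P
    have hNp : IsPGroup p N := hS.to_le inf_le_left
    have hfinN : Finite N := finite_of_le inf_le_left
    have hPN : P ≤ N := le_normalizerIn hPS
    let ι : P →* N := Subgroup.inclusion hPN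
    have hact : ∀ (n : N) (a : P), n * ι a * n⁻¹ = ι (normAct P n.2.2 a) := by
      intro n a
      apply Subtype.ext
      exact (normAct_apply P n.2.2 a).symm
    let C : Subgroup P := D ⊓ Subgroup.centralizer (A : Set P)
    have hAC : A ≤ C := fun a ha => ⟨hAD ha, Subgroup.mem_centralizer_iff.2 fun b hb => hAab b hb a ha⟩
    have hBC : B ≤ C := fun b hb => ⟨hBD hb, Subgroup.mem_centralizer_iff.2 fun a ha => hBc a (hAB ha) b hb⟩
    let AN : Subgroup N := A.map ι
    let CN : Subgroup N := C.map ι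
    have hANn : AN.Normal := ⟨by
      rintro _ ⟨a, ha, rfl⟩ n
      rw [hact]
      exact ⟨_, hAinv n n.2.1 n.2.2 a ha, rfl⟩⟩
    have hCNn : CN.Normal := ⟨by
      rintro _ ⟨c, hc, rfl⟩ n
      rw [hact]
      refine ⟨_, ⟨hDnorm n n.2.1 n.2.2 c hc.1, Subgroup.mem_centralizer_iff.2 fun a ha => ?_⟩, rfl⟩
      have ha' := hAinv _ (S.inv_mem n.2.1) (Subgroup.inv_mem _ n.2.2) a ha
      have h1 := Subgroup.mem_centralizer_iff.1 hc.2 _ ha'
      have h2 := congrArg (normAct P n.2.2) h1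
      rw [map_mul, map_mul] at h2
      have e : normAct P n.2.2 (normAct P (Subgroup.inv_mem _ n.2.2) a) = a := by
        apply Subtype.ext
        rw [normAct_apply, normAct_apply]
        group
      rw [e] at h2
      exact h2⟩
    have hQp : IsPGroup p (N ⧸ AN) := hNp.to_quotient AN
    have hQn : Group.IsNilpotent (N ⧸ AN) := hQp.isNilpotent
    let π := QuotientGroup.mk' AN
    let Cq : Subgroup (N ⧸ AN) := CN.map π
    have hCqn : Cq.Normal := hCNn.map π (QuotientGroup.mk'_surjective AN)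
    have hCqne : Cq ≠ ⊥ := by
      intro h
      apply hne
      refine le_antisymm ?_ hAB
      intro b hb
      have h1 : π (ι b) ∈ Cq := ⟨ι b, ⟨b, hBC hb, rfl⟩, rfl⟩
      rw [h, Subgroup.mem_bot] at h1
      have h2 := (QuotientGroup.eq_one_iff _).1 h1
      obtain ⟨a, ha, hab⟩ := h2
      have : a = b := Subgroup.inclusion_injective hPN hab
      rwa [← this]
    haveI := hCqn
    have hne2 := Cfsg.Agent.Lib.SolvStruct.Fit.inf_center_ne_bot Cq hCqne
    obtain ⟨⟨q, hqC, hqZ⟩, hq1⟩ := (Subgroup.ne_bot_iff_exists_ne_one.1 hne2)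
    obtain ⟨_, ⟨x, hxC, rfl⟩, rfl⟩ := hqC
    have hq1' : π (ι x) ≠ 1 := fun h => hq1 (Subtype.ext h)
    have hxA : x ∉ A := by
      intro h
      apply hq1'
      exact (QuotientGroup.eq_one_iff _).2 ⟨x, h, rfl⟩
    have hcomm : ∀ n : N, n * ι x * n⁻¹ * (ι x)⁻¹ ∈ AN := by
      intro n
      have h1 := Subgroup.mem_center_iff.1 hqZ (π n)
      apply (QuotientGroup.eq_one_iff _).1
      show π (n * ι x * n⁻¹ * (ι x)⁻¹) = 1
      rw [map_mul, map_mul, map_mul, map_inv, map_inv, h1]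
      group
    have hxcomm : ∀ a ∈ A, a * x = x * a := fun a ha => Subgroup.mem_centralizer_iff.1 hxC.2 a ha
    let B₂ : Subgroup P := A ⊔ Subgroup.zpowers x
    have hB₂c : ∀ a ∈ B₂, ∀ b ∈ B₂, a * b = b * a := by
      have h1 : ∀ a ∈ A, ∀ b ∈ B₂, a * b = b * a := by
        intro a ha b hb
        have : B₂ ≤ Subgroup.centralizer ({a} : Set P) := by
          refine sup_le (fun c hc => ?_) ?_
          · refine Subgroup.mem_centralizer_iff.2 fun h hh => ?_
            rw [Set.mem_singleton_iff.1 hh]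
            exact hAab a ha c hc
          · rw [Subgroup.zpowers_le]
            refine Subgroup.mem_centralizer_iff.2 fun h hh => ?_
            rw [Set.mem_singleton_iff.1 hh]
            exact hxcomm a ha
        exact (Subgroup.mem_centralizer_iff.1 (this hb) a rfl)
      have h2 : ∀ b ∈ B₂, x * b = b * x := by
        intro b hb
        have : B₂ ≤ Subgroup.centralizer ({x} : Set P) := by
          refine sup_le (fun c hc => ?_) ?_
          · refine Subgroup.mem_centralizer_iff.2 fun h hh => ?_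
            rw [Set.mem_singleton_iff.1 hh]
            exact (hxcomm c hc).symm
          · rw [Subgroup.zpowers_le]
            refine Subgroup.mem_centralizer_iff.2 fun h hh => ?_
            rw [Set.mem_singleton_iff.1 hh]
        exact (Subgroup.mem_centralizer_iff.1 (this hb) x rfl)
      intro a ha b hb
      have : B₂ ≤ Subgroup.centralizer ({b} : Set P) := by
        refine sup_le (fun c hc => ?_) ?_
        · refine Subgroup.mem_centralizer_iff.2 fun h hh => ?_
          rw [Set.mem_singleton_iff.1 hh]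
          exact (h1 c hc b hb).symm
        · rw [Subgroup.zpowers_le]
          refine Subgroup.mem_centralizer_iff.2 fun h hh => ?_
          rw [Set.mem_singleton_iff.1 hh]
          exact (h2 b hb).symm
      exact (Subgroup.mem_centralizer_iff.1 (this ha) b rfl).symm
    have hB₂𝒮 : B₂ ∈ 𝒮 := by
      refine ⟨sup_le hAD ((Subgroup.zpowers_le).2 hxC.1), hB₂c, ?_⟩
      intro s hs hN a ha
      have hle : B₂ ≤ B₂.comap (normAct P hN).toMonoidHom := by
        refine sup_le (fun c hc => ?_) ?_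
        · exact Subgroup.mem_sup_left (hAinv s hs hN c hc)
        · rw [Subgroup.zpowers_le]
          show normAct P hN x ∈ B₂
          have h1 := hcomm ⟨s, hs, hN⟩
          obtain ⟨a₁, ha₁, he⟩ := h1
          have h2 : normAct P hN x = a₁ * x := by
            have h3 := hact ⟨s, hs, hN⟩ x
            have h4 : ι (normAct P hN x) = ι (a₁ * x) := by
              rw [map_mul, he]
              rw [← h3]
              group
            exact Subgroup.inclusion_injective hPN h4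
          rw [h2]
          exact B₂.mul_mem (Subgroup.mem_sup_left ha₁) (Subgroup.mem_sup_right (Subgroup.mem_zpowers x))
      exact hle ha
    have hlt : A < B₂ := by
      refine lt_of_le_of_ne le_sup_left ?_
      intro h
      apply hxA
      rw [h]
      exact Subgroup.mem_sup_right (Subgroup.mem_zpowers x)
    have h3 := hAmax B₂ hB₂𝒮
    have h4 := Cfsg.Agent.Lib.Fusion.LocalGlobal.card_lt_of_lt hlt
    exact absurd h3 (not_le_of_gt h4)
  have hAcomm : IsMulCommutative ↥A := ⟨⟨fun a b => Subtype.ext (hAab a a.2 b b.2)⟩⟩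
  obtain ⟨-, hfix⟩ := hDmax A hAD hAcomm hAmaxab
  refine ⟨A.map P.subtype, Subgroup.map_subtype_le A, ?_, ⟨?_, ?_⟩, ?_, ?_⟩
  · have h1 : Subgroup.closure {y : P | ∃ α ∈ Cfsg.pResidual p ↥(F.autGroup P), ∃ x : P, y = x⁻¹ * (α : MulAut P) x} ≤
        (F.hyperfocalSubgroup p).comap P.subtype := by
      refine (Subgroup.closure_le _).2 ?_
      rintro _ ⟨α, hα, x, rfl⟩
      exact mem_hyp F hPS hα x
    rintro _ ⟨a, ha, rfl⟩
    exact h1 (hDhyp (hAD ha))
  · rintro _ ⟨a, ha, rfl⟩ _ ⟨b, hb, rfl⟩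
    exact congrArg Subtype.val (hAab a ha b hb)
  · rintro _ ⟨a, ha, rfl⟩
    have h1 := hDsm a (hAD ha)
    have h2 : a ^ smallExp p = 1 := by
      unfold smallExp
      by_cases hp2 : p = 2
      · rw [if_pos hp2]
        rcases h1 with h1 | ⟨-, h1⟩
        · rw [hp2] at h1
          have e : a ^ 4 = (a ^ 2) ^ 2 := by group
          rw [e, h1, one_pow]
        · exact h1
      · rw [if_neg hp2]
        rcases h1 with h1 | ⟨h3, -⟩
        · exact h1
        · exact absurd h3 hp2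
    have h3 := congrArg Subtype.val h2
    simpa using h3
  · rintro s hs _ ⟨a, ha, rfl⟩
    have h1 := hAinv s hs.1 hs.2 a ha
    refine ⟨_, h1, ?_⟩
    exact normAct_apply P hs.2 a
  · intro β hβ h
    exact hfix β hβ (fun a ha => h a ⟨a, ha, rfl⟩)

end choice

section fix

variable {S : Subgroup Ω} (F : FusionSystem S) {p : ℕ} [hp : Fact p.Prime] [Finite S]

/-- The pointwise stabilizer of `A` in `Aut(P)`. -/
def fixSub (P A : Subgroup Ω) : Subgroup (MulAut P) where
  carrier := {β | ∀ x : P, (x : Ω) ∈ A → β x = x}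
  mul_mem' := fun {a b} ha hb x hx => by
    rw [MulAut.mul_apply, hb x hx, ha x hx]
  one_mem' := fun x _ => rfl
  inv_mem' := fun {a} ha x hx => by
    have h := ha x hx
    calc a⁻¹ x = a⁻¹ (a x) := by rw [h]
      _ = x := by simp

theorem fix_mem_inducedBy (hS : IsPGroup p S) {P A : Subgroup Ω} (hPS : P ≤ S) (hAut : F.IsFullyAutomized p P)
    (hAinv : ∀ s ∈ normalizerIn S P, ∀ a ∈ A, s * a * s⁻¹ ∈ A)
    (hfix : ∀ β ∈ F.autGroup P, (∀ x : P, (x : Ω) ∈ A → β x = x) → ∃ k : ℕ, orderOf β = p ^ k)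
    {β : MulAut P} (hβ : β ∈ F.autGroup P) (hβA : ∀ x : P, (x : Ω) ∈ A → β x = x) : β ∈ autInducedBy S P := by
  classical
  obtain ⟨-, R, hR⟩ := hAut
  have hfinP : Finite P := finite_of_le hPS
  have hfinA : Finite (MulAut P) := finite_mulAut_of_finite (A := P)
  let C' : Subgroup (F.autGroup P) := (fixSub P A).subgroupOf (F.autGroup P)
  have hC'p : IsPGroup p C' := by
    rintro ⟨⟨g, hg⟩, hgC⟩
    obtain ⟨k, hk⟩ := hfix g hg hgC
    refine ⟨k, ?_⟩
    apply Subtype.ext
    apply Subtype.ext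
    show g ^ p ^ k = 1
    rw [← hk]
    exact pow_orderOf_eq_one g
  have hRn : (R : Subgroup (F.autGroup P)) ≤ Subgroup.normalizer (C' : Set (F.autGroup P)) := by
    intro τ hτ
    apply Cfsg.Agent.Lib.FusionExt.NormalSubgroup.mem_normalizer_of_conj_le
    intro c hc
    have hτT : (τ : MulAut P) ∈ autInducedBy S P := by
      rw [hR] at hτ
      exact hτ
    obtain ⟨g, hg, hgc⟩ := (mem_autInducedBy_iff S P _).1 hτT
    have hgN := mem_normalizer_of_conj P _ g hgc
    refine Subgroup.mem_subgroupOf.2 ?_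
    intro x hx
    have hinv : (((τ : MulAut P)⁻¹ x : P) : Ω) = g⁻¹ * x * g := by
      have h1 := hgc ((τ : MulAut P)⁻¹ x)
      rw [MulAut.apply_inv_self] at h1
      rw [h1]
      group
    have hA2 : (((τ : MulAut P)⁻¹ x : P) : Ω) ∈ A := by
      rw [hinv]
      have h2 := hAinv g⁻¹ ⟨S.inv_mem hg, Subgroup.inv_mem _ hgN⟩ _ hx
      rwa [inv_inv] at h2
    have h3 : ((c : F.autGroup P) : MulAut P) ((τ : MulAut P)⁻¹ x) = (τ : MulAut P)⁻¹ x := hc _ hA2
    show ((τ : MulAut P) * ((c : F.autGroup P) : MulAut P) * (τ : MulAut P)⁻¹) x = x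
    rw [MulAut.mul_apply, MulAut.mul_apply, h3, MulAut.apply_inv_self]
  have hsup := IsPGroup.to_sup_of_normal_left' hC'p R.isPGroup' hRn
  have hmax := R.is_maximal' hsup le_sup_right
  have hmem : (⟨β, hβ⟩ : F.autGroup P) ∈ (R : Subgroup (F.autGroup P)) := by
    rw [← hmax]
    exact Subgroup.mem_sup_left hβA
  rw [hR] at hmem
  exact hmem

end fix

section cent

variable {S : Subgroup Ω} {p : ℕ}

theorem small_sup {A B : Subgroup Ω} (hA : Small p A) (hB : Small p B) (hc : ∀ a ∈ A, ∀ b ∈ B, a * b = b * a) :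
    Small p (A ⊔ B) := by
  have h1 : ∀ a ∈ A, ∀ y ∈ A ⊔ B, a * y = y * a := by
    intro a ha y hy
    have : A ⊔ B ≤ Subgroup.centralizer ({a} : Set Ω) := by
      refine sup_le (fun c hc' => ?_) (fun c hc' => ?_)
      · refine Subgroup.mem_centralizer_iff.2 fun h hh => ?_
        rw [Set.mem_singleton_iff.1 hh]
        exact hA.comm a ha c hc'
      · refine Subgroup.mem_centralizer_iff.2 fun h hh => ?_
        rw [Set.mem_singleton_iff.1 hh]
        exact hc a ha c hc'
    exact Subgroup.mem_centralizer_iff.1 (this hy) a rfl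
  have h2 : ∀ b ∈ B, ∀ y ∈ A ⊔ B, b * y = y * b := by
    intro b hb y hy
    have : A ⊔ B ≤ Subgroup.centralizer ({b} : Set Ω) := by
      refine sup_le (fun c hc' => ?_) (fun c hc' => ?_)
      · refine Subgroup.mem_centralizer_iff.2 fun h hh => ?_
        rw [Set.mem_singleton_iff.1 hh]
        exact (hc c hc' b hb).symm
      · refine Subgroup.mem_centralizer_iff.2 fun h hh => ?_
        rw [Set.mem_singleton_iff.1 hh]
        exact hB.comm b hb c hc'
    exact Subgroup.mem_centralizer_iff.1 (this hy) b rfl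
  have h3 : ∀ x ∈ A ⊔ B, ∀ y ∈ A ⊔ B, x * y = y * x := by
    intro x hx y hy
    have : A ⊔ B ≤ Subgroup.centralizer ({y} : Set Ω) := by
      refine sup_le (fun c hc' => ?_) (fun c hc' => ?_)
      · refine Subgroup.mem_centralizer_iff.2 fun h hh => ?_
        rw [Set.mem_singleton_iff.1 hh]
        exact (h1 c hc' y hy).symm
      · refine Subgroup.mem_centralizer_iff.2 fun h hh => ?_
        rw [Set.mem_singleton_iff.1 hh]
        exact (h2 c hc' y hy).symm
    exact (Subgroup.mem_centralizer_iff.1 (this hx) y rfl).symm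
  refine ⟨h3, ?_⟩
  let K : Subgroup Ω :=
    { carrier := {x | x ∈ A ⊔ B ∧ x ^ smallExp p = 1}
      mul_mem' := fun {a b} ha hb => ⟨Subgroup.mul_mem _ ha.1 hb.1, by
        rw [(show Commute a b from h3 a ha.1 b hb.1).mul_pow, ha.2, hb.2, one_mul]⟩
      one_mem' := ⟨Subgroup.one_mem _, one_pow _⟩
      inv_mem' := fun {a} ha => ⟨Subgroup.inv_mem _ ha.1, by rw [inv_pow, ha.2, inv_one]⟩ }
  have hK : A ⊔ B ≤ K := sup_le (fun a ha => ⟨Subgroup.mem_sup_left ha, hA.exp a ha⟩)
    (fun b hb => ⟨Subgroup.mem_sup_right hb, hB.exp b hb⟩)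
  exact fun a ha => (hK ha).2

theorem small_range {A : Subgroup Ω} (hA : Small p A) (φ : A →* Ω) : Small p φ.range := by
  refine ⟨?_, ?_⟩
  · rintro _ ⟨a, rfl⟩ _ ⟨b, rfl⟩
    rw [← map_mul, ← map_mul]
    congr 1
    exact Subtype.ext (hA.comm a a.2 b b.2)
  · rintro _ ⟨a, rfl⟩
    rw [← map_pow]
    have : a ^ smallExp p = 1 := Subtype.ext (hA.exp a a.2)
    rw [this, map_one]

variable {E F : FusionSystem S} [hp : Fact p.Prime] [Finite S]

/-- Agreement passes to centralizer systems. -/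
theorem agree_cent (hEF : E.IsSubsystemOf F) (hag : Agree p E F) {Z : Subgroup Ω} (hZh : Z ≤ F.hyperfocalSubgroup p)
    (hZs : Small p Z) (C₀ : FusionSystem (centralizerIn S Z)) (hC₀ : F.IsCentralizerSystem Z C₀)
    (C₁ : FusionSystem (centralizerIn S Z)) (hC₁ : E.IsCentralizerSystem Z C₁) : Agree p C₁ C₀ := by
  intro A₁ B₁ hA hB hAs hBs
  have hsub : ∀ V, E.centralizerHom Z V ⊆ F.centralizerHom Z V := by
    rintro V φ ⟨h1, h2, h3, ψ, hψ, h4, h5⟩
    exact ⟨hEF V h1, h2, h3, ψ, hEF _ hψ, h4, h5⟩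
  have hC₀F : C₀.IsSubsystemOf F := fun V φ hφ => by
    rw [hC₀ V] at hφ
    exact hφ.1
  have hmono : C₀.hyperfocalSubgroup p ≤ F.hyperfocalSubgroup p := hyp_mono inf_le_left hC₀F
  have hle : C₀.hyperfocalSubgroup p ≤ centralizerIn S Z := hyp_le C₀
  ext φ
  constructor
  · rintro ⟨h1, h2⟩
    refine ⟨?_, h2⟩
    rw [hC₁ A₁] at h1
    rw [hC₀ A₁]
    exact hsub _ h1
  · rintro ⟨h1, h2⟩
    refine ⟨?_, h2⟩
    rw [hC₀ A₁] at h1
    rw [hC₁ A₁]
    obtain ⟨hφF, hA₁C, hval, ψ, hψ, hψ1, hψ2⟩ := h1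
    have hcommA : ∀ a ∈ A₁, ∀ z ∈ Z, a * z = z * a := fun a ha z hz =>
      (Subgroup.mem_centralizer_iff.1 (hle (hA ha)).2 z hz).symm
    have hcommB : ∀ a ∈ B₁, ∀ z ∈ Z, a * z = z * a := fun a ha z hz =>
      (Subgroup.mem_centralizer_iff.1 (hle (hB ha)).2 z hz).symm
    have hs₁ := small_sup hAs hZs hcommA
    have hs₂ := small_sup hBs hZs hcommB
    have hh₁ : A₁ ⊔ Z ≤ F.hyperfocalSubgroup p := sup_le (hA.trans hmono) hZh
    have hh₂ : B₁ ⊔ Z ≤ F.hyperfocalSubgroup p := sup_le (hB.trans hmono) hZh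
    have hval' : ∀ x : ↥(A₁ ⊔ Z), ψ x ∈ B₁ ⊔ Z := by
      rintro ⟨x, hx⟩
      have key : A₁ ⊔ Z ≤ ((B₁ ⊔ Z).comap ψ).map (A₁ ⊔ Z).subtype := by
        refine sup_le (fun a ha => ?_) (fun z hz => ?_)
        · refine ⟨⟨a, Subgroup.mem_sup_left ha⟩, ?_, rfl⟩
          show ψ _ ∈ B₁ ⊔ Z
          have h3 := hψ1 ⟨a, ha⟩
          have h4 : ψ (Subgroup.inclusion le_sup_left ⟨a, ha⟩) = ψ ⟨a, Subgroup.mem_sup_left ha⟩ := rfl
          rw [← h4, h3]
          exact Subgroup.mem_sup_left (h2 ⟨a, ha⟩)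
        · refine ⟨⟨z, Subgroup.mem_sup_right hz⟩, ?_, rfl⟩
          show ψ _ ∈ B₁ ⊔ Z
          have h3 := hψ2 ⟨z, hz⟩
          have h4 : ψ (Subgroup.inclusion le_sup_right ⟨z, hz⟩) = ψ ⟨z, Subgroup.mem_sup_right hz⟩ := rfl
          rw [← h4, h3]
          exact Subgroup.mem_sup_right hz
      obtain ⟨y, hy, hyx⟩ := key hx
      have : y = ⟨x, hx⟩ := Subtype.ext hyx
      rw [← this]
      exact hy
    have hψE : ψ ∈ E.homSet (A₁ ⊔ Z) (B₁ ⊔ Z) := by
      rw [hag _ _ hh₁ hh₂ hs₁ hs₂]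
      exact ⟨hψ, hval'⟩
    refine ⟨restrict_mem' E le_sup_left hψE.1 φ (fun x => (hψ1 x).symm), hA₁C, hval, ψ, hψE.1, hψ1, hψ2⟩

/-- The step using the inductive hypothesis. -/
theorem cent_step (hS : IsPGroup p S) (hE : E.IsSaturated p) (hF : F.IsSaturated p) (hEF : E.IsSubsystemOf F)
    (hag : Agree p E F) (IH : IHyp p Ω (Mor F).ncard) {Z : Subgroup Ω} (hZh : Z ≤ F.hyperfocalSubgroup p)
    (hZs : Small p Z) (hZn : E.IsFullyNormalized Z) :
    (∀ (Q : Subgroup Ω) (φ : Q →* Ω), φ ∈ F.Hom Q → φ ∈ F.centralizerHom Z Q) ∨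
      (∀ (V : Subgroup Ω) (γ : V →* Ω), γ ∈ F.centralizerHom Z V → γ ∈ E.centralizerHom Z V) := by
  by_cases hall : ∀ (Q : Subgroup Ω) (φ : Q →* Ω), φ ∈ F.Hom Q → φ ∈ F.centralizerHom Z Q
  · exact Or.inl hall
  right
  push Not at hall
  obtain ⟨Q, φ, hφ, hφn⟩ := hall
  have hZS : Z ≤ S := hZn.1
  obtain ⟨C₀, hC₀⟩ := Cfsg.Agent.Lib.Fusion.Thompson.exists_centralizerSystem (F := F) hZS
  obtain ⟨C₁, hC₁⟩ := Cfsg.Agent.Lib.Fusion.Thompson.exists_centralizerSystem (F := E) hZS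
  have hfcE := isFullyCentralized_of_isFullyNormalized E hS hE hZn
  have hfcF : F.IsFullyCentralized Z := by
    refine ⟨hZS, fun R hR => ?_⟩
    obtain ⟨ψ, hψ, hr⟩ := hR
    have hRh : R ≤ F.hyperfocalSubgroup p := by
      rw [← hr]
      rintro _ ⟨x, rfl⟩
      exact (hyp_stronglyClosed F hS hF).2 Z hZh ψ hψ x
    have hRs : Small p R := by
      rw [← hr]
      exact small_range hZs ψ
    have h1 : ψ ∈ E.homSet Z R := by
      rw [hag Z R hZh hRh hZs hRs]
      exact ⟨hψ, fun x => by rw [← hr]; exact ⟨x, rfl⟩⟩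
    exact hfcE.2 R ⟨ψ, h1.1, hr⟩
  have hfin : Finite (centralizerIn S Z) := finite_of_le inf_le_left
  have hsat₀ := isSaturated_centralizerSystem hS F hF hfcF C₀ hC₀
  have hsat₁ := isSaturated_centralizerSystem hS E hE hfcE C₁ hC₁
  have hsub : ∀ V, E.centralizerHom Z V ⊆ F.centralizerHom Z V := by
    rintro V f ⟨h1, h2, h3, ψ, hψ, h4, h5⟩
    exact ⟨hEF V h1, h2, h3, ψ, hEF _ hψ, h4, h5⟩
  have hC : C₁.IsSubsystemOf C₀ := fun V f hf => by
    rw [hC₁ V] at hf
    rw [hC₀ V]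
    exact hsub V hf
  have hlt : (Mor C₀).ncard < (Mor F).ncard := by
    refine Set.ncard_lt_ncard ?_ (finite_mor F)
    refine ⟨?_, ?_⟩
    · rintro ⟨V, f⟩ hf
      have hf' : f ∈ C₀.Hom V := hf
      rw [hC₀ V] at hf'
      exact hf'.1
    · intro h
      have h1 : (⟨Q, φ⟩ : Σ P : Subgroup Ω, (P →* Ω)) ∈ Mor C₀ := h hφ
      have h2 : φ ∈ C₀.Hom Q := h1
      rw [hC₀ Q] at h2
      exact hφn h2
  have hmain := IH (centralizerIn S Z) (hS.to_le inf_le_left) C₁ C₀ hsat₁ hsat₀ hC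
    (agree_cent hEF hag hZh hZs C₀ hC₀ C₁ hC₁) hlt
  intro V γ hγ
  have h1 : γ ∈ C₀.Hom V := by
    rw [hC₀ V]
    exact hγ
  have h2 := hmain V h1
  rw [hC₁ V] at h2
  exact h2

end cent

end Cfsg.Agent.Lib.FusionTheory.SmallControl
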