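import Cfsg.Agent.Lib.FusionTheory.SmallControl

/-!
# Small exponent abelian subgroups control fusion, the automorphism step
-/

set_option autoImplicit false
set_option linter.unusedSectionVars false
set_option linter.unusedVariables false

namespace Cfsg.Agent.Lib.FusionTheory.SmallControl2

open Cfsg Cfsg.FusionSystem Cfsg.Agent.Lib.Fusion.Basic Cfsg.Agent.Lib.Fusion.Saturation
  Cfsg.Agent.Lib.Fusion.Saturation2 Cfsg.Agent.Lib.Fusion.Alperin Cfsg.Agent.Lib.FusionTheory.Normal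
  Cfsg.Agent.Lib.FusionTheory.Transvect Cfsg.Agent.Lib.FusionTheory.Hyperfocal
  Cfsg.Agent.Lib.Fusion.KSystem Cfsg.Agent.Lib.FusionTheory.SmallControl

variable {Ω : Type*} [Group Ω] {S : Subgroup Ω} {p : ℕ}

theorem exists_normal_elt {A : Type*} [Group A] [Finite A] (hA : IsPGroup p A) [Fact p.Prime]
    {R C : Subgroup A} [hC : C.Normal] (h : ¬ C ≤ R) :
    ∃ c ∈ C, c ∉ R ∧ c ∈ Subgroup.normalizer (R : Set A) := by
  have hlt : R < R ⊔ C := lt_of_le_of_ne le_sup_left (fun e => h (by rw [e]; exact le_sup_right))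
  have hne2 : R.subgroupOf (R ⊔ C) ≠ ⊤ := by
    intro e
    apply hlt.not_ge
    intro x hx
    have : (⟨x, hx⟩ : ↥(R ⊔ C)) ∈ R.subgroupOf (R ⊔ C) := by
      rw [e]
      exact Subgroup.mem_top _
    exact this
  have hp2 : IsPGroup p ↥(R ⊔ C) := hA.to_subgroup _
  obtain ⟨g, hg, hgR⟩ := exists_mem_normalizer_not_mem hp2 _ hne2
  have hgR' : (g : A) ∉ R := hgR
  have hgN : (g : A) ∈ Subgroup.normalizer (R : Set A) := by
    rw [Subgroup.mem_normalizer_iff]
    intro x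
    constructor
    · intro hx
      have h4 := (Subgroup.mem_normalizer_iff.1 hg ⟨x, Subgroup.mem_sup_left hx⟩).1 hx
      exact h4
    · intro hx
      have hxs : (g : A) * x * (g : A)⁻¹ ∈ R ⊔ C := Subgroup.mem_sup_left hx
      have hxs' : x ∈ R ⊔ C := by
        have h5 := (R ⊔ C).mul_mem ((R ⊔ C).mul_mem ((R ⊔ C).inv_mem g.2) hxs) g.2
        have e : (g : A)⁻¹ * ((g : A) * x * (g : A)⁻¹) * g = x := by group
        rwa [e] at h5
      have h4 := (Subgroup.mem_normalizer_iff.1 hg ⟨x, hxs'⟩).2 hx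
      exact h4
  have hg2 : (g : A) ∈ ((R ⊔ C : Subgroup A) : Set A) := g.2
  rw [Subgroup.mul_normal] at hg2
  obtain ⟨r, hr, c, hc, hrc'⟩ := Set.mem_mul.1 hg2
  refine ⟨c, hc, ?_, ?_⟩
  · intro hcR
    apply hgR'
    rw [← hrc']
    exact R.mul_mem hr hcR
  · have e : c = r⁻¹ * g := by rw [← hrc']; group
    rw [e]
    exact Subgroup.mul_mem _ (Subgroup.inv_mem _ (Subgroup.le_normalizer hr)) hgN

/-- The image of `A` under `α`. -/
def imgA {P A : Subgroup Ω} (α : MulAut P) (hAP : A ≤ P) : Subgroup Ω :=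
  ((autHom α).comp (Subgroup.inclusion hAP)).range

theorem mem_imgA {P A : Subgroup Ω} (α : MulAut P) (hAP : A ≤ P) (a : A) : (α ⟨a, hAP a.2⟩ : Ω) ∈ imgA α hAP :=
  ⟨a, rfl⟩

section claim

variable {E F : FusionSystem S} [hp : Fact p.Prime] [Finite S]

/-- The second claim. -/
theorem claim2 (hS : IsPGroup p S) (hE : E.IsSaturated p) (hF : F.IsSaturated p) (hEF : E.IsSubsystemOf F)
    (hag : Agree p E F) (IH : IHyp p Ω (Mor F).ncard) {P A : Subgroup Ω} (hPS : P ≤ S) (hAP : A ≤ P)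
    (hAh : A ≤ F.hyperfocalSubgroup p) (hAs : Small p A) {α : MulAut P} (hα : α ∈ F.autGroup P)
    (W W' : Subgroup Ω) (hWdef : W = P ⊓ Subgroup.centralizer (A : Set Ω))
    (hW'def : W' = P ⊓ Subgroup.centralizer (imgA α hAP : Set Ω)) (hWP : W ≤ P) :
    (∀ x : P, (x : Ω) ∈ A → α x = x) ∨ ((autHom α).comp (Subgroup.inclusion hWP) ∈ E.Hom W) := by
  classical
  have hAS : A ≤ S := hAP.trans hPS
  have hαP := autHom_mem F hPS hα
  -- the map on `A`
  let αA : A →* Ω := (autHom α).comp (Subgroup.inclusion hAP)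
  have hαA : αA ∈ F.Hom A := restrict_mem F hAP hαP
  have hA'r : αA.range = imgA α hAP := rfl
  have hA'S : imgA α hAP ≤ S := range_le F hαA
  have hA'h : imgA α hAP ≤ F.hyperfocalSubgroup p := by
    rintro _ ⟨x, rfl⟩
    exact (hyp_stronglyClosed F hS hF).2 A hAh αA hαA x
  have hA's : Small p (imgA α hAP) := small_range hAs αA
  have hαAE : αA ∈ E.Hom A := by
    have h1 : αA ∈ E.homSet A (imgA α hAP) := by
      rw [hag A _ hAh hA'h hAs hA's]
      exact ⟨hαA, fun x => ⟨x, rfl⟩⟩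
    exact h1.1
  -- the fully normalized conjugate
  obtain ⟨Z, hZc, hZn⟩ := exists_isFullyNormalized E hA'S
  obtain ⟨e₁, he₁⟩ := (isConj_iff E).1 hZc
  have hZS : Z ≤ S := hZn.1
  have hZh : Z ≤ F.hyperfocalSubgroup p := by
    intro z hz
    have h1 := (hyp_stronglyClosed F hS hF).2 _ hA'h (isoHom e₁) (hEF _ he₁) (e₁.symm ⟨z, hz⟩)
    have h2 : isoHom e₁ (e₁.symm ⟨z, hz⟩) = z := by
      rw [isoHom_apply, MulEquiv.apply_symm_apply]
    rwa [h2] at h1
  have hZs : Small p Z := by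
    have h1 := small_range hA's (isoHom e₁)
    rwa [isoHom_range] at h1
  have hαAinj := E.injective_of_mem hαAE
  let e₀ : A ≃* imgA α hAP := isoOf αA hαAinj rfl
  let e₂ : A ≃* Z := e₀.trans e₁
  have he₀ : isoHom e₀ ∈ E.Hom A := isoHom_isoOf_mem E hαAE rfl
  have he₂ : isoHom e₂ ∈ E.Hom A := isoHom_trans_mem E he₀ he₁
  rcases cent_step hS hE hF hEF hag IH hZh hZs hZn with hall | hsub
  · -- every morphism of `F` centralizes `Z`
    left
    have hid : ∀ {Q : Subgroup Ω} (e : Q ≃* Z), isoHom e ∈ F.Hom Q → ∀ z : Z, ((e.symm z : Q) : Ω) = z := by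
      intro Q e he z
      have h1 := hall Z _ (isoHom_symm_mem F he)
      obtain ⟨-, -, -, ψ, hψ, h2, h3⟩ := h1
      have h4 := h2 z
      have h5 := h3 z
      show isoHom e.symm z = z
      rw [← h4]
      exact h5
    intro x hx
    apply Subtype.ext
    let a : A := ⟨x, hx⟩
    have h1 := hid e₂ (hEF _ he₂) (e₂ a)
    have h2 := hid e₁ (hEF _ he₁) (e₂ a)
    rw [MulEquiv.symm_apply_apply] at h1
    have h3 : e₁.symm (e₂ a) = e₀ a := by
      show e₁.symm (e₁ (e₀ a)) = e₀ a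
      rw [MulEquiv.symm_apply_apply]
    rw [h3] at h2
    have h4 : ((e₀ a : imgA α hAP) : Ω) = α x := rfl
    rw [h4] at h2
    rw [h2, ← h1]
  · right
    have hrec := isReceptive_of_isFullyNormalized E hS hE hZn
    have hAW : A ≤ W := by
      rw [hWdef]
      exact le_inf hAP (fun a ha => Subgroup.mem_centralizer_iff.2 fun b hb => hAs.comm b hb a ha)
    have hA'W' : imgA α hAP ≤ W' := by
      rw [hW'def]
      refine le_inf ?_ (fun a ha => Subgroup.mem_centralizer_iff.2 fun b hb => hA's.comm b hb a ha)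
      rintro _ ⟨x, rfl⟩
      exact (α _).2
    have hWS : W ≤ S := hWP.trans hPS
    have hW'P : W' ≤ P := by
      rw [hW'def]
      exact inf_le_left
    have hW'S : W' ≤ S := hW'P.trans hPS
    have hWcent : W ≤ centralizerIn S A := by
      rw [hWdef]
      exact le_inf (inf_le_left.trans hPS) inf_le_right
    have hW'cent : W' ≤ centralizerIn S (imgA α hAP) := by
      rw [hW'def]
      exact le_inf (inf_le_left.trans hPS) inf_le_right
    obtain ⟨ρ₂, hρ₂, hρ₂e⟩ := IsReceptive.exists_extension E hrec he₂ (isoHom_range e₂)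
      (hWcent.trans (centralizerIn_le_extender _)) hAW
    obtain ⟨ρ₁, hρ₁, hρ₁e⟩ := IsReceptive.exists_extension E hrec he₁ (isoHom_range e₁)
      (hW'cent.trans (centralizerIn_le_extender _)) hA'W'
    -- the values of `α` on `W`
    have hαW : ∀ w : W, (α ⟨w, hWP w.2⟩ : Ω) ∈ W' := by
      intro w
      rw [hW'def]
      refine ⟨(α _).2, Subgroup.mem_centralizer_iff.2 ?_⟩
      rintro _ ⟨a, rfl⟩
      have hc : (a : Ω) * w = w * a := by
        have hw := hWdef.le w.2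
        exact Subgroup.mem_centralizer_iff.1 hw.2 a a.2
      have h1 : (⟨a, hAP a.2⟩ : P) * ⟨w, hWP w.2⟩ = ⟨w, hWP w.2⟩ * ⟨a, hAP a.2⟩ := Subtype.ext hc
      have h2 := congrArg (fun t : P => (t : Ω)) (congrArg α h1)
      simp only [map_mul, Subgroup.coe_mul] at h2
      exact h2
    let αW : W →* Ω := (autHom α).comp (Subgroup.inclusion hWP)
    have hαWm : αW ∈ F.Hom W := restrict_mem F hWP hαP
    let θ : W →* Ω := ρ₁.comp (αW.codRestrict W' hαW)
    have hθ : θ ∈ F.Hom W := comp_mem' F hαWm (hEF _ hρ₁) hαW θ (fun _ => rfl)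
    have hρ₂inj := E.injective_of_mem hρ₂
    let e₃ : W ≃* ρ₂.range := isoOf ρ₂ hρ₂inj rfl
    have he₃ : isoHom e₃ ∈ E.Hom W := isoHom_isoOf_mem E hρ₂ rfl
    -- `Z ≤ ρ₂(W)`
    have hZV : Z ≤ ρ₂.range := by
      intro z hz
      refine ⟨⟨_, hAW (e₂.symm ⟨z, hz⟩).2⟩, ?_⟩
      have h1 := hρ₂e (e₂.symm ⟨z, hz⟩)
      rw [h1, isoHom_apply, MulEquiv.apply_symm_apply]
    let γ : ρ₂.range →* Ω := θ.comp e₃.symm.toMonoidHom
    have hγ : γ ∈ F.Hom ρ₂.range :=
      comp_mem' F (isoHom_symm_mem F (hEF _ he₃)) hθ (fun x => (e₃.symm x).2) γ (fun _ => rfl)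
    have hcentV : ρ₂.range ≤ centralizerIn S Z := by
      rintro _ ⟨w, rfl⟩
      refine ⟨val_mem E hρ₂ w, ?_⟩
      refine extension_mem_centralizer (isoHom_range e₂) hAW hρ₂e w ?_
      have hw := hWdef.le w.2
      exact hw.2
    have hγZ : ∀ z : Z, γ ⟨z, hZV z.2⟩ = z := by
      intro z
      let a : A := e₂.symm z
      have h1 : e₃.symm ⟨z, hZV z.2⟩ = ⟨a, hAW a.2⟩ := by
        rw [MulEquiv.symm_apply_eq]
        apply Subtype.ext
        show (z : Ω) = ρ₂ ⟨a, hAW a.2⟩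
        rw [hρ₂e a, isoHom_apply, MulEquiv.apply_symm_apply]
      show θ (e₃.symm ⟨z, hZV z.2⟩) = z
      rw [h1]
      show ρ₁ ⟨α ⟨a, hAP a.2⟩, hαW ⟨a, hAW a.2⟩⟩ = z
      have h2 := hρ₁e (e₀ a)
      have h3 : (⟨α ⟨a, hAP a.2⟩, hαW ⟨a, hAW a.2⟩⟩ : W') = ⟨e₀ a, hA'W' (e₀ a).2⟩ := rfl
      rw [h3, h2, isoHom_apply]
      show ((e₂ (e₂.symm z) : Z) : Ω) = z
      rw [MulEquiv.apply_symm_apply]
    have hγc : γ ∈ F.centralizerHom Z ρ₂.range := by
      have hle : ρ₂.range ⊔ Z ≤ ρ₂.range := sup_le le_rfl hZV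
      refine ⟨hγ, hcentV, ?_, γ.comp (Subgroup.inclusion hle), restrict_mem F hle hγ, fun x => rfl, fun x => hγZ x⟩
      intro x
      refine ⟨val_mem F hγ x, ?_⟩
      show ρ₁ _ ∈ _
      refine extension_mem_centralizer (isoHom_range e₁) hA'W' hρ₁e _ ?_
      have hw := hW'def.le (αW.codRestrict W' hαW (e₃.symm x)).2
      exact hw.2
    have hγE : γ ∈ E.Hom ρ₂.range := (hsub _ γ hγc).1
    have hθE : θ ∈ E.Hom W := by
      refine comp_mem' E he₃ hγE (fun x => (e₃ x).2) θ (fun x => ?_)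
      show θ x = θ (e₃.symm (e₃ x))
      rw [MulEquiv.symm_apply_apply]
    have hρ₁inj := E.injective_of_mem hρ₁
    let e₄ : W' ≃* ρ₁.range := isoOf ρ₁ hρ₁inj rfl
    have he₄ : isoHom e₄ ∈ E.Hom W' := isoHom_isoOf_mem E hρ₁ rfl
    refine comp_mem' E hθE (isoHom_symm_mem E he₄) (fun x => ⟨_, rfl⟩) _ (fun x => ?_)
    have h1 : (⟨θ x, ⟨_, rfl⟩⟩ : ρ₁.range) = e₄ ⟨α ⟨x, hWP x.2⟩, hαW x⟩ := rfl
    rw [h1, isoHom_apply, MulEquiv.symm_apply_apply]
    rfl

/-- The key statement on automorphism groups. -/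
theorem key (hS : IsPGroup p S) (hE : E.IsSaturated p) (hF : F.IsSaturated p) (hEF : E.IsSubsystemOf F)
    (hag : Agree p E F) (IH : IHyp p Ω (Mor F).ncard) {P : Subgroup Ω} (hP : P = S ∨ F.IsEssential p P)
    (hbig : ∀ R : Subgroup Ω, Nat.card P < Nat.card R → ∀ φ : R →* Ω, φ ∈ F.Hom R → φ ∈ E.Hom R)
    {α : MulAut P} (hα : α ∈ F.autGroup P) : α ∈ E.autGroup P := by
  classical
  have hfn : F.IsFullyNormalized P := by
    rcases hP with h | h
    · rw [h]
      exact isFullyNormalized_top F hS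
    · exact h.2.1
  have hPS : P ≤ S := hfn.1
  have hfnE : E.IsFullyNormalized P := ⟨hPS, fun R hR => hfn.2 R (by
    obtain ⟨φ, hφ, hr⟩ := hR
    exact ⟨φ, hEF _ hφ, hr⟩)⟩
  have hAutF := isFullyAutomized_of_isFullyNormalized F hS hF hfn
  have hAutE := isFullyAutomized_of_isFullyNormalized E hS hE hfnE
  obtain ⟨A, hAP, hAh, hAs, hAinv, hAfix⟩ := exists_small_abelian F hS hPS
  have hfinP : Finite P := finite_of_le hPS
  have hfixT : ∀ β ∈ F.autGroup P, (∀ x : P, (x : Ω) ∈ A → β x = x) → β ∈ autInducedBy S P :=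
    fun β hβ h => fix_mem_inducedBy F hS hPS hAutF hAinv hAfix hβ h
  have hTY : autInducedBy S P ≤ E.autGroup P := autInducedBy_le_autGroup E hPS
  have hYF : E.autGroup P ≤ F.autGroup P := autGroup_mono hEF P
  let W : Subgroup Ω := P ⊓ Subgroup.centralizer (A : Set Ω)
  let W' : Subgroup Ω := P ⊓ Subgroup.centralizer (imgA α hAP : Set Ω)
  have hWP : W ≤ P := inf_le_left
  have hW'P : W' ≤ P := inf_le_left
  have hW'S : W' ≤ S := hW'P.trans hPS
  have hAabW : A ≤ W := le_inf hAP (fun a ha => Subgroup.mem_centralizer_iff.2 fun b hb => hAs.comm b hb a ha)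
  have hA's : Small p (imgA α hAP) := small_range hAs _
  have hA'W' : imgA α hAP ≤ W' := by
    refine le_inf ?_ (fun a ha => Subgroup.mem_centralizer_iff.2 fun b hb => hA's.comm b hb a ha)
    rintro _ ⟨x, rfl⟩
    exact (α _).2
  -- `P` acts
  have hPA : ∀ u ∈ P, ∀ a ∈ A, u * a * u⁻¹ ∈ A := fun u hu a ha =>
    hAinv u ⟨hPS hu, Subgroup.le_normalizer hu⟩ a ha
  have hPA' : ∀ u ∈ P, ∀ b ∈ imgA α hAP, u * b * u⁻¹ ∈ imgA α hAP := by
    rintro u hu _ ⟨a, rfl⟩
    let v : P := α.symm ⟨u, hu⟩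
    have hv : (⟨u, hu⟩ : P) = α v := (α.apply_symm_apply _).symm
    have ha := hPA v v.2 a a.2
    refine ⟨⟨_, ha⟩, ?_⟩
    have h1 : (⟨(v : Ω) * a * (v : Ω)⁻¹, hAP ha⟩ : P) = v * ⟨a, hAP a.2⟩ * v⁻¹ := rfl
    show ((α ⟨(v : Ω) * a * (v : Ω)⁻¹, hAP ha⟩ : P) : Ω) = u * ((α ⟨a, hAP a.2⟩ : P) : Ω) * u⁻¹
    rw [h1, map_mul, map_mul, map_inv, ← hv]
    rfl
  have hPW : ∀ u ∈ P, ∀ x ∈ W, u * x * u⁻¹ ∈ W := by
    intro u hu x hx
    refine ⟨P.mul_mem (P.mul_mem hu hx.1) (P.inv_mem hu), Subgroup.mem_centralizer_iff.2 fun a ha => ?_⟩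
    have h1 := hPA u⁻¹ (P.inv_mem hu) a ha
    rw [inv_inv] at h1
    have h2 := Subgroup.mem_centralizer_iff.1 hx.2 _ h1
    calc a * (u * x * u⁻¹) = u * (u⁻¹ * a * u * x) * u⁻¹ := by group
      _ = u * (x * (u⁻¹ * a * u)) * u⁻¹ := by rw [h2]
      _ = (u * x * u⁻¹) * a := by group
  have hPW' : ∀ u ∈ P, ∀ x ∈ W', u * x * u⁻¹ ∈ W' := by
    intro u hu x hx
    refine ⟨P.mul_mem (P.mul_mem hu hx.1) (P.inv_mem hu), Subgroup.mem_centralizer_iff.2 fun a ha => ?_⟩
    have h1 := hPA' u⁻¹ (P.inv_mem hu) a ha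
    rw [inv_inv] at h1
    have h2 := Subgroup.mem_centralizer_iff.1 hx.2 _ h1
    calc a * (u * x * u⁻¹) = u * (u⁻¹ * a * u * x) * u⁻¹ := by group
      _ = u * (x * (u⁻¹ * a * u)) * u⁻¹ := by rw [h2]
      _ = (u * x * u⁻¹) * a := by group
  have hnorm : ∀ {X : Subgroup Ω}, (∀ u ∈ P, ∀ x ∈ X, u * x * u⁻¹ ∈ X) → ∀ u ∈ P, u ∈ Subgroup.normalizer (X : Set Ω) := by
    intro X hX u hu
    rw [Subgroup.mem_normalizer_iff]
    intro x
    refine ⟨fun h => hX u hu x h, fun h => ?_⟩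
    have h1 := hX u⁻¹ (P.inv_mem hu) _ h
    have e : u⁻¹ * (u * x * u⁻¹) * u⁻¹⁻¹ = x := by group
    rwa [e] at h1
  have hNW := hnorm hPW
  have hNW' := hnorm hPW'
  have hPN : P ≤ normalizerIn S W' := fun u hu => ⟨hPS hu, hNW' u hu⟩
  -- the fully normalized conjugate of `W'`
  obtain ⟨Wst, hWc, hWn⟩ := exists_isFullyNormalized E hW'S
  have h₁ := isFullyAutomized_of_isFullyNormalized E hS hE hWn
  have h₂ := isReceptive_of_isFullyNormalized E hS hE hWn
  obtain ⟨e, ψ, he, hψ, hψe, hψN⟩ := exists_normalizer_ext E hS h₁ h₂ hWc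
  let ρ : P →* Ω := ψ.comp (Subgroup.inclusion hPN)
  have hρ : ρ ∈ E.Hom P := restrict_mem E hPN hψ
  have hρinj := E.injective_of_mem hρ
  have hρW' : ∀ x : W', ρ ⟨x, hW'P x.2⟩ = e x := fun x => hψe x
  have hρN : ∀ v : P, ρ v ∈ normalizerIn S Wst := fun v => hψN _
  by_cases hcent : centralizerIn S Wst ≤ Wst
  · rcases claim2 hS hE hF hEF hag IH hPS hAP hAh hAs hα W W' rfl rfl hWP with hfix | hαW
    · exact hTY (hfixT α hα hfix)
    -- the values of `α` on `W`
    have hαWv : ∀ w : W, (autHom α).comp (Subgroup.inclusion hWP) w ∈ W' := by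
      intro w
      refine ⟨(α _).2, Subgroup.mem_centralizer_iff.2 ?_⟩
      rintro _ ⟨a, rfl⟩
      have hc : (a : Ω) * w = w * a := Subgroup.mem_centralizer_iff.1 w.2.2 a a.2
      have h1 : (⟨a, hAP a.2⟩ : P) * ⟨w, hWP w.2⟩ = ⟨w, hWP w.2⟩ * ⟨a, hAP a.2⟩ := Subtype.ext hc
      have h2 := congrArg (fun t : P => (t : Ω)) (congrArg α h1)
      simp only [map_mul, Subgroup.coe_mul] at h2
      exact h2
    have hαWs : ∀ x : W', ∃ w : W, (α ⟨w, hWP w.2⟩ : Ω) = x := by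
      intro x
      let v : P := α.symm ⟨x, hW'P x.2⟩
      have hv : α v = ⟨x, hW'P x.2⟩ := α.apply_symm_apply _
      refine ⟨⟨v, v.2, Subgroup.mem_centralizer_iff.2 fun a ha => ?_⟩, ?_⟩
      · have h1 : α (⟨a, hAP ha⟩ * v) = α (v * ⟨a, hAP ha⟩) := by
          rw [map_mul, map_mul, hv]
          apply Subtype.ext
          exact Subgroup.mem_centralizer_iff.1 x.2.2 _ (mem_imgA α hAP ⟨a, ha⟩)
        have h2 := α.injective h1
        exact congrArg Subtype.val h2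
      · show ((α v : P) : Ω) = x
        rw [hv]
    let β₁ : W →* Ω := (isoHom e).comp (((autHom α).comp (Subgroup.inclusion hWP)).codRestrict W' hαWv)
    have hβ₁ : β₁ ∈ E.Hom W := comp_mem' E hαW he hαWv β₁ (fun _ => rfl)
    have hβρ : ∀ w : W, β₁ w = ρ (α ⟨w, hWP w.2⟩) := fun w => (hρW' ⟨_, hαWv w⟩).symm
    have hβ₁r : β₁.range = Wst := by
      apply le_antisymm
      · rintro _ ⟨w, rfl⟩
        exact (e _).2
      · intro y hy
        obtain ⟨w, hw⟩ := hαWs (e.symm ⟨y, hy⟩)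
        refine ⟨w, ?_⟩
        have h1 : (((autHom α).comp (Subgroup.inclusion hWP)).codRestrict W' hαWv) w = e.symm ⟨y, hy⟩ := Subtype.ext hw
        show isoHom e _ = y
        rw [h1, isoHom_apply, MulEquiv.apply_symm_apply]
    have hconj : ∀ (u : P) (x : W) (h : (u : Ω) * x * (u : Ω)⁻¹ ∈ W),
        β₁ ⟨_, h⟩ = ρ (α u) * β₁ x * (ρ (α u))⁻¹ := by
      intro u x h
      rw [hβρ, hβρ]
      have h1 : (⟨(u : Ω) * x * (u : Ω)⁻¹, hWP h⟩ : P) = u * ⟨x, hWP x.2⟩ * u⁻¹ := rfl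
      rw [h1, map_mul, map_mul, map_inv, map_mul, map_mul, map_inv]
    have hext : P ≤ extender S W β₁ := by
      intro u hu
      exact mem_extender_of β₁ (hPS hu) (hNW u hu) (h := ρ (α ⟨u, hu⟩)) (val_mem E hρ _)
        (fun x => hconj ⟨u, hu⟩ x _)
    obtain ⟨ε, hε, hεe⟩ := IsReceptive.exists_extension E h₂ hβ₁ hβ₁r hext hWP
    have hεinj := E.injective_of_mem hε
    have hc : ∀ u : P, (ε u)⁻¹ * ρ (α u) ∈ centralizerIn S Wst := by
      intro u
      refine ⟨S.mul_mem (S.inv_mem (val_mem E hε u)) (val_mem E hρ _), Subgroup.mem_centralizer_iff.2 fun y hy => ?_⟩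
      rw [← hβ₁r] at hy
      obtain ⟨x, rfl⟩ := hy
      have hux := hPW u u.2 x x.2
      have h1 := hconj u x hux
      have h2 : β₁ ⟨_, hux⟩ = ε u * β₁ x * (ε u)⁻¹ := by
        rw [← hεe, ← hεe]
        have h1 : (⟨(u : Ω) * x * (u : Ω)⁻¹, hWP hux⟩ : P) = u * ⟨x, hWP x.2⟩ * u⁻¹ := rfl
        rw [h1, map_mul, map_mul, map_inv]
      have h3 : ρ (α u) * β₁ x * (ρ (α u))⁻¹ = ε u * β₁ x * (ε u)⁻¹ := by rw [← h1, h2]
      calc β₁ x * ((ε u)⁻¹ * ρ (α u)) = (ε u)⁻¹ * (ε u * β₁ x * (ε u)⁻¹) * ρ (α u) := by group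
        _ = (ε u)⁻¹ * (ρ (α u) * β₁ x * (ρ (α u))⁻¹) * ρ (α u) := by rw [h3]
        _ = (ε u)⁻¹ * ρ (α u) * β₁ x := by group
    have hWstε : Wst ≤ ε.range := by
      rw [← hβ₁r]
      rintro _ ⟨x, rfl⟩
      exact ⟨⟨x, hWP x.2⟩, hεe x⟩
    have hle : ρ.range ≤ ε.range := by
      rintro _ ⟨v, rfl⟩
      let u : P := α.symm v
      have hu : α u = v := α.apply_symm_apply v
      have h1 := hWstε (hcent (hc u))
      have h2 := ε.range.mul_mem (MonoidHom.mem_range.2 ⟨u, rfl⟩) h1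
      rw [hu] at h2
      have e2 : ε u * ((ε u)⁻¹ * ρ v) = ρ v := by group
      rwa [e2] at h2
    have hfinε : Finite ε.range := finite_of_le (range_le E hε)
    have hr : ε.range = ρ.range := by
      symm
      apply Subgroup.eq_of_le_of_card_ge hle
      rw [card_range E hε, card_range E hρ]
    let eρ : P ≃* ρ.range := isoOf ρ hρinj rfl
    let eε : P ≃* ρ.range := isoOf ε hεinj hr
    have heρ : isoHom eρ ∈ E.Hom P := isoHom_isoOf_mem E hρ rfl
    have heε : isoHom eε ∈ E.Hom P := isoHom_isoOf_mem E hε hr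
    let y : MulAut P := eε.trans eρ.symm
    have hy : y ∈ E.autGroup P :=
      mem_autGroup_of_hom E (isoHom_trans_mem E heε (isoHom_symm_mem E heρ)) y (fun _ => rfl)
    have hyρ : ∀ x : P, ρ (y x) = ε x := by
      intro x
      have h1 : ((eρ (y x) : ρ.range) : Ω) = ρ (y x) := rfl
      rw [← h1]
      show ((eρ (eρ.symm (eε x)) : ρ.range) : Ω) = ε x
      rw [MulEquiv.apply_symm_apply]
      rfl
    have hyW : ∀ x : P, (x : Ω) ∈ W → y x = α x := by
      intro x hx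
      apply hρinj
      rw [hyρ]
      have h1 := hεe ⟨x, hx⟩
      have h2 := hβρ ⟨x, hx⟩
      exact h1.trans h2
    have hz : y⁻¹ * α ∈ F.autGroup P := Subgroup.mul_mem _ (Subgroup.inv_mem _ (hYF hy)) hα
    have hzfix : ∀ x : P, (x : Ω) ∈ A → (y⁻¹ * α) x = x := by
      intro x hx
      rw [MulAut.mul_apply, ← hyW x (hAabW hx)]
      exact y.symm_apply_apply x
    have hzT := hTY (hfixT _ hz hzfix)
    have : α = y * (y⁻¹ * α) := by group
    rw [this]
    exact Subgroup.mul_mem _ hy hzT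
  · obtain ⟨c₀, hc₀, hc₀n⟩ := SetLike.not_le_iff_exists.1 hcent
    let M : Subgroup Ω := normalizerIn S Wst
    have hMS : M ≤ S := inf_le_left
    have hMp : IsPGroup p M := hS.to_le hMS
    have hMfin : Finite M := finite_of_le hMS
    have hρM : ρ.range ≤ M := by
      rintro _ ⟨v, rfl⟩
      exact hρN v
    have hCM : centralizerIn S Wst ≤ M := fun x hx => ⟨hx.1, Subgroup.centralizer_le_normalizer _ hx.2⟩
    let Cc : Subgroup M := (centralizerIn S Wst).subgroupOf M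
    let Rr : Subgroup M := ρ.range.subgroupOf M
    have hCn : Cc.Normal := ⟨by
      intro c hc m
      refine ⟨S.mul_mem (S.mul_mem m.2.1 hc.1) (S.inv_mem m.2.1), Subgroup.mem_centralizer_iff.2 fun y hy => ?_⟩
      have hy' := (Subgroup.mem_normalizer_iff.1 (Subgroup.inv_mem _ m.2.2) y).1 hy
      rw [inv_inv] at hy'
      have h2 : (m : Ω)⁻¹ * y * m * c = c * ((m : Ω)⁻¹ * y * m) := Subgroup.mem_centralizer_iff.1 hc.2 _ hy'
      show y * ((m : Ω) * (c : Ω) * (m : Ω)⁻¹) = (m : Ω) * (c : Ω) * (m : Ω)⁻¹ * y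
      calc y * ((m : Ω) * (c : Ω) * (m : Ω)⁻¹) = (m : Ω) * (((m : Ω)⁻¹ * y * (m : Ω)) * (c : Ω)) * (m : Ω)⁻¹ := by group
        _ = (m : Ω) * ((c : Ω) * ((m : Ω)⁻¹ * y * (m : Ω))) * (m : Ω)⁻¹ := by rw [h2]
        _ = _ := by group⟩
    have hnle : ¬ Cc ≤ Rr := by
      intro hle
      have h1 : (⟨c₀, hCM hc₀⟩ : M) ∈ Rr := hle hc₀
      obtain ⟨v, hv⟩ : c₀ ∈ ρ.range := h1
      apply hc₀n
      have hvc : ρ v ∈ Subgroup.centralizer (Wst : Set Ω) := by
        rw [hv]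
        exact hc₀.2
      have hvW' : (v : Ω) ∈ W' := by
        refine ⟨v.2, Subgroup.mem_centralizer_iff.2 fun b hb => ?_⟩
        have hbP : b ∈ P := (hA'W' hb).1
        have h2 : ρ ⟨b, hbP⟩ ∈ Wst := by
          have := hρW' ⟨b, hA'W' hb⟩
          exact this ▸ (e ⟨b, hA'W' hb⟩).2
        have h3 := Subgroup.mem_centralizer_iff.1 hvc _ h2
        rw [← map_mul, ← map_mul] at h3
        have h4 := hρinj h3
        exact congrArg Subtype.val h4
      have h5 := hρW' ⟨v, hvW'⟩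
      rw [← hv]
      have h6 : (⟨(v : Ω), hW'P hvW'⟩ : P) = v := rfl
      rw [h6] at h5
      rw [h5]
      exact (e _).2
    obtain ⟨c, hcC, hcR, hcN⟩ := exists_normal_elt hMp hnle
    have hcS : (c : Ω) ∈ S := c.2.1
    have hcZ : (c : Ω) ∈ centralizerIn S Wst := hcC
    have hcR' : (c : Ω) ∉ ρ.range := hcR
    have hcN' : (c : Ω) ∈ Subgroup.normalizer (ρ.range : Set Ω) := by
      rw [Subgroup.mem_normalizer_iff]
      intro x
      constructor
      · intro hx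
        have h4 := (Subgroup.mem_normalizer_iff.1 hcN ⟨x, hρM hx⟩).1 hx
        exact h4
      · intro hx
        have hxM : x ∈ M := by
          have h5 := M.mul_mem (M.mul_mem (M.inv_mem c.2) (hρM hx)) c.2
          have e : (c : Ω)⁻¹ * ((c : Ω) * x * (c : Ω)⁻¹) * c = x := by group
          rwa [e] at h5
        have h4 := (Subgroup.mem_normalizer_iff.1 hcN ⟨x, hxM⟩).2 hx
        exact h4
    have hess : F.IsEssential p P := by
      rcases hP with h | h
      · exfalso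
        apply hcR'
        have h1 : ρ.range = S := by
          have hfinS : Finite S := inferInstance
          apply Subgroup.eq_of_le_of_card_ge (range_le E hρ)
          rw [card_range E hρ, h]
        rw [h1]
        exact hcS
      · exact h
    have hlt : P < S := Cfsg.Agent.Lib.FusionTheory.Essential.IsEssential.lt F hS hF hess
    let e₂ : P ≃* ρ.range := isoOf ρ hρinj rfl
    have he₂ : isoHom e₂ ∈ E.Hom P := isoHom_isoOf_mem E hρ rfl
    let y₂ : MulAut P := MulAut.congr e₂.symm (normAct ρ.range hcN')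
    have hy₂ : y₂ ∈ E.autGroup P := congr_mem_autGroup E (isoHom_symm_mem E he₂)
      (autInducedBy_le_autGroup E (range_le E hρ) (normAct_mem_autInducedBy S _ hcN' hcS))
    have hy₂ρ : ∀ x : P, ρ (y₂ x) = c * ρ x * (c : Ω)⁻¹ := by
      intro x
      have h1 : ((e₂ (y₂ x) : ρ.range) : Ω) = ρ (y₂ x) := rfl
      rw [← h1]
      show ((e₂ (e₂.symm (normAct ρ.range hcN' (e₂ x))) : ρ.range) : Ω) = _
      rw [MulEquiv.apply_symm_apply, normAct_apply]
      rfl
    have hy₂W : ∀ x : P, (x : Ω) ∈ W' → y₂ x = x := by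
      intro x hx
      apply hρinj
      rw [hy₂ρ]
      have h2 : ρ x ∈ Wst := by
        have := hρW' ⟨x, hx⟩
        exact this ▸ (e ⟨x, hx⟩).2
      have h3 := Subgroup.mem_centralizer_iff.1 hcZ.2 _ h2
      rw [← h3]
      group
    let y₀ : MulAut P := α⁻¹ * y₂ * α
    have hy₀ : y₀ ∈ F.autGroup P :=
      Subgroup.mul_mem _ (Subgroup.mul_mem _ (Subgroup.inv_mem _ hα) (hYF hy₂)) hα
    have hy₀fix : ∀ x : P, (x : Ω) ∈ A → y₀ x = x := by
      intro x hx
      show α⁻¹ (y₂ (α x)) = x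
      rw [hy₂W (α x) (hA'W' (mem_imgA α hAP ⟨x, hx⟩))]
      exact α.symm_apply_apply x
    have hy₀T := hfixT y₀ hy₀ hy₀fix
    have hy₀Inn : y₀ ∉ Inn P := by
      rintro ⟨v₀, hv₀⟩
      let v : P := α v₀
      have hy₂c : ∀ x : P, y₂ x = v * x * v⁻¹ := by
        intro x
        have h1 : y₀ (α.symm x) = v₀ * α.symm x * v₀⁻¹ := by
          rw [← hv₀]
          rfl
        have h2 : α (y₀ (α.symm x)) = y₂ x := by
          show α (α⁻¹ (y₂ (α (α.symm x)))) = y₂ x
          rw [MulEquiv.apply_symm_apply]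
          exact α.apply_symm_apply _
        rw [← h2, h1, map_mul, map_mul, map_inv, MulEquiv.apply_symm_apply]
      have hc2 : (ρ v)⁻¹ * c ∈ centralizerIn S ρ.range := by
        refine ⟨S.mul_mem (S.inv_mem (val_mem E hρ v)) hcS, Subgroup.mem_centralizer_iff.2 ?_⟩
        rintro _ ⟨x, rfl⟩
        have h1 := hy₂ρ x
        rw [hy₂c, map_mul, map_mul, map_inv] at h1
        calc ρ x * ((ρ v)⁻¹ * c) = (ρ v)⁻¹ * (ρ v * ρ x * (ρ v)⁻¹) * c := by group
          _ = (ρ v)⁻¹ * (c * ρ x * (c : Ω)⁻¹) * c := by rw [h1]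
          _ = (ρ v)⁻¹ * c * ρ x := by group
      have hconj : F.IsConj P ρ.range := ⟨ρ, hEF _ hρ, rfl⟩
      have h3 := hess.1.2 _ hconj hc2
      apply hcR'
      have h4 := ρ.range.mul_mem (MonoidHom.mem_range.2 ⟨v, rfl⟩) h3
      have e3 : ρ v * ((ρ v)⁻¹ * c) = c := by group
      rwa [e3] at h4
    have hTp : IsPGroup p (autInducedBy S P) := isPGroup_autInducedBy P hS
    have hDT : Subgroup.zpowers y₀ ≤ autInducedBy S P := (Subgroup.zpowers_le).2 hy₀T
    have hDp : IsPGroup p (Subgroup.zpowers y₀) := hTp.to_le hDT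
    have hDext : Subgroup.zpowers y₀ ≤ extendable F P := hDT.trans (autInducedBy_le_extendable F hlt hS)
    have hDne : ¬ Subgroup.zpowers y₀ ≤ Inn P := fun h => hy₀Inn (h (Subgroup.mem_zpowers y₀))
    obtain ⟨k, hk⟩ := hTp ⟨y₀, hy₀T⟩
    have hk' : y₀ ^ p ^ k = 1 := congrArg Subtype.val hk
    have hy₂e : y₂ = α * y₀ * α⁻¹ := by
      show y₂ = α * (α⁻¹ * y₂ * α) * α⁻¹
      group
    have hy₂k : y₂ ^ p ^ k = 1 := by
      rw [hy₂e, conj_pow, hk']
      group
    have hRp : IsPGroup p (Subgroup.zpowers y₂) := by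
      rintro ⟨_, n, rfl⟩
      refine ⟨k, Subtype.ext ?_⟩
      show (y₂ ^ n) ^ p ^ k = 1
      rw [← zpow_natCast, zpow_comm, zpow_natCast, hy₂k, one_zpow]
    obtain ⟨χ, hχ, hχc⟩ := IsFullyAutomized.exists_conj E hAutE hRp ((Subgroup.zpowers_le).2 hy₂)
    have hg : χ * α ∈ F.autGroup P := Subgroup.mul_mem _ (hYF hχ) hα
    have hgD : ∀ d ∈ Subgroup.zpowers y₀, (χ * α) * d * (χ * α)⁻¹ ∈ extendable F P := by
      rintro _ ⟨n, rfl⟩
      have h1 : (χ * α) * (fun m : ℤ => y₀ ^ m) n * (χ * α)⁻¹ = χ * y₂ ^ n * χ⁻¹ := by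
        show (χ * α) * y₀ ^ n * (χ * α)⁻¹ = χ * y₂ ^ n * χ⁻¹
        rw [hy₂e, conj_zpow]
        group
      rw [h1]
      exact autInducedBy_le_extendable F hlt hS (hχc _ (Subgroup.zpow_mem_zpowers y₂ n))
    have hgext := mem_extendable_of_conj F hS hF hess hDext hDp hDne hg hgD
    have hextE : extendable F P ≤ E.autGroup P := by
      refine (Subgroup.closure_le _).2 ?_
      rintro β ⟨Q, hPQ, φ, hφ, h⟩
      have hfinQ : Finite Q := finite_of_le (Cfsg.Agent.Lib.Fusion.Basic.le_of_mem F hφ)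
      have hφE := hbig Q (Cfsg.Agent.Lib.Fusion.LocalGlobal.card_lt_of_lt hPQ) φ hφ
      exact extendable_le_autGroup E (Subgroup.subset_closure ⟨Q, hPQ, φ, hφE, h⟩)
    have := hextE hgext
    have e4 : α = χ⁻¹ * (χ * α) := by group
    rw [e4]
    exact Subgroup.mul_mem _ (Subgroup.inv_mem _ hχ) this

/-- The induction step. -/
theorem step (hS : IsPGroup p S) (hE : E.IsSaturated p) (hF : F.IsSaturated p) (hEF : E.IsSubsystemOf F)
    (hag : Agree p E F) (IH : IHyp p Ω (Mor F).ncard) : ∀ P, F.Hom P ⊆ E.Hom P := by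
  classical
  have main : ∀ k : ℕ, ∀ (R : Subgroup Ω) (φ : R →* Ω), φ ∈ F.Hom R → Nat.card S + 1 ≤ Nat.card R + k → φ ∈ E.Hom R := by
    intro k
    induction k with
    | zero =>
      intro R φ hφ h
      have hRS := Cfsg.Agent.Lib.Fusion.Basic.le_of_mem F hφ
      have h1 : Nat.card R ≤ Nat.card S := Subgroup.card_le_of_le hRS
      omega
    | succ k ih =>
      refine alperin_induction F hS hF (fun R φ => Nat.card S + 1 ≤ Nat.card R + (k + 1) → φ ∈ E.Hom R) ?_ ?_ ?_ ?_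
      · intro P hP α hα hk
        have hPS : P ≤ S := by
          rcases hP with h | h
          · exact h.le
          · exact h.1.1
        refine autHom_mem E hPS (key hS hE hF hEF hag IH hP ?_ hα)
        intro R hcard φ hφ
        exact ih R φ hφ (by omega)
      · intro P Q h φ hφ hC hk
        have hPS := Cfsg.Agent.Lib.Fusion.Basic.le_of_mem F hφ
        have hfinP : Finite P := finite_of_le hPS
        have h1 : Nat.card Q ≤ Nat.card P := Subgroup.card_le_of_le h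
        exact restrict_mem E h (hC (by omega))
      · intro P Q R e e' he he' hC hC' hk
        have h1 : Nat.card P = Nat.card Q := Nat.card_congr e.toEquiv
        exact isoHom_trans_mem E (hC hk) (hC' (by omega))
      · intro P Q e he hC hk
        have h1 : Nat.card P = Nat.card Q := Nat.card_congr e.toEquiv
        exact isoHom_symm_mem E (hC (by omega))
  intro P φ hφ
  have hPS := Cfsg.Agent.Lib.Fusion.Basic.le_of_mem F hφ
  exact main (Nat.card S + 1) P φ hφ (by omega)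

end claim

/-- Every instance of the induction hypothesis holds. -/
theorem iHyp (p : ℕ) [Fact p.Prime] (Ω : Type*) [Group Ω] (m : ℕ) : IHyp p Ω m := by
  induction m with
  | zero =>
    intro S _ hS E F hE hF hEF hag h
    exact absurd h (Nat.not_lt_zero _)
  | succ m ih =>
    intro S _ hS E F hE hF hEF hag h
    refine step hS hE hF hEF hag ?_
    intro S' _ hS' E' F' hE' hF' hEF' hag' h'
    exact ih S' hS' E' F' hE' hF' hEF' hag' (by omega)

/-- Small-exponent abelian subgroups of the hyperfocal subgroup control fusion. -/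
theorem hom_eq_of_agree {S : Subgroup Ω} [Finite S] {p : ℕ} [Fact p.Prime] (hS : IsPGroup p S)
    {E F : FusionSystem S} (hE : E.IsSaturated p) (hF : F.IsSaturated p) (hEF : E.IsSubsystemOf F)
    (hag : Agree p E F) (P : Subgroup Ω) : E.Hom P = F.Hom P :=
  Set.Subset.antisymm (hEF P) (iHyp p Ω _ S hS E F hE hF hEF hag (Nat.lt_succ_self _) P)

end Cfsg.Agent.Lib.FusionTheory.SmallControl2
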