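import Cfsg.Agent.Lib.FusionTheory.StrongClosure
import Cfsg.Agent.Lib.FusionTheory.Hyperfocal
import Cfsg.Agent.Lib.FusionExt.Basic

/-!
# Action on a strongly closed subgroup; factorization of automorphisms of subgroups not containing it
-/

set_option autoImplicit false

namespace Cfsg.Agent.Lib.FusionTheory.StrongAct

open Cfsg Cfsg.FusionSystem Cfsg.Agent.Lib.Fusion.Basic Cfsg.Agent.Lib.Fusion.Saturation
open Cfsg.Agent.Lib.Fusion.Saturation2 Cfsg.Agent.Lib.Fusion.Alperin Cfsg.Agent.Lib.FusionTheory.Weak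
open Cfsg.Agent.Lib.FusionTheory.Normal Cfsg.Agent.Lib.Core.SylowFacts
open Cfsg.Agent.Lib.FusionTheory.StrongClosure Cfsg.Agent.Lib.Core.Residual

variable {Ω : Type*} [Group Ω] {S : Subgroup Ω} (F : FusionSystem S) {p : ℕ}

section factor

variable {T : Subgroup Ω} (hT : F.StronglyClosed T)

/-- The subgroup `D` of `Aut_F(R)` of automorphisms acting trivially on `R / R ∩ T`. -/
def dSub (T R : Subgroup Ω) : Subgroup (MulAut R) where
  carrier := {γ | γ ∈ F.autGroup R ∧ ∀ x : R, (x : Ω)⁻¹ * ((γ x : R) : Ω) ∈ T}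
  one_mem' := ⟨one_mem _, fun x => by simpa using T.one_mem⟩
  mul_mem' := by
    rintro a b ⟨ha, ha'⟩ ⟨hb, hb'⟩
    refine ⟨mul_mem ha hb, fun x => ?_⟩
    have h1 := T.mul_mem (hb' x) (ha' (b x))
    have e : (x : Ω)⁻¹ * ((b x : R) : Ω) * (((b x : R) : Ω)⁻¹ * ((a (b x) : R) : Ω)) =
        (x : Ω)⁻¹ * (((a * b) x : R) : Ω) := by
      rw [MulAut.mul_apply]
      group
    rwa [e] at h1
  inv_mem' := by
    rintro a ⟨ha, ha'⟩
    refine ⟨inv_mem ha, fun x => ?_⟩
    have h1 := T.inv_mem (ha' (a⁻¹ x))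
    rw [MulAut.apply_inv_self] at h1
    simpa using h1

include hT in
/-- `D` is normal in `Aut_F(R)`. -/
theorem dSub_normal {R : Subgroup Ω} (hRS : R ≤ S) : ((dSub F T R).subgroupOf (F.autGroup R)).Normal := by
  constructor
  rintro k ⟨hk, hk'⟩ g
  refine ⟨(g * k * g⁻¹).2, fun x => ?_⟩
  have h1 := hk' ((g : MulAut R)⁻¹ x)
  have h2 := StronglyClosed.aut_mem F hT hRS g.2
    (x := (((g : MulAut R)⁻¹ x)⁻¹ * (k : MulAut R) ((g : MulAut R)⁻¹ x))) (by simpa using h1)
  have e : ((g : MulAut R) (((g : MulAut R)⁻¹ x)⁻¹ * (k : MulAut R) ((g : MulAut R)⁻¹ x)) : R) =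
      x⁻¹ * ((g * k * g⁻¹ : F.autGroup R) : MulAut R) x := by
    simp [MulAut.mul_apply]
  rw [e] at h2
  simpa using h2

variable [Finite S] [Fact p.Prime] (hS : IsPGroup p S) (hF : F.IsSaturated p)

include hT hS hF

/-- For `R` fully normalized not containing `T`: every element of `Aut_F(R)` is an element extending to an
automorphism of a larger subgroup, times an element of `D`. -/
theorem exists_factor_ext {R : Subgroup Ω} (hRn : F.IsFullyNormalized R) (hTR : ¬ T ≤ R)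
    {α : MulAut R} (hα : α ∈ F.autGroup R) :
    ∃ (n k : MulAut R) (Y : Subgroup Ω) (hRY : R < Y) (γ : MulAut Y), Y ≤ S ∧ n ∈ F.autGroup R ∧ k ∈ dSub F T R ∧ α = n * k ∧
      γ ∈ F.autGroup Y ∧ ∀ x : R, ((γ ⟨x, hRY.le x.2⟩ : Y) : Ω) = ((n x : R) : Ω) := by
  have hRS := hRn.1
  have hTS : T ≤ S := hT.1
  have hN := dSub_normal F hT hRS
  obtain ⟨-, T', hT'⟩ := isFullyAutomized_of_isFullyNormalized F hS hF hRn
  have hfinR : Finite R := finite_of_le hRS
  have hfinA : Finite (F.autGroup R) := inferInstance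
  obtain ⟨n, hn, k, hk, e⟩ := frattini_inf T' ((dSub F T R).subgroupOf (F.autGroup R)) ⟨α, hα⟩
  have hαe : α = (n : MulAut R) * (k : MulAut R) := congrArg Subtype.val e
  -- the subgroup `Y₁` of `N_S(R)`
  let N : Subgroup (F.autGroup R) := (dSub F T R).subgroupOf (F.autGroup R)
  let Y₁ : Subgroup Ω := (N.comap (normToAut F hRS)).map (normalizerIn S R).subtype
  have hY₁N : Y₁ ≤ normalizerIn S R := by
    rintro _ ⟨g, -, rfl⟩
    exact g.2
  let Y : Subgroup Ω := R ⊔ Y₁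
  have hYN : Y ≤ normalizerIn S R := sup_le (le_normalizerIn hRS) hY₁N
  have hmemY₁ : ∀ g (hg : g ∈ normalizerIn S R), g ∈ Y₁ ↔
      (normToAut F hRS ⟨g, hg⟩ : F.autGroup R) ∈ N := by
    intro g hg
    constructor
    · rintro ⟨g', hg', e⟩
      have : g' = ⟨g, hg⟩ := Subtype.ext e
      rw [← this]
      exact hg'
    · intro h
      exact ⟨⟨g, hg⟩, h, rfl⟩
  have hTr : (T' : Subgroup (F.autGroup R)) = (normToAut F hRS).range := by
    rw [hT', range_normToAut]
  -- `n` conjugates `c_g`, `g ∈ Y₁`, to `c_h`, `h ∈ Y₁`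
  have hconj : ∀ g : normalizerIn S R, (g : Ω) ∈ Y₁ → ∃ h : normalizerIn S R, (h : Ω) ∈ Y₁ ∧
      normToAut F hRS h = n * normToAut F hRS g * n⁻¹ := by
    intro g hg
    have h1 : normToAut F hRS g ∈ ((T' : Subgroup (F.autGroup R)) ⊓ N : Subgroup (F.autGroup R)) := by
      refine ⟨?_, (hmemY₁ g g.2).1 hg⟩
      rw [hTr]
      exact ⟨g, rfl⟩
    have h2 := (Subgroup.mem_normalizer_iff.1 hn _).1 h1
    have h3 := h2.1
    rw [hTr] at h3
    obtain ⟨h, hh⟩ := h3
    refine ⟨h, ?_, hh⟩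
    rw [hmemY₁ h h.2, hh]
    exact h2.2
  have hnF : autHom (n : MulAut R) ∈ F.Hom R := autHom_mem F hRS n.2
  have hconj' : ∀ g : normalizerIn S R, (g : Ω) ∈ Y₁ → ∃ h : normalizerIn S R, (h : Ω) ∈ Y₁ ∧
      ∀ x : R, autHom (n : MulAut R) ⟨g * x * (g : Ω)⁻¹, (Subgroup.mem_normalizer_iff.1 g.2.2 x).1 x.2⟩ =
        h * autHom (n : MulAut R) x * (h : Ω)⁻¹ := by
    intro g hg
    obtain ⟨h, hh, hhe⟩ := hconj g hg
    refine ⟨h, hh, fun x => ?_⟩
    have h1 := congrArg (fun β : F.autGroup R => (((β : MulAut R) ((n : MulAut R) x) : R) : Ω)) hhe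
    simp only [normToAut_apply] at h1
    rw [autHom_apply, autHom_apply, h1]
    show _ = (((n * normToAut F hRS g * n⁻¹ : F.autGroup R) : MulAut R) ((n : MulAut R) x) : R).1
    congr 1
    simp [MulAut.mul_apply]
    rfl
  have hY₁ext : Y₁ ≤ extender S R (autHom (n : MulAut R)) := by
    intro g hg
    have hgN := hY₁N hg
    obtain ⟨h, -, hhe⟩ := hconj' ⟨g, hgN⟩ hg
    exact mem_extender_of _ hgN.1 hgN.2 h.2.1 hhe
  have hYext : Y ≤ extender S R (autHom (n : MulAut R)) := sup_le (le_extender F hnF) hY₁ext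
  have hRY₀ : R ≤ Y := le_sup_left
  obtain ⟨ψ, hψ, hψe⟩ := IsReceptive.exists_extension F (isReceptive_of_isFullyNormalized F hS hF hRn)
    hnF (autHom_range _) hYext hRY₀
  have hfinY : Finite Y := finite_of_le (hYN.trans inf_le_left)
  have hψN : ∀ t : Y, ψ t ∈ normalizerIn S R := fun t =>
    ⟨val_mem F hψ t, extension_mem_normalizer (autHom_range _) hRY₀ hψe (hYN.trans inf_le_right) t⟩
  have hψv : ∀ t : Y, ψ t ∈ Y := by
    refine Cfsg.Agent.Lib.FusionExt.Basic.mem_of_sup ψ (fun a ha => ?_) (fun b hb => ?_)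
    · have : ψ ⟨a, Subgroup.mem_sup_left ha⟩ = _ := hψe ⟨a, ha⟩
      rw [this]
      exact hRY₀ (Subtype.property _)
    · have hbN := hY₁N hb
      obtain ⟨h, hh, hhe⟩ := hconj ⟨b, hbN⟩ hb
      -- `ψ b` induces `c_h`
      have hN' := hψN ⟨b, Subgroup.mem_sup_right hb⟩
      have h1 : normToAut F hRS ⟨_, hN'⟩ = normToAut F hRS h := by
        apply Subtype.ext
        ext y
        obtain ⟨x, rfl⟩ := (n : MulAut R).surjective y
        have h2 := extension_conj (φ := autHom (n : MulAut R)) (ψ := ψ) hRY₀ hψe ⟨b, Subgroup.mem_sup_right hb⟩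
          hbN.2 x
        rw [normToAut_apply, hhe]
        refine h2.trans ?_
        show _ = (((n * normToAut F hRS ⟨b, hbN⟩ * n⁻¹ : F.autGroup R) : MulAut R) ((n : MulAut R) x) : R).1
        simp [MulAut.mul_apply]
        rfl
      refine Subgroup.mem_sup_right ?_
      rw [hmemY₁ _ hN', h1, ← hmemY₁ _ h.2]
      exact hh
  have hr : ψ.range = Y := range_eq_of_card_le ψ (F.injective_of_mem hψ) hψv le_rfl
  -- an element of `T` normalizing `R` outside `R`
  have hRlt : ∃ g ∈ T, g ∈ Subgroup.normalizer (R : Set Ω) ∧ g ∉ R := by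
    by_contra hcon
    push Not at hcon
    exact hTR (le_of_normalizer_le hS hTS (StronglyClosed.le_normalizer F hT) hRS hcon)
  obtain ⟨g, hgT, hgN, hgR⟩ := hRlt
  have hgS : g ∈ S := hTS hgT
  have hgY₁ : g ∈ Y₁ := by
    rw [hmemY₁ g ⟨hgS, hgN⟩]
    refine ⟨(normToAut F hRS _).2, fun x => ?_⟩
    show (x : Ω)⁻¹ * (g * (x : Ω) * g⁻¹) ∈ T
    have h1 : (x : Ω)⁻¹ * g * (x : Ω) ∈ T := by
      have := StronglyClosed.conj_mem F hT (hRS (R.inv_mem x.2)) hgT
      simpa using this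
    have h2 := T.mul_mem h1 (T.inv_mem hgT)
    have e3 : (x : Ω)⁻¹ * g * (x : Ω) * g⁻¹ = (x : Ω)⁻¹ * (g * (x : Ω) * g⁻¹) := by group
    rwa [e3] at h2
  have hRlt' : R < Y := by
    refine lt_of_le_of_ne hRY₀ ?_
    intro h
    apply hgR
    rw [h]
    exact Subgroup.mem_sup_right hgY₁
  refine ⟨n, k, Y, hRlt', isoOf ψ (F.injective_of_mem hψ) hr, hYN.trans inf_le_left, n.2, hk, hαe,
    mem_autGroup_of_hom F hψ _ (fun x => rfl), fun x => hψe x⟩

omit [Finite S] [Fact p.Prime] hT hS hF in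
/-- The numerical decomposition into a `p`-part and a `p'`-part. -/
theorem exists_parts (hp : p.Prime) {N : ℕ} (hN : N ≠ 0) : ∃ c d e b : ℕ, N = p ^ e * b ∧ b.Coprime p ∧ p ^ e ∣ c ∧ b ∣ d ∧
    c + d ≡ 1 [MOD N] := by
  obtain ⟨e, b, hb, hNe⟩ := Nat.exists_eq_pow_mul_and_not_dvd hN p hp.ne_one
  have hc : Nat.Coprime (p ^ e) b := Nat.Coprime.pow_left _ ((Nat.Prime.coprime_iff_not_dvd hp).2 hb)
  let c := (Nat.chineseRemainder hc 0 1 : ℕ)
  let d := (Nat.chineseRemainder hc 1 0 : ℕ)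
  have hc1 : c ≡ 0 [MOD p ^ e] := (Nat.chineseRemainder hc 0 1).2.1
  have hc2 : c ≡ 1 [MOD b] := (Nat.chineseRemainder hc 0 1).2.2
  have hd1 : d ≡ 1 [MOD p ^ e] := (Nat.chineseRemainder hc 1 0).2.1
  have hd2 : d ≡ 0 [MOD b] := (Nat.chineseRemainder hc 1 0).2.2
  refine ⟨c, d, e, b, hNe, hc.symm.pow_right 1 |> fun _ => ((Nat.Prime.coprime_iff_not_dvd hp).2 hb).symm, ?_, ?_, ?_⟩
  · exact (Nat.modEq_zero_iff_dvd).1 hc1
  · exact (Nat.modEq_zero_iff_dvd).1 hd2
  · rw [hNe]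
    apply (Nat.modEq_and_modEq_iff_modEq_mul hc).1
    constructor
    · simpa using hc1.add hd1
    · simpa using hc2.add hd2

/-- Refinement for elements of order prime to `p`. -/
theorem exists_factor_ext_coprime {R : Subgroup Ω} (hRn : F.IsFullyNormalized R) (hTR : ¬ T ≤ R)
    {α : MulAut R} (hα : α ∈ F.autGroup R) (hc : (orderOf α).Coprime p) :
    ∃ (n k : MulAut R) (Y : Subgroup Ω) (hRY : R < Y) (γ : MulAut Y), Y ≤ S ∧ n ∈ F.autGroup R ∧ k ∈ dSub F T R ∧ α = n * k ∧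
      γ ∈ F.autGroup Y ∧ (orderOf γ).Coprime p ∧ ∀ x : R, ((γ ⟨x, hRY.le x.2⟩ : Y) : Ω) = ((n x : R) : Ω) := by
  have hp : p.Prime := Fact.out
  have hRS := hRn.1
  obtain ⟨n₁, k₁, Y, hRY, γ₁, hYS, hn₁, hk₁, hαe, hγ₁, hγn⟩ := exists_factor_ext F hT hS hF hRn hTR hα
  have hfinY : Finite Y := finite_of_le hYS
  have hfinAY : Finite (MulAut Y) :=
    Finite.of_injective (fun e : MulAut Y => (e : Y → Y)) DFunLike.coe_injective
  have hfinR : Finite R := finite_of_le hRS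
  have hfinAR : Finite (MulAut R) :=
    Finite.of_injective (fun e : MulAut R => (e : R → R)) DFunLike.coe_injective
  have hpow : ∀ (m : ℕ) (x : R), (((γ₁ ^ m) ⟨x, hRY.le x.2⟩ : Y) : Ω) = (((n₁ ^ m) x : R) : Ω) := by
    intro m
    induction m with
    | zero => intro x; rfl
    | succ m ih =>
      intro x
      rw [pow_succ', pow_succ', MulAut.mul_apply, MulAut.mul_apply]
      have h1 : (γ₁ ^ m) ⟨x, hRY.le x.2⟩ = ⟨((n₁ ^ m) x : R), hRY.le ((n₁ ^ m) x).2⟩ := Subtype.ext (ih x)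
      rw [h1]
      exact hγn _
  have hordN : orderOf γ₁ ≠ 0 := (orderOf_pos γ₁).ne'
  obtain ⟨c, d, e, b, hN, hb, hpc, hbd, hcd⟩ := exists_parts hp hordN
  have hn₁N : n₁ ^ orderOf γ₁ = 1 := by
    ext x
    rw [← hpow, pow_orderOf_eq_one]
    rfl
  have hn₁ord : orderOf n₁ ∣ orderOf γ₁ := orderOf_dvd_of_pow_eq_one hn₁N
  have hcd' : n₁ ^ (c + d) = n₁ := by
    have := (pow_eq_pow_iff_modEq (x := n₁) (n := c + d) (m := 1)).2 (hcd.of_dvd hn₁ord)
    rwa [pow_one] at this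
  -- the `p`-part of `n₁` lies in `D`
  have hN' := dSub_normal F hT hRS
  have hq : n₁ ^ orderOf α ∈ dSub F T R := by
    let π := QuotientGroup.mk' ((dSub F T R).subgroupOf (F.autGroup R))
    have h1 : π ⟨α, hα⟩ = π ⟨n₁, hn₁⟩ := by
      have h2 : (⟨α, hα⟩ : F.autGroup R) = ⟨n₁, hn₁⟩ * ⟨k₁, hk₁.1⟩ := Subtype.ext hαe
      rw [h2, map_mul]
      have h3 : π ⟨k₁, hk₁.1⟩ = 1 := (QuotientGroup.eq_one_iff (N := (dSub F T R).subgroupOf (F.autGroup R)) _).2 hk₁
      rw [h3, mul_one]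
    have h4 : π ⟨n₁, hn₁⟩ ^ orderOf α = 1 := by
      rw [← h1, ← map_pow]
      have : (⟨α, hα⟩ : F.autGroup R) ^ orderOf α = 1 := by
        apply Subtype.ext
        simp [pow_orderOf_eq_one]
      rw [this, map_one]
    rw [← map_pow, QuotientGroup.mk'_apply, QuotientGroup.eq_one_iff] at h4
    exact h4
  let u : MulAut R := n₁ ^ d
  have hu1 : u ^ p ^ e = 1 := by
    have h1 : orderOf γ₁ ∣ d * p ^ e := by
      rw [hN, mul_comm]
      exact Nat.mul_dvd_mul_right hbd _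
    show (n₁ ^ d) ^ p ^ e = 1
    rw [← pow_mul]
    exact orderOf_dvd_iff_pow_eq_one.1 (hn₁ord.trans h1)
  have hu2 : u ^ orderOf α ∈ dSub F T R := by
    show (n₁ ^ d) ^ orderOf α ∈ _
    rw [← pow_mul, mul_comm, pow_mul]
    exact pow_mem hq d
  have huD : u ∈ dSub F T R := by
    have hcop : (orderOf α).Coprime (p ^ (e + 1)) := hc.pow_right _
    obtain ⟨t, -, ht⟩ := Nat.exists_mul_mod_eq_one_of_coprime hcop
      (Nat.one_lt_pow (by omega) hp.one_lt)
    have h1 : u ^ p ^ (e + 1) = 1 := by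
      rw [pow_succ, pow_mul, hu1, one_pow]
    have h2 : u = (u ^ orderOf α) ^ t := by
      rw [← pow_mul, pow_eq_pow_mod _ h1, ht, pow_one]
    rw [h2]
    exact pow_mem hu2 t
  refine ⟨n₁ ^ c, u * k₁, Y, hRY, γ₁ ^ c, hYS, pow_mem hn₁ c, mul_mem huD hk₁, ?_, pow_mem hγ₁ c, ?_, fun x => hpow c x⟩
  · rw [hαe, ← mul_assoc, ← pow_add, hcd']
  · have h1 : (γ₁ ^ c) ^ b = 1 := by
      rw [← pow_mul]
      apply orderOf_dvd_iff_pow_eq_one.1
      rw [hN]
      exact Nat.mul_dvd_mul_right hpc b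
    exact Nat.Coprime.coprime_dvd_left (orderOf_dvd_of_pow_eq_one h1) hb

/-- A subsystem of maps preserving a conjugation-invariant subgroup. -/
def presSys {W : Subgroup Ω} (hWc : ∀ s ∈ S, ∀ x ∈ W, s * x * s⁻¹ ∈ W) : FusionSystem S where
  Hom P := {φ | φ ∈ F.Hom P ∧ ∀ x : P, (x : Ω) ∈ W ↔ φ x ∈ W}
  le_of_mem h := F.le_of_mem h.1
  injective_of_mem h := F.injective_of_mem h.1
  conj_mem := by
    intro P g hP hg
    refine ⟨F.conj_mem hP hg, fun x => ⟨fun h => hWc g hg _ h, fun h => ?_⟩⟩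
    have := hWc _ (S.inv_mem hg) _ h
    have e : g⁻¹ * (conjHom P g x) * g⁻¹⁻¹ = x := by
      show g⁻¹ * (g * x * g⁻¹) * g⁻¹⁻¹ = x
      group
    rwa [e] at this
  comp_mem := by
    rintro P Q φ ψ ⟨hφ, h1⟩ ⟨hψ, h2⟩ h
    exact ⟨F.comp_mem hφ hψ h, fun x => (h1 x).trans (h2 ⟨φ x, h x⟩)⟩
  inv_mem := by
    rintro P φ ⟨hφ, h1⟩
    obtain ⟨ψ, hψ, hψx⟩ := F.inv_mem hφ
    refine ⟨ψ, ⟨hψ, ?_⟩, hψx⟩
    rintro ⟨_, x, rfl⟩
    rw [hψx]
    exact (h1 x).symm

/-- A conjugation-invariant subgroup containing `T` is strongly closed once automorphisms of subgroups containing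
`T` preserve it. -/
theorem stronglyClosed_of_aut_le {W : Subgroup Ω} (hWS : W ≤ S) (hTW : T ≤ W) (hWc : ∀ s ∈ S, ∀ x ∈ W, s * x * s⁻¹ ∈ W)
    (hkey : ∀ R : Subgroup Ω, T ≤ R → R ≤ S → ∀ α ∈ F.autGroup R, ∀ x : R, (x : Ω) ∈ W → ((α x : R) : Ω) ∈ W) :
    F.StronglyClosed W := by
  have hle : ∀ P, F.Hom P ⊆ (presSys F hWc).Hom P := by
    refine le_of_step F hS hF (presSys F hWc) ?_
    intro R hRn hbig α hα
    have hRS := hRn.1
    refine ⟨autHom_mem F hRS hα, ?_⟩
    by_cases hTR : T ≤ R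
    · intro x
      refine ⟨hkey R hTR hRS α hα x, fun h => ?_⟩
      have := hkey R hTR hRS α⁻¹ (inv_mem hα) (α x) h
      simpa using this
    · obtain ⟨n, k, Y, hRY, γ, hYS, hn, hk, e, hγ, hγn⟩ := exists_factor_ext F hT hS hF hRn hTR hα
      have hcard : Nat.card R < Nat.card Y := by
        by_contra hcon
        have := finite_of_le hYS
        exact lt_irrefl _ (hRY.trans_eq (Subgroup.eq_of_le_of_card_ge hRY.le (not_lt.1 hcon)).symm)
      have hγp := (hbig Y hcard (autHom_mem F hYS hγ)).2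
      intro x
      have h1 : (x : Ω) ∈ W ↔ ((k x : R) : Ω) ∈ W := by
        have h2 : (x : Ω)⁻¹ * ((k x : R) : Ω) ∈ W := hTW (hk.2 x)
        constructor
        · intro h
          have := W.mul_mem h h2
          simpa using this
        · intro h
          have := W.mul_mem h (W.inv_mem h2)
          simpa using this
      have h3 := hγp ⟨(k x : R), hRY.le (k x).2⟩
      have h4 : autHom γ ⟨(k x : R), hRY.le (k x).2⟩ = ((n (k x) : R) : Ω) := hγn (k x)
      rw [h4] at h3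
      rw [e]
      exact h1.trans h3
  refine ⟨hWS, fun R hR φ hφ x => ?_⟩
  exact ((hle R hφ).2 x).1 (hR x.2)

end factor

section act

variable {T : Subgroup Ω}

/-- The elements of `S` acting on `T` as elements of `X`. -/
def actSub (S T : Subgroup Ω) (X : Subgroup (MulAut T)) : Subgroup Ω where
  carrier := {s | s ∈ S ∧ ∃ α ∈ X, ∀ t : T, ((α t : T) : Ω) = s * t * s⁻¹}
  one_mem' := ⟨S.one_mem, 1, X.one_mem, fun t => by simp⟩
  mul_mem' := by
    rintro a b ⟨ha, α, hα, hαt⟩ ⟨hb, β, hβ, hβt⟩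
    refine ⟨S.mul_mem ha hb, α * β, X.mul_mem hα hβ, fun t => ?_⟩
    rw [MulAut.mul_apply, hαt, hβt]
    group
  inv_mem' := by
    rintro a ⟨ha, α, hα, hαt⟩
    refine ⟨S.inv_mem ha, α⁻¹, X.inv_mem hα, fun t => ?_⟩
    have h1 := hαt (α⁻¹ t)
    rw [MulAut.apply_inv_self] at h1
    rw [h1]
    group

/-- The restriction to a strongly closed `T ≤ R` of an automorphism of `R`. -/
theorem exists_restrict [Finite S] (hT : F.StronglyClosed T) {R : Subgroup Ω} (hRS : R ≤ S) (hTR : T ≤ R)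
    {α : MulAut R} (hα : α ∈ F.autGroup R) :
    ∃ β ∈ F.autGroup T, (∀ t : T, ((β t : T) : Ω) = ((α ⟨t, hTR t.2⟩ : R) : Ω)) ∧ orderOf β ∣ orderOf α := by
  have hm : (autHom α).comp (Subgroup.inclusion hTR) ∈ F.Hom T := restrict_mem F hTR (autHom_mem F hRS hα)
  have hr := (StronglyClosed.weaklyClosed F hT).2 _ hm
  let β : MulAut T := isoOf _ (F.injective_of_mem hm) hr
  have hβ : ∀ t : T, ((β t : T) : Ω) = ((α ⟨t, hTR t.2⟩ : R) : Ω) := fun t => rfl
  refine ⟨β, mem_autGroup_of_hom F hm β (fun t => rfl), hβ, ?_⟩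
  have hpow : ∀ (n : ℕ) (t : T), (((β ^ n) t : T) : Ω) = (((α ^ n) ⟨t, hTR t.2⟩ : R) : Ω) := by
    intro n
    induction n with
    | zero => intro t; rfl
    | succ n ih =>
      intro t
      rw [pow_succ', pow_succ', MulAut.mul_apply, MulAut.mul_apply]
      have h1 : (⟨(((β ^ n) t : T) : Ω), hTR ((β ^ n) t).2⟩ : R) = (α ^ n) ⟨t, hTR t.2⟩ := Subtype.ext (ih t)
      rw [hβ, h1]
  apply orderOf_dvd_of_pow_eq_one
  ext t
  rw [hpow, pow_orderOf_eq_one]
  rfl

variable [Finite S] [Fact p.Prime] (hS : IsPGroup p S) (hF : F.IsSaturated p)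
  (hT : F.StronglyClosed T) (X : Subgroup (MulAut T)) (hXinn : Inn T ≤ X)
  (hXn : ∀ β ∈ F.autGroup T, ∀ ξ ∈ X, β * ξ * β⁻¹ ∈ X)

omit [Finite S] [Fact p.Prime] in
include hT hXinn in
/-- `T` acts on itself through `Inn(T)`. -/
theorem le_actSub : T ≤ actSub S T X := by
  intro t ht
  refine ⟨hT.1 ht, MulAut.conj (⟨t, ht⟩ : T), hXinn ⟨_, rfl⟩, fun u => rfl⟩

include hS hF hT hXinn hXn in
/-- **The elements of `S` acting on `T` through a normal subgroup of `Aut_F(T)` form a strongly closed subgroup.** -/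
theorem actSub_stronglyClosed : F.StronglyClosed (actSub S T X) := by
  have hTS := hT.1
  refine stronglyClosed_of_aut_le F hT hS hF (fun _ h => h.1) (le_actSub F hT X hXinn) ?_ ?_
  · rintro s hs x ⟨hx, ξ, hξ, hξt⟩
    have hsN := StronglyClosed.le_normalizer F hT hs
    have hc := autInducedBy_le_autGroup F hTS (normAct_mem_autInducedBy S T hsN hs)
    refine ⟨S.mul_mem (S.mul_mem hs hx) (S.inv_mem hs), _, hXn _ hc ξ hξ, fun t => ?_⟩
    rw [MulAut.mul_apply, MulAut.mul_apply, normAct_apply, hξt]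
    have h1 := normAct_apply T hsN ((normAct T hsN)⁻¹ t)
    rw [MulAut.apply_inv_self] at h1
    have h2 : (((normAct T hsN)⁻¹ t : T) : Ω) = s⁻¹ * t * s := by
      rw [h1]
      group
    rw [h2]
    group
  · rintro R hTR hRS α hα x ⟨hx, ξ, hξ, hξt⟩
    obtain ⟨β, hβ, hβt, -⟩ := exists_restrict F hT hRS hTR hα
    refine ⟨hRS (α x).2, _, hXn β hβ ξ hξ, fun t => ?_⟩
    rw [MulAut.mul_apply, MulAut.mul_apply, hβt]
    have h1 := hβt (β⁻¹ t)
    rw [MulAut.apply_inv_self] at h1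
    -- `ξ (β⁻¹ t) = x (β⁻¹ t) x⁻¹`
    have h2 : (⟨((ξ (β⁻¹ t) : T) : Ω), hTR (ξ (β⁻¹ t)).2⟩ : R) = x * ⟨((β⁻¹ t : T) : Ω), hTR (β⁻¹ t).2⟩ * x⁻¹ :=
      Subtype.ext (hξt _)
    rw [h2, map_mul, map_mul, map_inv]
    simp only [Subgroup.coe_mul, Subgroup.coe_inv]
    rw [← h1]

include hS hF hT hXinn hXn in
/-- **S5198**, in general form: `[P, O^p(Aut_F(P))]` acts on `T` through `X`, if `X` contains `O^p(Aut_F(T))`. -/
theorem hyp_le_actSub (hXp : (pResidual p (F.autGroup T)).map (F.autGroup T).subtype ≤ X) :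
    F.hyperfocalSubgroup p ≤ actSub S T X := by
  have hTS := hT.1
  have hKc := actSub_stronglyClosed F hS hF hT X hXinn hXn
  have hTK := le_actSub F hT X hXinn
  set K := actSub S T X with hK
  -- the statement on `P`
  have main : ∀ (n : ℕ) (P : Subgroup Ω), Nat.card S - Nat.card P = n → P ≤ S →
      ∀ τ : F.autGroup P, τ ∈ pResidual p (F.autGroup P) → ∀ x : P,
        (x : Ω)⁻¹ * (((τ : MulAut P) x : P) : Ω) ∈ K := by
    intro n
    induction n using Nat.strong_induction_on with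
    | _ n ih =>
    intro P hn hPS
    have hcardP := card_le_of_le_finite hPS
    have hbig : ∀ Y : Subgroup Ω, Nat.card P < Nat.card Y → Y ≤ S →
        ∀ τ : F.autGroup Y, τ ∈ pResidual p (F.autGroup Y) → ∀ x : Y,
        (x : Ω)⁻¹ * (((τ : MulAut Y) x : Y) : Ω) ∈ K := by
      intro Y hY hYS
      have := card_le_of_le_finite hYS
      exact ih _ (by omega) Y rfl hYS
    obtain ⟨R, hPR, hRn⟩ := exists_isFullyNormalized F hPS
    have hRS := hRn.1
    have hcard : Nat.card P = Nat.card R := isConj_card_eq F hPR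
    -- step A
    have stepA : ∀ τ : F.autGroup R, τ ∈ pResidual p (F.autGroup R) → ∀ x : R,
        (x : Ω)⁻¹ * (((τ : MulAut R) x : R) : Ω) ∈ K := by
      intro τ hτ
      induction hτ using Subgroup.closure_induction with
      | mem a ha =>
        intro x
        have hac : (orderOf (a : MulAut R)).Coprime p := by
          rw [Subgroup.orderOf_coe]
          exact ha
        by_cases hTR : T ≤ R
        · obtain ⟨β, hβ, hβt, hβo⟩ := exists_restrict F hT hRS hTR a.2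
          have hβc : (orderOf β).Coprime p := Nat.Coprime.coprime_dvd_left hβo hac
          have hβX : β ∈ X := hXp ⟨⟨β, hβ⟩, mem_pResidual_of_coprime (by rwa [Subgroup.orderOf_mk]), rfl⟩
          have hxN : (x : Ω) ∈ Subgroup.normalizer (T : Set Ω) :=
            StronglyClosed.le_normalizer F hT (hRS x.2)
          have hc := autInducedBy_le_autGroup F hTS (normAct_mem_autInducedBy S T hxN (hRS x.2))
          let c : MulAut T := normAct T hxN
          have h1 : c⁻¹ * β * c⁻¹⁻¹ ∈ X := hXn _ (inv_mem hc) β hβX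
          rw [inv_inv] at h1
          refine ⟨S.mul_mem (S.inv_mem (hRS x.2)) (hRS ((a : MulAut R) x).2),
            c⁻¹ * β * c * β⁻¹, X.mul_mem h1 (X.inv_mem hβX), fun t => ?_⟩
          have hcinv : ∀ u : T, ((c⁻¹ u : T) : Ω) = (x : Ω)⁻¹ * u * x := by
            intro u
            have h2 := normAct_apply T hxN (c⁻¹ u)
            have h3 : normAct T hxN (c⁻¹ u) = u := MulAut.apply_inv_self _ _ _
            rw [h3] at h2
            rw [h2]
            group
          simp only [MulAut.mul_apply]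
          rw [hcinv, hβt]
          -- `c (β⁻¹ t) = x (β⁻¹ t) x⁻¹`
          have h4 : (⟨((c (β⁻¹ t) : T) : Ω), hTR (c (β⁻¹ t)).2⟩ : R) =
              x * ⟨((β⁻¹ t : T) : Ω), hTR (β⁻¹ t).2⟩ * x⁻¹ := Subtype.ext (normAct_apply T hxN _)
          rw [h4, map_mul, map_mul, map_inv]
          have h5 := hβt (β⁻¹ t)
          rw [MulAut.apply_inv_self] at h5
          simp only [Subgroup.coe_mul, Subgroup.coe_inv]
          rw [← h5]
          group
        · obtain ⟨n', k, Y, hRY, γ, hYS, -, hk, e, hγ, hγc, hγn⟩ :=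
            exists_factor_ext_coprime F hT hS hF hRn hTR a.2 hac
          have hcardY : Nat.card P < Nat.card Y := by
            rw [hcard]
            by_contra hcon
            have := finite_of_le hYS
            exact lt_irrefl _ (hRY.trans_eq (Subgroup.eq_of_le_of_card_ge hRY.le (not_lt.1 hcon)).symm)
          have h1 := hbig Y hcardY hYS ⟨γ, hγ⟩ (mem_pResidual_of_coprime (by rwa [Subgroup.orderOf_mk]))
            ⟨(k x : R), hRY.le (k x).2⟩
          have h2 : (x : Ω)⁻¹ * ((k x : R) : Ω) ∈ K := hTK (hk.2 x)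
          have h3 := K.mul_mem h2 h1
          have h4 : ((γ ⟨(k x : R), hRY.le (k x).2⟩ : Y) : Ω) = ((n' (k x) : R) : Ω) := hγn (k x)
          have h5 : (((a : MulAut R) x : R) : Ω) = ((n' (k x) : R) : Ω) := by
            rw [e]
            rfl
          rw [h5, ← h4]
          have h6 : (x : Ω)⁻¹ * ((k x : R) : Ω) * (((k x : R) : Ω)⁻¹ * ((γ ⟨(k x : R), hRY.le (k x).2⟩ : Y) : Ω)) =
              (x : Ω)⁻¹ * ((γ ⟨(k x : R), hRY.le (k x).2⟩ : Y) : Ω) := by group
          rwa [h6] at h3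
      | one =>
        intro x
        simp
      | mul a b _ _ ha hb =>
        intro y
        have h1 := Subgroup.mul_mem _ (hb y) (ha ((b : MulAut R) y))
        have e : (y : Ω)⁻¹ * (((a * b : F.autGroup R) : MulAut R) y : R) =
            (y : Ω)⁻¹ * (((b : MulAut R) y : R) : Ω) * ((((b : MulAut R) y : R) : Ω)⁻¹ * (((a : MulAut R) ((b : MulAut R) y) : R) : Ω)) := by
          show _ = _
          simp [MulAut.mul_apply, mul_assoc]
        rw [e]
        exact h1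
      | inv a _ ha =>
        intro y
        have h1 := Subgroup.inv_mem _ (ha ((a : MulAut R)⁻¹ y))
        have e : ((((a : MulAut R) ((a : MulAut R)⁻¹ y) : R) : Ω)) = y := by
          rw [MulAut.apply_inv_self]
        rw [e] at h1
        simpa using h1
    -- step B
    intro τ hτ x
    obtain ⟨e, he⟩ := (isConj_iff F).1 hPR
    have hle : (F.autGroup P).map (MulAut.congr e).toMonoidHom ≤ F.autGroup R := (map_congr_autGroup F he).le
    let f : F.autGroup P →* F.autGroup R :=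
      ((MulAut.congr e).toMonoidHom.comp (F.autGroup P).subtype).codRestrict _ (fun a => hle ⟨a, a.2, rfl⟩)
    have hfτ : f τ ∈ pResidual p (F.autGroup R) := map_pResidual_le f ⟨τ, hτ, rfl⟩
    have h1 := stepA (f τ) hfτ (e x)
    have h2 : (((f τ : F.autGroup R) : MulAut R) (e x) : R) = e ((τ : MulAut P) x) := by
      show e ((τ : MulAut P) (e.symm (e x))) = _
      rw [MulEquiv.symm_apply_apply]
    rw [h2] at h1
    -- transport back with `e⁻¹`
    have hle2 : R ⊓ K ≤ R := inf_le_left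
    have hm : (isoHom e.symm).comp (Subgroup.inclusion hle2) ∈ F.Hom (R ⊓ K) :=
      restrict_mem F hle2 (isoHom_symm_mem F he)
    have hmem : ((e (x⁻¹ * (τ : MulAut P) x) : R) : Ω) ∈ R ⊓ K := by
      refine ⟨Subtype.property _, ?_⟩
      rw [map_mul, map_inv]
      exact h1
    have h3 := hKc.2 (R ⊓ K) inf_le_right _ hm ⟨_, hmem⟩
    have h4 : (isoHom e.symm).comp (Subgroup.inclusion hle2) ⟨_, hmem⟩ = ((x⁻¹ * (τ : MulAut P) x : P) : Ω) := by
      show ((e.symm (e (x⁻¹ * (τ : MulAut P) x)) : P) : Ω) = _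
      rw [MulEquiv.symm_apply_apply]
    rw [h4] at h3
    exact h3
  apply (Subgroup.closure_le _).2
  rintro _ ⟨P, τ, x, hP, hτ, rfl⟩
  exact main _ P rfl hP τ hτ x

end act

end Cfsg.Agent.Lib.FusionTheory.StrongAct
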