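import Cfsg.Agent.Lib.FusionTheory.Transvect
import Cfsg.Agent.Lib.PGroups.Critical

/-!
# Groups of automorphisms generated by transvections with a Sylow subgroup of prime order

`V` is an abelian `p`-group, `A ≤ Aut(V)` has all its `p`-subgroups of order at most `p`, and `t ∈ A` is a transvection
with centre `Z` of order `p`.  If `t` does not generate a normal subgroup of `A`, then `V = V₁ × C` with `V₁` of exponent
`p` generated by two centres, `C` fixed by all conjugates of `t`.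
-/

set_option autoImplicit false
set_option linter.unusedSectionVars false
set_option linter.unusedVariables false

namespace Cfsg.Agent.Lib.FusionTheory.TransPair

open Cfsg.Agent.Lib.FusionTheory.Transvect

section generalities

variable {V : Type*} [Group V]

/-- The fixed points of an automorphism. -/
def fixS (τ : MulAut V) : Subgroup V where
  carrier := {v | τ v = v}
  mul_mem' := fun {a b} ha hb => by
    show τ (a * b) = a * b
    rw [map_mul, show τ a = a from ha, show τ b = b from hb]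
  one_mem' := map_one _
  inv_mem' := fun {a} ha => by
    show τ a⁻¹ = a⁻¹
    rw [map_inv, show τ a = a from ha]

theorem mem_fixS {τ : MulAut V} {v : V} : v ∈ fixS τ ↔ τ v = v := Iff.rfl

/-- For abelian `V`, the map `v ↦ v⁻¹ τ(v)` is a homomorphism. -/
def del (hab : ∀ a b : V, a * b = b * a) (τ : MulAut V) : V →* V where
  toFun v := v⁻¹ * τ v
  map_one' := by simp
  map_mul' a b := by
    have h := hab b⁻¹ (a⁻¹ * τ a)
    calc (a * b)⁻¹ * τ (a * b) = b⁻¹ * (a⁻¹ * τ a) * τ b := by rw [map_mul]; group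
      _ = (a⁻¹ * τ a) * b⁻¹ * τ b := by rw [h]
      _ = _ := by group

theorem del_apply (hab : ∀ a b : V, a * b = b * a) (τ : MulAut V) (v : V) : del hab τ v = v⁻¹ * τ v := rfl

theorem del_eq_one_iff (hab : ∀ a b : V, a * b = b * a) (τ : MulAut V) (v : V) : del hab τ v = 1 ↔ τ v = v := by
  rw [del_apply, inv_mul_eq_one]
  exact eq_comm

theorem hzpow {p : ℕ} [hp : Fact p.Prime] (Z₀ : Subgroup V) (h : Nat.card Z₀ = p) {c a : V} (hc : c ∈ Z₀) (hc1 : c ≠ 1)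
    (ha : a ∈ Z₀) : a ∈ Subgroup.zpowers c := by
  have : Finite Z₀ := Nat.finite_of_card_ne_zero (by rw [h]; exact hp.out.ne_zero)
  have hle : Subgroup.zpowers c ≤ Z₀ := by
    rw [Subgroup.zpowers_le]
    exact hc
  have hd : Nat.card (Subgroup.zpowers c) ∣ p := by
    rw [← h]
    exact Subgroup.card_dvd_of_le hle
  have h1 : Nat.card (Subgroup.zpowers c) ≠ 1 := by
    intro h1
    rw [Subgroup.card_eq_one] at h1
    exact hc1 (Subgroup.zpowers_eq_bot.1 h1)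
  have h2 : Nat.card (Subgroup.zpowers c) = p := ((Nat.dvd_prime hp.out).1 hd).resolve_left h1
  have e : Subgroup.zpowers c = Z₀ := Subgroup.eq_of_le_of_card_ge hle (by rw [h, h2])
  rw [e]
  exact ha

theorem exists_pow_of_card {p : ℕ} [hp : Fact p.Prime] (Z₀ : Subgroup V) (h : Nat.card Z₀ = p) {c a : V} (hc : c ∈ Z₀)
    (hc1 : c ≠ 1) (ha : a ∈ Z₀) : ∃ k : ℕ, a = c ^ k := by
  have hm := hzpow Z₀ h hc hc1 ha
  have : Finite Z₀ := Nat.finite_of_card_ne_zero (by rw [h]; exact hp.out.ne_zero)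
  have hfo : IsOfFinOrder c := by
    refine isOfFinOrder_iff_pow_eq_one.2 ⟨Nat.card Z₀, Nat.card_pos, ?_⟩
    have h1 : (⟨c, hc⟩ : Z₀) ^ Nat.card Z₀ = 1 := pow_card_eq_one'
    exact congrArg Subtype.val h1
  rw [← hfo.mem_powers_iff_mem_zpowers, Submonoid.mem_powers_iff] at hm
  obtain ⟨k, hk⟩ := hm
  exact ⟨k, hk.symm⟩

theorem pow_fix {τ : MulAut V} {v : V} (h : τ v = v) (k : ℕ) : (τ ^ k) v = v := by
  induction k with
  | zero => simp
  | succ n ih => rw [pow_succ', MulAut.mul_apply, ih, h]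

theorem card_map_aut (Z₀ : Subgroup V) (g : MulAut V) : Nat.card (Z₀.map g.toMonoidHom) = Nat.card Z₀ :=
  Nat.card_congr (Subgroup.equivMapOfInjective Z₀ g.toMonoidHom g.injective).symm.toEquiv

end generalities

variable {V : Type*} [Group V] [Finite V] {p : ℕ} [hp : Fact p.Prime]

/-- The hypotheses: `t` is a transvection with centre `Z` of order `p`, `A`'s `p`-subgroups have order at most `p`. -/
structure Pair (p : ℕ) (A : Subgroup (MulAut V)) (Z : Subgroup V) (t : MulAut V) : Prop where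
  hV : IsPGroup p V
  hab : ∀ a b : V, a * b = b * a
  hA : ∀ D : Subgroup (MulAut V), D ≤ A → IsPGroup p D → Nat.card D ≤ p
  hZ : Nat.card Z = p
  htA : t ∈ A
  hfix : ∀ z ∈ Z, t z = z
  hact : ∀ v, v⁻¹ * t v ∈ Z
  hne : t ≠ 1

variable {A : Subgroup (MulAut V)} {Z : Subgroup V} {t : MulAut V}

theorem Pair.pow_eq_one (P : Pair p A Z t) : t ^ p = 1 := by
  ext v
  have h1 := Cfsg.Agent.Lib.PGroups.Critical.pow_apply_of_fixed t (P.hfix _ (P.hact v)) (g := v) (by group) p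
  rw [h1]
  have h2 : (v⁻¹ * t v) ^ p = 1 := by
    have h3 : (⟨_, P.hact v⟩ : Z) ^ Nat.card Z = 1 := pow_card_eq_one'
    rw [P.hZ] at h3
    exact congrArg Subtype.val h3
  rw [h2, mul_one]
  rfl

theorem Pair.orderOf_conj (P : Pair p A Z t) (g : MulAut V) : orderOf (g * t * g⁻¹) = p := by
  refine orderOf_eq_prime ?_ ?_
  · rw [conj_pow, P.pow_eq_one]
    group
  · intro h
    apply P.hne
    have : g⁻¹ * (g * t * g⁻¹) * g = t := by group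
    rw [← this, h]
    group

theorem Pair.card_zpowers (P : Pair p A Z t) (g : MulAut V) : Nat.card (Subgroup.zpowers (g * t * g⁻¹)) = p := by
  rw [Nat.card_zpowers, P.orderOf_conj]

theorem Pair.conj_mem (P : Pair p A Z t) {g : MulAut V} (hg : g ∈ A) : g * t * g⁻¹ ∈ A :=
  A.mul_mem (A.mul_mem hg P.htA) (A.inv_mem hg)

theorem Pair.eq_zpowers (P : Pair p A Z t) {D : Subgroup (MulAut V)} (hD : D ≤ A) (hDp : IsPGroup p D) {g : MulAut V}
    (hτ : g * t * g⁻¹ ∈ D) : Subgroup.zpowers (g * t * g⁻¹) = D := by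
  have : Finite (MulAut V) := Cfsg.Agent.Lib.Fusion.Basic.finite_mulAut_of_finite (A := V)
  refine Subgroup.eq_of_le_of_card_ge ?_ ?_
  · rw [Subgroup.zpowers_le]
    exact hτ
  · rw [P.card_zpowers]
    exact P.hA D hD hDp

theorem Pair.conj_fix (P : Pair p A Z t) (g : MulAut V) {z : V} (hz : z ∈ Z) : (g * t * g⁻¹) (g z) = g z := by
  simp only [MulAut.mul_apply]
  rw [show g⁻¹ (g z) = z by simp, P.hfix z hz]

theorem Pair.conj_act (P : Pair p A Z t) (g : MulAut V) (v : V) : v⁻¹ * (g * t * g⁻¹) v ∈ Z.map g.toMonoidHom := by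
  refine ⟨_, P.hact (g⁻¹ v), ?_⟩
  simp only [MulAut.mul_apply, MulEquiv.coe_toMonoidHom]
  rw [map_mul, map_inv, MulAut.apply_inv_self]

theorem Pair.conj_fix_all (P : Pair p A Z t) (g : MulAut V) {w : V} (hw : w ∈ Z.map g.toMonoidHom) :
    (g * t * g⁻¹) w = w := by
  obtain ⟨z, hz, rfl⟩ := hw
  exact P.conj_fix g hz

theorem Pair.mem_chainStab (P : Pair p A Z t) {g : MulAut V} (hg : g ∈ A) :
    g * t * g⁻¹ ∈ chainStab A (Z.map g.toMonoidHom) :=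
  ⟨P.conj_mem hg, fun w hw => P.conj_fix_all g hw, fun v => P.conj_act g v⟩

/-- **Fixing the centre of another conjugate forces equality of the cyclic groups.** -/
theorem Pair.conj_mem_zpowers (P : Pair p A Z t) {g₁ g₂ : MulAut V} (hg₁ : g₁ ∈ A) (hg₂ : g₂ ∈ A)
    (h : ∀ z ∈ Z, (g₁ * t * g₁⁻¹) (g₂ z) = g₂ z) : g₂ * t * g₂⁻¹ ∈ Subgroup.zpowers (g₁ * t * g₁⁻¹) := by
  have : Finite (MulAut V) := Cfsg.Agent.Lib.Fusion.Basic.finite_mulAut_of_finite (A := V)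
  let V₁ : Subgroup V := Z.map g₁.toMonoidHom ⊔ Z.map g₂.toMonoidHom
  let D : Subgroup (MulAut V) := chainStab A V₁
  have hDp : IsPGroup p D := isPGroup_chainStab P.hV _ _
  have hτ₁ : g₁ * t * g₁⁻¹ ∈ D := by
    refine ⟨P.conj_mem hg₁, fun w hw => ?_, fun v => Subgroup.mem_sup_left (P.conj_act g₁ v)⟩
    have hle : V₁ ≤ fixS (g₁ * t * g₁⁻¹) := sup_le (fun w hw => P.conj_fix_all g₁ hw) (by
      rintro _ ⟨z, hz, rfl⟩
      exact h z hz)
    exact hle hw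
  have h1 : ∀ v, v⁻¹ * (g₂ * t * g₂⁻¹) v ∈ V₁ := fun v => Subgroup.mem_sup_right (P.conj_act g₂ v)
  have h2 : ∀ v, v⁻¹ * (g₂ * t * g₂⁻¹)⁻¹ v ∈ V₁ := by
    intro v
    have h3 := V₁.inv_mem (h1 ((g₂ * t * g₂⁻¹)⁻¹ v))
    rw [MulAut.apply_inv_self] at h3
    have e : ((((g₂ * t * g₂⁻¹)⁻¹ v))⁻¹ * v)⁻¹ = v⁻¹ * (g₂ * t * g₂⁻¹)⁻¹ v := by group
    rwa [e] at h3
  have hn : Subgroup.zpowers (g₂ * t * g₂⁻¹) ≤ Subgroup.normalizer (D : Set (MulAut V)) := by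
    rw [Subgroup.zpowers_le]
    refine Cfsg.Agent.Lib.FusionExt.NormalSubgroup.mem_normalizer_of_conj_le fun τ hτ => ?_
    exact chainStab_conj (P.conj_mem hg₂) h1 h2 hτ
  have hzp : IsPGroup p (Subgroup.zpowers (g₂ * t * g₂⁻¹)) := IsPGroup.of_card (n := 1) (by
    rw [P.card_zpowers, pow_one])
  have hsup : IsPGroup p ((Subgroup.zpowers (g₂ * t * g₂⁻¹) ⊔ D : Subgroup (MulAut V))) :=
    IsPGroup.to_sup_of_normal_right' hzp hDp hn
  have hle : (Subgroup.zpowers (g₂ * t * g₂⁻¹) ⊔ D : Subgroup (MulAut V)) ≤ A := by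
    refine sup_le ?_ (fun τ hτ => hτ.1)
    rw [Subgroup.zpowers_le]
    exact P.conj_mem hg₂
  have e := P.eq_zpowers hle hsup (g := g₁) (Subgroup.mem_sup_right hτ₁)
  rw [e]
  exact Subgroup.mem_sup_left (Subgroup.mem_zpowers _)

theorem Pair.zpowers_eq (P : Pair p A Z t) {g₁ g₂ : MulAut V}
    (h : g₂ * t * g₂⁻¹ ∈ Subgroup.zpowers (g₁ * t * g₁⁻¹)) :
    Subgroup.zpowers (g₂ * t * g₂⁻¹) = Subgroup.zpowers (g₁ * t * g₁⁻¹) := by
  have : Finite (MulAut V) := Cfsg.Agent.Lib.Fusion.Basic.finite_mulAut_of_finite (A := V)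
  refine Subgroup.eq_of_le_of_card_ge ?_ ?_
  · rw [Subgroup.zpowers_le]
    exact h
  · rw [P.card_zpowers, P.card_zpowers]

/-- Conjugates generating the same cyclic group have the same centre. -/
theorem Pair.same_center (P : Pair p A Z t) {g₁ g₂ : MulAut V} (hg₁ : g₁ ∈ A)
    (h : g₂ * t * g₂⁻¹ ∈ Subgroup.zpowers (g₁ * t * g₁⁻¹)) :
    Z.map g₂.toMonoidHom = Z.map g₁.toMonoidHom := by
  have h1 : g₂ * t * g₂⁻¹ ∈ chainStab A (Z.map g₁.toMonoidHom) :=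
    (Subgroup.zpowers_le.2 (P.mem_chainStab hg₁)) h
  have hne : g₂ * t * g₂⁻¹ ≠ 1 := by
    intro h0
    have := P.orderOf_conj g₂
    rw [h0, orderOf_one] at this
    exact hp.out.ne_one this.symm
  obtain ⟨v, hv⟩ : ∃ v, (g₂ * t * g₂⁻¹) v ≠ v := by
    by_contra hno
    push Not at hno
    exact hne (MulEquiv.ext hno)
  have he₁ := h1.2.2 v
  have he₂ := P.conj_act g₂ v
  have hene : v⁻¹ * (g₂ * t * g₂⁻¹) v ≠ 1 := by
    intro h0
    exact hv (inv_mul_eq_one.1 h0).symm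
  have hc₁ : Nat.card (Z.map g₁.toMonoidHom) = p := by rw [card_map_aut, P.hZ]
  have hc₂ : Nat.card (Z.map g₂.toMonoidHom) = p := by rw [card_map_aut, P.hZ]
  have key : ∀ (X : Subgroup V), Nat.card X = p → (v⁻¹ * (g₂ * t * g₂⁻¹) v) ∈ X →
      X = Subgroup.zpowers (v⁻¹ * (g₂ * t * g₂⁻¹) v) := by
    intro X hX hm
    refine le_antisymm (fun a ha => hzpow X hX hm hene ha) ?_
    rw [Subgroup.zpowers_le]
    exact hm
  rw [key _ hc₁ he₁, key _ hc₂ he₂]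

/-- The output of the analysis. -/
structure Decomp (p : ℕ) (A : Subgroup (MulAut V)) (Z : Subgroup V) (t : MulAut V) (V₁ C : Subgroup V) (a : V) : Prop where
  /-- `V = V₁ C`. -/
  split : ∀ v, ∃ w ∈ V₁, ∃ c ∈ C, v = w * c
  /-- `C_V(t) = Z C`. -/
  fix_split : ∀ y, t y = y → ∃ z ∈ Z, ∃ c ∈ C, y = z * c
  inter : ∀ c ∈ C, c ∈ Z → c = 1
  le_fix : ∀ c ∈ C, t c = c
  inv_C : ∀ g ∈ A, ∀ c ∈ C, g c ∈ C
  inv_V : ∀ g ∈ A, ∀ w ∈ V₁, g w ∈ V₁
  exp_V : ∀ w ∈ V₁, w ^ p = 1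
  Z_le : Z ≤ V₁
  frattini : ∀ g ∈ A, ∃ l ∈ A, (∀ c ∈ C, l c = c) ∧ (l⁻¹ * g) * t * (l⁻¹ * g)⁻¹ ∈ Subgroup.zpowers t
  torus : ∃ α ∈ A, (∀ c ∈ C, α c = c) ∧ (∀ z ∈ Z, α z = z⁻¹) ∧ α * t * α⁻¹ ∈ Subgroup.zpowers t
  a_mem : a ∈ V₁
  a_ne : t a ≠ a
  a_split : ∀ v, ∃ m : ℕ, ∃ y, t y = y ∧ v = a ^ m * y
  a_gen : ∀ w ∈ V₁, ∃ m : ℕ, ∃ z ∈ Z, w = a ^ m * z

/-- **The analysis.** -/
theorem Pair.exists_decomp (P : Pair p A Z t) {g₀ : MulAut V} (hg₀ : g₀ ∈ A)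
    (hg₀t : g₀ * t * g₀⁻¹ ∉ Subgroup.zpowers t) : ∃ (V₁ C : Subgroup V) (a : V), Decomp p A Z t V₁ C a := by
  classical
  have hpp := hp.out
  have hab := P.hab
  have : Finite (MulAut V) := Cfsg.Agent.Lib.Fusion.Basic.finite_mulAut_of_finite (A := V)
  have e1 : (1 : MulAut V) * t * 1⁻¹ = t := by group
  have hone : (1 : MulAut V) ∈ A := A.one_mem
  obtain ⟨t', ht'⟩ : ∃ t' : MulAut V, t' = g₀ * t * g₀⁻¹ := ⟨_, rfl⟩
  rw [← ht'] at hg₀t
  have ht'A : t' ∈ A := ht' ▸ P.conj_mem hg₀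
  obtain ⟨Z', hZ'⟩ : ∃ Z' : Subgroup V, Z' = Z.map g₀.toMonoidHom := ⟨_, rfl⟩
  have hZ'c : Nat.card Z' = p := by rw [hZ', card_map_aut, P.hZ]
  have ht'fix : ∀ w ∈ Z', t' w = w := fun w hw => by
    rw [ht']
    exact P.conj_fix_all g₀ (hZ' ▸ hw)
  have ht'act : ∀ v, v⁻¹ * t' v ∈ Z' := fun v => by
    rw [ht', hZ']
    exact P.conj_act g₀ v
  -- choose generators
  have : Nontrivial Z := Finite.one_lt_card_iff_nontrivial.1 (by rw [P.hZ]; exact hpp.one_lt)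
  obtain ⟨z₀', hz₀'⟩ := exists_ne (1 : Z)
  obtain ⟨z₀, hz₀def⟩ : ∃ z₀ : V, z₀ = (z₀' : V) := ⟨_, rfl⟩
  have hz₀Z : z₀ ∈ Z := hz₀def ▸ z₀'.2
  have hz₀1 : z₀ ≠ 1 := fun h => hz₀' (Subtype.ext (hz₀def ▸ h))
  obtain ⟨z', hz'def⟩ : ∃ z' : V, z' = g₀ z₀ := ⟨_, rfl⟩
  have hz'Z' : z' ∈ Z' := hZ' ▸ ⟨z₀, hz₀Z, hz'def.symm⟩
  have hz'1 : z' ≠ 1 := fun h => hz₀1 (by simpa [hz'def] using h)
  have hgenZ' : ∀ w ∈ Z', ∃ k : ℕ, w = z' ^ k := fun w hw => exists_pow_of_card Z' hZ'c hz'Z' hz'1 hw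
  have htz' : t z' ≠ z' := by
    intro h
    apply hg₀t
    have := P.conj_mem_zpowers (g₁ := 1) (g₂ := g₀) hone hg₀ (fun z hz => by
      rw [e1]
      obtain ⟨k, hk⟩ := hgenZ' (g₀ z) (hZ' ▸ ⟨z, hz, rfl⟩)
      rw [hk, map_pow, h])
    rwa [e1, ← ht'] at this
  obtain ⟨z₁, hz₁def⟩ : ∃ z₁ : V, z₁ = z'⁻¹ * t z' := ⟨_, rfl⟩
  have hz₁Z : z₁ ∈ Z := hz₁def ▸ P.hact z'
  have hz₁1 : z₁ ≠ 1 := fun h => htz' (inv_mul_eq_one.1 (hz₁def ▸ h)).symm
  have htz₁ : t z₁ = z₁ := P.hfix _ hz₁Z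
  have htz'2 : t z' = z' * z₁ := by rw [hz₁def]; group
  have hgenZ : ∀ w ∈ Z, ∃ k : ℕ, w = z₁ ^ k := fun w hw => exists_pow_of_card Z P.hZ hz₁Z hz₁1 hw
  have ht'z₁ : t' z₁ ≠ z₁ := by
    intro h
    apply hg₀t
    have h2 := P.conj_mem_zpowers (g₁ := g₀) (g₂ := 1) hg₀ hone (fun z hz => by
      obtain ⟨k, hk⟩ := hgenZ z hz
      rw [← ht']
      show t' ((1 : MulAut V) z) = (1 : MulAut V) z
      rw [MulAut.one_apply, hk, map_pow, h])
    -- `t ∈ ⟨t'⟩`, so the groups coincide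
    have h3 := P.zpowers_eq h2
    rw [e1, ← ht'] at h3
    rw [h3]
    exact Subgroup.mem_zpowers _
  obtain ⟨z₂, hz₂def⟩ : ∃ z₂ : V, z₂ = z₁⁻¹ * t' z₁ := ⟨_, rfl⟩
  have hz₂Z' : z₂ ∈ Z' := hz₂def ▸ ht'act z₁
  have hz₂1 : z₂ ≠ 1 := fun h => ht'z₁ (inv_mul_eq_one.1 (hz₂def ▸ h)).symm
  have ht'z₂ : t' z₂ = z₂ := ht'fix _ hz₂Z'
  have ht'z₁2 : t' z₁ = z₁ * z₂ := by rw [hz₂def]; group
  have ht'z' : t' z' = z' := ht'fix _ hz'Z'
  -- the elementary transvections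
  obtain ⟨k, hk⟩ := exists_pow_of_card Z' hZ'c hz₂Z' hz₂1 (Z'.inv_mem hz'Z')
  obtain ⟨u', hu'⟩ : ∃ u' : MulAut V, u' = t' ^ k := ⟨_, rfl⟩
  have hu'A : u' ∈ A := hu' ▸ A.pow_mem ht'A k
  have hu'z₁ : u' z₁ = z₁ * z'⁻¹ := by
    rw [hu', Cfsg.Agent.Lib.PGroups.Critical.pow_apply_of_fixed t' ht'z₂ ht'z₁2 k, ← hk]
  have hu'z' : u' z' = z' := hu' ▸ pow_fix ht'z' k
  -- the Weyl element
  obtain ⟨w, hw⟩ : ∃ w : MulAut V, w = t * u' * t := ⟨_, rfl⟩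
  have hwA : w ∈ A := hw ▸ A.mul_mem (A.mul_mem P.htA hu'A) P.htA
  have hwz₁ : w z₁ = z'⁻¹ := by
    rw [hw]
    show t (u' (t z₁)) = z'⁻¹
    rw [htz₁, hu'z₁, map_mul, map_inv, htz₁, htz'2, mul_inv_rev, mul_inv_cancel_left]
  have hwz' : w z' = z₁ := by
    rw [hw]
    show t (u' (t z')) = z₁
    rw [htz'2, map_mul, hu'z', hu'z₁, map_mul, map_mul, map_inv, htz₁, htz'2, ← mul_assoc, hab (z' * z₁) z₁,
      mul_inv_cancel_right]
  obtain ⟨α, hα⟩ : ∃ α : MulAut V, α = w * w := ⟨_, rfl⟩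
  have hαA : α ∈ A := hα ▸ A.mul_mem hwA hwA
  have hαz₁ : α z₁ = z₁⁻¹ := by
    rw [hα]
    show w (w z₁) = z₁⁻¹
    rw [hwz₁, map_inv, hwz']
  -- the complement
  obtain ⟨C, hC⟩ : ∃ C : Subgroup V, C = fixS t ⊓ fixS t' := ⟨_, rfl⟩
  have hCt : ∀ c ∈ C, t c = c := fun c hc => (hC ▸ hc : c ∈ fixS t ⊓ fixS t').1
  have hCt' : ∀ c ∈ C, t' c = c := fun c hc => (hC ▸ hc : c ∈ fixS t ⊓ fixS t').2
  have hCmem : ∀ c, t c = c → t' c = c → c ∈ C := fun c h1 h2 => hC ▸ ⟨h1, h2⟩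
  obtain ⟨V₁, hV₁⟩ : ∃ V₁ : Subgroup V, V₁ = Z ⊔ Z' := ⟨_, rfl⟩
  have hZV : Z ≤ V₁ := hV₁ ▸ le_sup_left
  have hZ'V : Z' ≤ V₁ := hV₁ ▸ le_sup_right
  have hz₁V : z₁ ∈ V₁ := hZV hz₁Z
  have hz'V : z' ∈ V₁ := hZ'V hz'Z'
  -- the stabilizer of `C`
  let Pt : Subgroup (MulAut V) :=
    { carrier := {l | l ∈ A ∧ ∀ c ∈ C, l c = c}
      mul_mem' := by
        rintro a b ⟨ha, ha1⟩ ⟨hb, hb1⟩
        refine ⟨A.mul_mem ha hb, fun c hc => ?_⟩
        rw [MulAut.mul_apply, hb1 c hc, ha1 c hc]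
      one_mem' := ⟨A.one_mem, fun c _ => rfl⟩
      inv_mem' := by
        rintro a ⟨ha, ha1⟩
        refine ⟨A.inv_mem ha, fun c hc => ?_⟩
        calc a⁻¹ c = a⁻¹ (a c) := by rw [ha1 c hc]
          _ = c := by simp }
  have htPt : t ∈ Pt := ⟨P.htA, hCt⟩
  have ht'Pt : t' ∈ Pt := ⟨ht'A, hCt'⟩
  have hu'Pt : u' ∈ Pt := hu' ▸ Pt.pow_mem ht'Pt k
  have hwPt : w ∈ Pt := hw ▸ Pt.mul_mem (Pt.mul_mem htPt hu'Pt) htPt
  have hαPt : α ∈ Pt := hα ▸ Pt.mul_mem hwPt hwPt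
  -- the geometry
  have hgeo : ∀ g ∈ A, ∃ l ∈ Pt, Z.map g.toMonoidHom = Z.map l.toMonoidHom ∧ g * t * g⁻¹ ∈ Subgroup.zpowers (l * t * l⁻¹) ∧
      Z.map l.toMonoidHom ≤ V₁ := by
    intro g hg
    have hcZ : Nat.card (Z.map g.toMonoidHom) = p := by rw [card_map_aut, P.hZ]
    by_cases h : (g * t * g⁻¹) z₁ = z₁
    · have h2 := P.conj_mem_zpowers (g₁ := g) (g₂ := 1) hg hone (fun z hz => by
        obtain ⟨n, hn⟩ := hgenZ z hz
        show (g * t * g⁻¹) ((1 : MulAut V) z) = (1 : MulAut V) z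
        rw [MulAut.one_apply, hn, map_pow, h])
      have h3 := P.zpowers_eq h2
      refine ⟨1, Pt.one_mem, ?_, ?_, ?_⟩
      · exact (P.same_center hone (by rw [h3]; exact Subgroup.mem_zpowers _))
      · rw [h3]
        exact Subgroup.mem_zpowers _
      · rw [show (1 : MulAut V).toMonoidHom = MonoidHom.id V from rfl, Subgroup.map_id]
        exact hZV
    · -- a fixed point in `V₁`
      have hd₁ : del hab (g * t * g⁻¹) z₁ ∈ Z.map g.toMonoidHom := P.conj_act g z₁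
      have hd₁1 : del hab (g * t * g⁻¹) z₁ ≠ 1 := fun h0 => h ((del_eq_one_iff _ _ _).1 h0)
      obtain ⟨n, hn⟩ := exists_pow_of_card _ hcZ hd₁ hd₁1 (P.conj_act g z')
      have hfa : (g * t * g⁻¹) (z' * (z₁ ^ n)⁻¹) = z' * (z₁ ^ n)⁻¹ := by
        rw [← del_eq_one_iff hab, map_mul, map_inv, map_pow]
        have : del hab (g * t * g⁻¹) z' = (del hab (g * t * g⁻¹) z₁) ^ n := hn
        rw [this]
        group
      obtain ⟨i, hi⟩ := hgenZ _ (Z.inv_mem (Z.pow_mem hz₁Z n))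
      have ha : (t ^ i) z' = z' * (z₁ ^ n)⁻¹ := by
        rw [Cfsg.Agent.Lib.PGroups.Critical.pow_apply_of_fixed t htz₁ htz'2 i, hi]
      -- `l = t^i w`
      have hlPt : t ^ i * w ∈ Pt := Pt.mul_mem (Pt.pow_mem htPt i) hwPt
      have hl : (t ^ i * w) z₁⁻¹ = z' * (z₁ ^ n)⁻¹ := by
        rw [MulAut.mul_apply, map_inv, hwz₁, inv_inv, ha]
      have hlA : t ^ i * w ∈ A := hlPt.1
      have hz₁i : z₁⁻¹ ∈ Z := Z.inv_mem hz₁Z
      have hz₁i1 : z₁⁻¹ ≠ 1 := inv_ne_one.2 hz₁1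
      have hlfix : ∀ z ∈ Z, (g * t * g⁻¹) ((t ^ i * w) z) = (t ^ i * w) z := by
        intro z hz
        obtain ⟨r, hr⟩ := exists_pow_of_card Z P.hZ hz₁i hz₁i1 hz
        rw [hr, map_pow, hl, map_pow, hfa]
      have h2 := P.conj_mem_zpowers hg hlA hlfix
      have h3 := P.zpowers_eq h2
      refine ⟨t ^ i * w, hlPt, ?_, ?_, ?_⟩
      · have : g * t * g⁻¹ ∈ Subgroup.zpowers ((t ^ i * w) * t * (t ^ i * w)⁻¹) := by
          rw [h3]
          exact Subgroup.mem_zpowers _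
        exact P.same_center hlA this
      · rw [h3]
        exact Subgroup.mem_zpowers _
      · rintro _ ⟨z, hz, rfl⟩
        obtain ⟨r, hr⟩ := exists_pow_of_card Z P.hZ hz₁i hz₁i1 hz
        show (t ^ i * w) z ∈ V₁
        rw [hr, map_pow, hl]
        refine V₁.pow_mem (V₁.mul_mem hz'V (V₁.inv_mem (V₁.pow_mem hz₁V n))) r
  -- consequences
  have hconjC : ∀ g ∈ A, ∀ c ∈ C, (g * t * g⁻¹) c = c := by
    intro g hg c hc
    obtain ⟨l, hl, -, h2, -⟩ := hgeo g hg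
    have hlt : l * t * l⁻¹ ∈ Pt := Pt.mul_mem (Pt.mul_mem hl htPt) (Pt.inv_mem hl)
    exact ((Subgroup.zpowers_le.2 hlt) h2).2 c hc
  have hinvC : ∀ g ∈ A, ∀ c ∈ C, g c ∈ C := by
    intro g hg c hc
    refine hCmem _ ?_ ?_
    · have h1 := hconjC g⁻¹ (A.inv_mem hg) c hc
      calc t (g c) = g ((g⁻¹ * t * g⁻¹⁻¹) c) := by simp [MulAut.mul_apply]
        _ = g c := by rw [h1]
    · have h1 := hconjC (g⁻¹ * g₀) (A.mul_mem (A.inv_mem hg) hg₀) c hc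
      calc t' (g c) = g (((g⁻¹ * g₀) * t * (g⁻¹ * g₀)⁻¹) c) := by
            rw [ht']
            simp [MulAut.mul_apply]
        _ = g c := by rw [h1]
  have hZmapV : ∀ g ∈ A, Z.map g.toMonoidHom ≤ V₁ := by
    intro g hg
    obtain ⟨l, -, h1, -, h3⟩ := hgeo g hg
    rw [h1]
    exact h3
  have hinvV : ∀ g ∈ A, ∀ w ∈ V₁, g w ∈ V₁ := by
    intro g hg w hw
    have hle : Z ⊔ Z' ≤ V₁.comap g.toMonoidHom := by
      refine sup_le ?_ ?_
      · intro z hz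
        exact hZmapV g hg ⟨z, hz, rfl⟩
      · rw [hZ']
        rintro _ ⟨z, hz, rfl⟩
        exact hZmapV (g * g₀) (A.mul_mem hg hg₀) ⟨z, hz, rfl⟩
    exact hle (hV₁ ▸ hw)
  -- exponent
  have hexpZ : ∀ (X : Subgroup V), Nat.card X = p → ∀ w ∈ X, w ^ p = 1 := by
    intro X hX w hw
    have h3 : (⟨w, hw⟩ : X) ^ Nat.card X = 1 := pow_card_eq_one'
    rw [hX] at h3
    exact congrArg Subtype.val h3
  let powH : V →* V :=
    { toFun := fun v => v ^ p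
      map_one' := one_pow _
      map_mul' := fun a b => (Commute.mul_pow (hab a b) p) }
  have hexp : ∀ w ∈ V₁, w ^ p = 1 := by
    intro w hw
    have hle : V₁ ≤ powH.ker := by
      rw [hV₁]
      exact sup_le (fun w hw => hexpZ Z P.hZ w hw) (fun w hw => hexpZ Z' hZ'c w hw)
    exact hle hw
  -- splittings
  have hsplit₁ : ∀ v, ∃ m : ℕ, ∃ y, t y = y ∧ v = z' ^ m * y := by
    intro v
    have h1 : del hab t z' = z₁ := by
      rw [del_apply, hz₁def]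
    obtain ⟨m, hm⟩ := hgenZ _ (P.hact v)
    refine ⟨m, (z' ^ m)⁻¹ * v, ?_, by group⟩
    rw [← del_eq_one_iff hab, map_mul, map_inv, map_pow, h1]
    have : del hab t v = z₁ ^ m := hm
    rw [this]
    group
  have hsplit₂ : ∀ y, t y = y → ∃ z ∈ Z, ∃ c ∈ C, y = z * c := by
    intro y hy
    have h1 : del hab t' z₁ = z₂ := by
      rw [del_apply, hz₂def]
    obtain ⟨n, hn⟩ := exists_pow_of_card Z' hZ'c hz₂Z' hz₂1 (ht'act y)
    refine ⟨z₁ ^ n, Z.pow_mem hz₁Z n, (z₁ ^ n)⁻¹ * y, ?_, by group⟩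
    refine hCmem _ ?_ ?_
    · rw [map_mul, map_inv, map_pow, htz₁, hy]
    · rw [← del_eq_one_iff hab, map_mul, map_inv, map_pow, h1]
      have : del hab t' y = z₂ ^ n := hn
      rw [this]
      group
  have hinter : ∀ c ∈ C, c ∈ Z → c = 1 := by
    intro c hc hcZ
    by_contra hc1
    apply ht'z₁
    obtain ⟨r, hr⟩ := exists_pow_of_card Z P.hZ hcZ hc1 hz₁Z
    rw [hr, map_pow, hCt' c hc]
  refine ⟨V₁, C, z', ?_⟩
  refine
    { split := ?_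
      fix_split := hsplit₂
      inter := hinter
      le_fix := hCt
      inv_C := hinvC
      inv_V := hinvV
      exp_V := hexp
      Z_le := hZV
      frattini := ?_
      torus := ?_
      a_mem := hz'V
      a_ne := htz'
      a_split := hsplit₁
      a_gen := ?_ }
  · intro v
    obtain ⟨m, y, hy, hv⟩ := hsplit₁ v
    obtain ⟨z, hz, c, hc, hyc⟩ := hsplit₂ y hy
    refine ⟨z' ^ m * z, V₁.mul_mem (V₁.pow_mem hz'V m) (hZV hz), c, hc, ?_⟩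
    rw [hv, hyc, mul_assoc]
  · intro g hg
    obtain ⟨l, hl, h1, -, -⟩ := hgeo g hg
    refine ⟨l, hl.1, hl.2, ?_⟩
    have hn : l⁻¹ * g ∈ A := A.mul_mem (A.inv_mem hl.1) hg
    have := P.conj_mem_zpowers (g₁ := 1) (g₂ := l⁻¹ * g) hone hn (fun z hz => by
      rw [e1]
      have h2 : g z ∈ Z.map l.toMonoidHom := by
        rw [← h1]
        exact ⟨z, hz, rfl⟩
      obtain ⟨z'', hz'', he⟩ := h2
      have h3 : (l⁻¹ * g) z = z'' := by
        rw [MulAut.mul_apply, ← he]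
        show l⁻¹ (l z'') = z''
        simp
      rw [h3]
      exact P.hfix _ hz'')
    rwa [e1] at this
  · refine ⟨α, hαA, hαPt.2, ?_, ?_⟩
    · intro z hz
      obtain ⟨n, hn⟩ := hgenZ z hz
      rw [hn, map_pow, hαz₁, inv_pow]
    · have hαZ : ∀ z ∈ Z, α z = z⁻¹ := by
        intro z hz
        obtain ⟨n, hn⟩ := hgenZ z hz
        rw [hn, map_pow, hαz₁, inv_pow]
      have := P.conj_mem_zpowers (g₁ := 1) (g₂ := α) hone hαA (fun z hz => by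
        rw [e1, hαZ z hz]
        exact P.hfix _ (Z.inv_mem hz))
      rwa [e1] at this
  · intro w hw
    have hZ'n : Z'.Normal := ⟨fun n hn g => by
      rw [hab g n, mul_inv_cancel_right]
      exact hn⟩
    have h1 : w ∈ ((Z ⊔ Z' : Subgroup V) : Set V) := hV₁ ▸ hw
    rw [Subgroup.mul_normal] at h1
    obtain ⟨h, hh, n, hn, rfl⟩ := h1
    obtain ⟨m, hm⟩ := hgenZ' n hn
    refine ⟨m, h, hh, ?_⟩
    rw [hm, hab]

end Cfsg.Agent.Lib.FusionTheory.TransPair
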