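import Cfsg.Agent.Lib.FusionTheory.Normal
import Cfsg.Agent.Lib.FusionTheory.Essential
import Cfsg.Agent.Lib.Fusion.StronglyEmbedded
import Cfsg.Agent.Lib.PReduced.StrongEmbEquiv
import Cfsg.Agent.Lib.FusionExt.NormalSubgroup

/-!
# Essential subgroups and transvections

`extendable F E` is strongly embedded modulo inner automorphisms; a subgroup of `Aut_S(E)` acting as transvections
with a common centre `Z₀` cannot be too large.
-/

set_option autoImplicit false
set_option linter.unusedSectionVars false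
set_option linter.unusedVariables false

namespace Cfsg.Agent.Lib.FusionTheory.Transvect

open Cfsg Cfsg.FusionSystem Cfsg.Agent.Lib.Fusion.Basic Cfsg.Agent.Lib.Fusion.Saturation
  Cfsg.Agent.Lib.Fusion.Saturation2 Cfsg.Agent.Lib.Fusion.Alperin Cfsg.Agent.Lib.FusionTheory.Normal
  Cfsg.Agent.Lib.FusionTheory.Chain

section chain

variable {V : Type*} [Group V]

/-- The stabilizer in `A` of the chain `1 ≤ V₁ ≤ V`. -/
def chainStab (A : Subgroup (MulAut V)) (V₁ : Subgroup V) : Subgroup (MulAut V) where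
  carrier := {τ | τ ∈ A ∧ (∀ w ∈ V₁, τ w = w) ∧ ∀ v, v⁻¹ * τ v ∈ V₁}
  mul_mem' := by
    rintro a b ⟨ha, ha1, ha2⟩ ⟨hb, hb1, hb2⟩
    refine ⟨A.mul_mem ha hb, fun w hw => ?_, fun v => ?_⟩
    · rw [MulAut.mul_apply, hb1 w hw, ha1 w hw]
    · have h1 := hb2 v
      have e : a (b v) = a v * a (v⁻¹ * b v) := by
        rw [← map_mul]
        congr 1
        group
      rw [MulAut.mul_apply, e, ha1 _ h1, ← mul_assoc]
      exact V₁.mul_mem (ha2 v) h1
  one_mem' := ⟨A.one_mem, fun _ _ => rfl, fun v => by simp [V₁.one_mem]⟩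
  inv_mem' := by
    rintro a ⟨ha, ha1, ha2⟩
    refine ⟨A.inv_mem ha, fun w hw => ?_, fun v => ?_⟩
    · calc a⁻¹ w = a⁻¹ (a w) := by rw [ha1 w hw]
        _ = w := by simp
    · have h1 := ha2 (a⁻¹ v)
      rw [MulAut.apply_inv_self] at h1
      have h2 := V₁.inv_mem h1
      have e : ((a⁻¹ v)⁻¹ * v)⁻¹ = v⁻¹ * a⁻¹ v := by group
      rwa [e] at h2

theorem chainStab_conj {A : Subgroup (MulAut V)} {V₁ : Subgroup V} {ρ τ : MulAut V} (hρ : ρ ∈ A)
    (h1 : ∀ v, v⁻¹ * ρ v ∈ V₁) (h2 : ∀ v, v⁻¹ * ρ⁻¹ v ∈ V₁) (hτ : τ ∈ chainStab A V₁) :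
    ρ * τ * ρ⁻¹ ∈ chainStab A V₁ := by
  obtain ⟨hτA, hτ1, hτ2⟩ := hτ
  have hρmem : ∀ w ∈ V₁, ρ w ∈ V₁ := fun w hw => by
    have := V₁.mul_mem hw (h1 w)
    simpa using this
  have hρimem : ∀ w ∈ V₁, ρ⁻¹ w ∈ V₁ := fun w hw => by
    have := V₁.mul_mem hw (h2 w)
    simpa using this
  refine ⟨A.mul_mem (A.mul_mem hρ hτA) (A.inv_mem hρ), fun w hw => ?_, fun v => ?_⟩
  · simp only [MulAut.mul_apply]
    rw [hτ1 _ (hρimem w hw), MulAut.apply_inv_self]
  · simp only [MulAut.mul_apply]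
    have h3 := hρmem _ (hτ2 (ρ⁻¹ v))
    rw [map_mul, map_inv, MulAut.apply_inv_self] at h3
    exact h3

variable [Finite V] {p : ℕ} [hp : Fact p.Prime]

theorem isPGroup_chainStab (hV : IsPGroup p V) (A : Subgroup (MulAut V)) (V₁ : Subgroup V) :
    IsPGroup p (chainStab A V₁) := by
  have : Finite (MulAut V) := Cfsg.Agent.Lib.Fusion.Basic.finite_mulAut_of_finite (A := V)
  refine Cfsg.Agent.Lib.FusionTheory.CoprimeAut.isPGroup_of_coprime_trivial ?_
  rintro ⟨τ, hτ⟩ hco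
  have hco' : (orderOf τ).Coprime p := by
    rwa [Subgroup.orderOf_mk] at hco
  obtain ⟨hτA, hτ1, hτ2⟩ := hτ
  apply Subtype.ext
  show τ = 1
  ext v
  have hfix : τ (v⁻¹ * τ v) = v⁻¹ * τ v := hτ1 _ (hτ2 v)
  have hax : τ v = v * (v⁻¹ * τ v) := by group
  have h1 := Cfsg.Agent.Lib.PGroups.Critical.pow_apply_of_fixed τ hfix hax (orderOf τ)
  rw [pow_orderOf_eq_one] at h1
  have h2 : (v⁻¹ * τ v) ^ orderOf τ = 1 := by
    have : v = v * (v⁻¹ * τ v) ^ orderOf τ := h1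
    exact (mul_eq_left.1 this.symm)
  have h3 := eq_one_of_pow_coprime hV hco' h2
  exact (inv_mul_eq_one.1 h3).symm

end chain

section essential

variable {Ω : Type*} [Group Ω] {S : Subgroup Ω} (F : FusionSystem S) {p : ℕ} [hp : Fact p.Prime] [Finite S]

theorem inn_le_extendable (hS : IsPGroup p S) (hF : F.IsSaturated p) {E : Subgroup Ω} (hE : F.IsEssential p E) :
    Inn E ≤ extendable F E := by
  have hlt := Cfsg.Agent.Lib.FusionTheory.Essential.IsEssential.lt F hS hF hE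
  refine (?_ : Inn E ≤ autInducedBy S E).trans (autInducedBy_le_extendable F hlt hS)
  exact inn_le_autInducedBy S hlt.le

/-- Strong embedding of the extendable automorphisms, as a normalizer statement. -/
theorem mem_extendable_of_normalizes (hS : IsPGroup p S) (hF : F.IsSaturated p) {E : Subgroup Ω} (hE : F.IsEssential p E)
    {D : Subgroup (MulAut E)} (hD : D ≤ extendable F E) (hDp : IsPGroup p D) (hDne : ¬ D ≤ Inn E) {g : MulAut E}
    (hg : g ∈ F.autGroup E) (hgD : ∀ d ∈ D, g * d * g⁻¹ ∈ D) : g ∈ extendable F E := by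
  have hlt := Cfsg.Agent.Lib.FusionTheory.Essential.IsEssential.lt F hS hF hE
  have hES := hlt.le
  have hfinE : Finite E := finite_of_le hES
  rcases essential_dichotomy F hS hF hlt hE.2.1 with ⟨h, -⟩ | ⟨-, hN, hSE⟩
  · exact absurd hE h
  have hextA := extendable_le_autGroup F (P := E)
  let π := QuotientGroup.mk' ((Inn E).subgroupOf (F.autGroup E))
  let D' : Subgroup (F.autGroup E ⧸ (Inn E).subgroupOf (F.autGroup E)) := (D.subgroupOf (F.autGroup E)).map π
  have hD'Y : D' ≤ ((extendable F E).subgroupOf (F.autGroup E)).map π := by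
    rintro _ ⟨d, hd, rfl⟩
    exact ⟨d, hD hd, rfl⟩
  have hD'p : IsPGroup p D' := by
    refine IsPGroup.map ?_ π
    exact hDp.of_injective (MonoidHom.codRestrict ((F.autGroup E).subtype.comp (D.subgroupOf (F.autGroup E)).subtype) D (fun d => d.2)) (by
      intro a b hab
      have h1 := congrArg Subtype.val hab
      exact Subtype.ext (Subtype.ext h1))
  have hD'ne : D' ≠ ⊥ := by
    intro e
    apply hDne
    intro d hd
    have hdA := hextA (hD hd)
    have h1 : π ⟨d, hdA⟩ ∈ D' := ⟨⟨d, hdA⟩, hd, rfl⟩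
    rw [e, Subgroup.mem_bot] at h1
    have h2 : (⟨d, hdA⟩ : F.autGroup E) ∈ (Inn E).subgroupOf (F.autGroup E) := (QuotientGroup.eq_one_iff _).1 h1
    exact h2
  have hn := Cfsg.Agent.Lib.PReduced.StrongEmbEquiv.normalizer_le_of_isStronglyPEmbedded hSE hD'Y hD'p hD'ne
  have hgN : π ⟨g, hg⟩ ∈ Subgroup.normalizer (D' : Set (F.autGroup E ⧸ (Inn E).subgroupOf (F.autGroup E))) := by
    refine Cfsg.Agent.Lib.FusionExt.NormalSubgroup.mem_normalizer_of_conj_le (fun x hx => ?_)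
    obtain ⟨d, hd, rfl⟩ := hx
    refine ⟨⟨g, hg⟩ * d * ⟨g, hg⟩⁻¹, hgD _ hd, ?_⟩
    simp [map_mul, map_inv]
  obtain ⟨y, hy, hyg⟩ := hn hgN
  have hi : (y : F.autGroup E)⁻¹ * ⟨g, hg⟩ ∈ (Inn E).subgroupOf (F.autGroup E) := by
    exact QuotientGroup.eq.1 hyg
  have hi' : (y : MulAut E)⁻¹ * g ∈ Inn E := hi
  have hext : (y : MulAut E) ∈ extendable F E := hy
  have e : g = (y : MulAut E) * ((y : MulAut E)⁻¹ * g) := by group
  rw [e]
  exact Subgroup.mul_mem _ hext (inn_le_extendable F hS hF hE hi')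

/-- Strong embedding of the extendable automorphisms, as a conjugation statement. -/
theorem mem_extendable_of_conj (hS : IsPGroup p S) (hF : F.IsSaturated p) {E : Subgroup Ω} (hE : F.IsEssential p E)
    {D : Subgroup (MulAut E)} (hD : D ≤ extendable F E) (hDp : IsPGroup p D) (hDne : ¬ D ≤ Inn E) {g : MulAut E}
    (hg : g ∈ F.autGroup E) (hgD : ∀ d ∈ D, g * d * g⁻¹ ∈ extendable F E) : g ∈ extendable F E := by
  have hlt := Cfsg.Agent.Lib.FusionTheory.Essential.IsEssential.lt F hS hF hE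
  have hES := hlt.le
  have hfinE : Finite E := finite_of_le hES
  rcases essential_dichotomy F hS hF hlt hE.2.1 with ⟨h, -⟩ | ⟨-, hN, hSE⟩
  · exact absurd hE h
  have hextA := extendable_le_autGroup F (P := E)
  let π := QuotientGroup.mk' ((Inn E).subgroupOf (F.autGroup E))
  let D' : Subgroup (F.autGroup E ⧸ (Inn E).subgroupOf (F.autGroup E)) := (D.subgroupOf (F.autGroup E)).map π
  have hD'Y : D' ≤ ((extendable F E).subgroupOf (F.autGroup E)).map π := by
    rintro _ ⟨d, hd, rfl⟩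
    exact ⟨d, hD hd, rfl⟩
  have hD'p : IsPGroup p D' := by
    refine IsPGroup.map ?_ π
    exact hDp.of_injective (MonoidHom.codRestrict ((F.autGroup E).subtype.comp (D.subgroupOf (F.autGroup E)).subtype) D (fun d => d.2)) (by
      intro a b hab
      have h1 := congrArg Subtype.val hab
      exact Subtype.ext (Subtype.ext h1))
  have hD'ne : D' ≠ ⊥ := by
    intro e
    apply hDne
    intro d hd
    have hdA := hextA (hD hd)
    have h1 : π ⟨d, hdA⟩ ∈ D' := ⟨⟨d, hdA⟩, hd, rfl⟩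
    rw [e, Subgroup.mem_bot] at h1
    have h2 : (⟨d, hdA⟩ : F.autGroup E) ∈ (Inn E).subgroupOf (F.autGroup E) := (QuotientGroup.eq_one_iff _).1 h1
    exact h2
  obtain ⟨-, -, T, hT⟩ := hSE
  have hm := Cfsg.Agent.Lib.Fusion.StronglyEmbedded.mem_of_conj_le T hT hD'p hD'ne hD'Y (g := π ⟨g, hg⟩) (fun x hx => by
    obtain ⟨d, hd, rfl⟩ := hx
    have hdA := hgD _ hd
    refine ⟨⟨g, hg⟩ * d * ⟨g, hg⟩⁻¹, hdA, ?_⟩
    rw [map_mul, map_mul, map_inv])
  obtain ⟨y, hy, hyg⟩ := hm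
  have hi : (y : F.autGroup E)⁻¹ * ⟨g, hg⟩ ∈ (Inn E).subgroupOf (F.autGroup E) := QuotientGroup.eq.1 hyg
  have hi' : (y : MulAut E)⁻¹ * g ∈ Inn E := hi
  have hext : (y : MulAut E) ∈ extendable F E := hy
  have e : g = (y : MulAut E) * ((y : MulAut E)⁻¹ * g) := by group
  rw [e]
  exact Subgroup.mul_mem _ hext (inn_le_extendable F hS hF hE hi')

/-- A `p`-subgroup meeting `extendable F E` outside `Inn E` lies in it. -/
theorem le_extendable_of_meet (hS : IsPGroup p S) (hF : F.IsSaturated p) {E : Subgroup Ω} (hE : F.IsEssential p E)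
    {D : Subgroup (MulAut E)} (hDA : D ≤ F.autGroup E) (hDp : IsPGroup p D) {d₀ : MulAut E} (hd₀ : d₀ ∈ D)
    (hd₀e : d₀ ∈ extendable F E) (hd₀i : d₀ ∉ Inn E) : D ≤ extendable F E := by
  have hlt := Cfsg.Agent.Lib.FusionTheory.Essential.IsEssential.lt F hS hF hE
  have hfinE : Finite E := finite_of_le hlt.le
  have : Finite (MulAut E) := Cfsg.Agent.Lib.Fusion.Basic.finite_mulAut_of_finite (A := E)
  have hfinD : Finite D := inferInstance
  by_contra hno
  have hlt' : D ⊓ extendable F E < D := lt_of_le_of_ne inf_le_left (fun e => hno (inf_eq_left.1 e))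
  have hN := lt_normalizerIn (p := p) hDp hlt'
  obtain ⟨-, s, hs, hsD⟩ := SetLike.lt_iff_le_and_exists.1 hN
  apply hsD
  refine ⟨hs.1, mem_extendable_of_normalizes F hS hF hE (D := D ⊓ extendable F E) inf_le_right
    (hDp.to_le inf_le_left) (fun h => hd₀i (h ⟨hd₀, hd₀e⟩)) (hDA hs.1) (fun d hd => ?_)⟩
  exact (Subgroup.mem_normalizer_iff.1 hs.2 d).1 hd

/-- **The transvection lemma.** -/
theorem no_transvection (hS : IsPGroup p S) (hF : F.IsSaturated p) {E : Subgroup Ω} (hE : F.IsEssential p E)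
    {Z₀ : Subgroup E} {T₀ : Subgroup (MulAut E)} (hT₀ : T₀ ≤ autInducedBy S E)
    (hfix : ∀ t ∈ T₀, ∀ z ∈ Z₀, t z = z) (hact : ∀ t ∈ T₀, ∀ v, v⁻¹ * t v ∈ Z₀)
    (hbig : ∀ g ∈ F.autGroup E, ∃ t ∈ T₀, t ∉ Inn E ∧ ∀ z ∈ Z₀, t (g z) = g z) : False := by
  have hlt := Cfsg.Agent.Lib.FusionTheory.Essential.IsEssential.lt F hS hF hE
  have hES := hlt.le
  have hfinE : Finite E := finite_of_le hES
  have hEp : IsPGroup p E := hS.to_le hES
  have : Finite (MulAut E) := Cfsg.Agent.Lib.Fusion.Basic.finite_mulAut_of_finite (A := E)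
  obtain ⟨g, hg, hgn⟩ := Cfsg.Agent.Lib.FusionTheory.Essential.IsEssential.exists_not_extendable F hS hF hE
  have hAext : autInducedBy S E ≤ extendable F E := autInducedBy_le_extendable F hlt hS
  have hTe : T₀ ≤ extendable F E := hT₀.trans hAext
  have hextA := extendable_le_autGroup F (P := E)
  have hT₀p : IsPGroup p T₀ := (isPGroup_autInducedBy E hS).to_le hT₀
  apply hgn
  obtain ⟨t₀, ht₀, ht₀i, ht₀f⟩ := hbig g hg
  let V₁ : Subgroup E := Z₀ ⊔ Z₀.map g.toMonoidHom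
  have hZV : ∀ z ∈ Z₀, z ∈ V₁ := fun z hz => Subgroup.mem_sup_left hz
  have hgZV : ∀ z ∈ Z₀, g z ∈ V₁ := fun z hz => Subgroup.mem_sup_right ⟨z, hz, rfl⟩
  let D := chainStab (F.autGroup E) V₁
  have hDp : IsPGroup p D := isPGroup_chainStab hEp _ _
  have ht₀D : t₀ ∈ D := by
    refine ⟨hextA (hTe ht₀), fun w hw => ?_, fun v => hZV _ (hact t₀ ht₀ v)⟩
    let Fx : Subgroup E :=
      { carrier := {w | t₀ w = w}
        mul_mem' := fun {a b} ha hb => by
          show t₀ (a * b) = a * b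
          rw [map_mul, show t₀ a = a from ha, show t₀ b = b from hb]
        one_mem' := map_one _
        inv_mem' := fun {a} ha => by
          show t₀ a⁻¹ = a⁻¹
          rw [map_inv, show t₀ a = a from ha] }
    have hle : V₁ ≤ Fx := sup_le (fun z hz => hfix t₀ ht₀ z hz) (by
      rintro _ ⟨z, hz, rfl⟩
      exact ht₀f z hz)
    exact hle hw
  have hDe : D ≤ extendable F E := le_extendable_of_meet F hS hF hE (fun τ hτ => hτ.1) hDp ht₀D (hTe ht₀) ht₀i
  have hDne : ¬ D ≤ Inn E := fun h => ht₀i (h ht₀D)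
  refine mem_extendable_of_conj F hS hF hE hTe hT₀p (fun h => ht₀i (h ht₀)) hg (fun d hd => ?_)
  -- `g d g⁻¹` normalizes `D`
  have hdA : g * d * g⁻¹ ∈ F.autGroup E := (F.autGroup E).mul_mem ((F.autGroup E).mul_mem hg (hextA (hTe hd))) ((F.autGroup E).inv_mem hg)
  have hact' : ∀ c ∈ T₀, ∀ v, v⁻¹ * (g * c * g⁻¹) v ∈ V₁ := by
    intro c hc v
    have h1 := hgZV _ (hact c hc (g⁻¹ v))
    rw [map_mul, map_inv, MulAut.apply_inv_self] at h1
    simpa only [MulAut.mul_apply] using h1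
  refine mem_extendable_of_normalizes F hS hF hE hDe hDp hDne hdA (fun τ hτ => ?_)
  refine chainStab_conj hdA (hact' d hd) ?_ hτ
  have e : (g * d * g⁻¹)⁻¹ = g * d⁻¹ * g⁻¹ := by group
  rw [e]
  exact hact' _ (T₀.inv_mem hd)

theorem normAct_not_mem_inn {E : Subgroup Ω} (hC : F.IsCentric E) {s : Ω} (hs : s ∈ S)
    (hn : s ∈ Subgroup.normalizer (E : Set Ω)) (hsE : s ∉ E) : normAct E hn ∉ Inn E := by
  rintro ⟨y, hy⟩
  apply hsE
  have hc : (y : Ω)⁻¹ * s ∈ centralizerIn S E := by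
    refine ⟨S.mul_mem (S.inv_mem (hC.1 y.2)) hs, Subgroup.mem_centralizer_iff.2 fun x hx => ?_⟩
    have h1 := congrArg Subtype.val (congrArg (fun f : MulAut E => f ⟨x, hx⟩) hy)
    have h2 : (y : Ω) * x * (y : Ω)⁻¹ = s * x * s⁻¹ := h1
    calc x * ((y : Ω)⁻¹ * s) = (y : Ω)⁻¹ * ((y : Ω) * x * (y : Ω)⁻¹) * s := by group
      _ = (y : Ω)⁻¹ * (s * x * s⁻¹) * s := by rw [h2]
      _ = _ := by group
  have h3 := hC.2 E (isConj_refl F hC.1) hc
  have : s = (y : Ω) * ((y : Ω)⁻¹ * s) := by group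
  rw [this]
  exact E.mul_mem y.2 h3

/-- **The transvection lemma**, in terms of elements of `S`. -/
theorem no_transvection' (hS : IsPGroup p S) (hF : F.IsSaturated p) {E : Subgroup Ω} (hE : F.IsEssential p E)
    {Z₀ : Subgroup E}
    (hbig : ∀ g ∈ F.autGroup E, ∃ x ∈ S, ∃ hx : x ∈ Subgroup.normalizer (E : Set Ω), x ∉ E ∧
      (∀ z ∈ Z₀, normAct E hx z = z) ∧ (∀ v, v⁻¹ * normAct E hx v ∈ Z₀) ∧ ∀ z ∈ Z₀, normAct E hx (g z) = g z) : False := by
  refine no_transvection F hS hF hE (Z₀ := Z₀) (T₀ := chainStab (autInducedBy S E) Z₀) (fun t ht => ht.1)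
    (fun t ht => ht.2.1) (fun t ht => ht.2.2) (fun g hg => ?_)
  obtain ⟨x, hxS, hx, hxE, h1, h2, h3⟩ := hbig g hg
  exact ⟨normAct E hx, ⟨normAct_mem_autInducedBy S E hx hxS, h1, h2⟩, normAct_not_mem_inn F hE.1 hxS hx hxE, h3⟩

end essential

end Cfsg.Agent.Lib.FusionTheory.Transvect
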