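import Cfsg.Agent.Lib.Fusion.FocalInner
import Cfsg.Agent.Lib.Fusion.FrobThompson
import Cfsg.Agent.Lib.Fusion.TateHyp
import Cfsg.Agent.Lib.FusionTheory.Normal
import Cfsg.Agent.Lib.FusionExt.Solvable
import Cfsg.Agent.Lib.Core.SylowFacts
import Cfsg.Agent.Lib.Fusion.Thompson3

/-!
# Weakly embedded subgroups and a nilpotency criterion

Part 1: a group lemma: if every normal subgroup `Q` of order `n` of a finite `p`-group has a normal invariant
`P` with `Q ⊓ P` and `Q ⊔ P` invariant, then there is a normal invariant subgroup of order `n`.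
Part 2: if `T` is strongly closed and automorphisms of order prime to `p` of overgroups of `T` act trivially
modulo `T`, then the hyperfocal subgroup lies in `T`.
-/

set_option autoImplicit false
set_option linter.unusedSectionVars false
set_option linter.unusedVariables false

namespace Cfsg.Agent.Lib.FusionTheory.WeakEmb

open Cfsg Cfsg.FusionSystem Cfsg.Agent.Lib.Fusion.Basic Cfsg.Agent.Lib.Fusion.Saturation
  Cfsg.Agent.Lib.Fusion.Saturation2 Cfsg.Agent.Lib.Fusion.FrobThompson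
  Cfsg.Agent.Lib.FusionTheory.Normal Cfsg.Agent.Lib.Core.SylowFacts

open scoped commutatorElement

universe u

section group

variable {G : Type*} [Group G]

/-- The subgroup `X` is invariant under `α`. -/
def Inv (α : MulAut G) (X : Subgroup G) : Prop := ∀ x ∈ X, α x ∈ X

theorem Inv.inf {α : MulAut G} {X Y : Subgroup G} (hX : Inv α X) (hY : Inv α Y) : Inv α (X ⊓ Y) :=
  fun x hx => ⟨hX x hx.1, hY x hx.2⟩

theorem Inv.sup {α : MulAut G} {X Y : Subgroup G} (hX : Inv α X) (hY : Inv α Y) : Inv α (X ⊔ Y) := by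
  have h : X ⊔ Y ≤ (X ⊔ Y).comap α.toMonoidHom :=
    sup_le (fun x hx => Subgroup.mem_sup_left (hX x hx)) (fun x hx => Subgroup.mem_sup_right (hY x hx))
  exact fun x hx => h hx

theorem Inv.commutator {α : MulAut G} {X : Subgroup G} (hX : Inv α X) : Inv α ⁅X, (⊤ : Subgroup G)⁆ := by
  have h : ⁅X, (⊤ : Subgroup G)⁆ ≤ (⁅X, (⊤ : Subgroup G)⁆).comap α.toMonoidHom := by
    apply Subgroup.commutator_le.2
    intro a ha b _
    show α ⁅a, b⁆ ∈ ⁅X, (⊤ : Subgroup G)⁆
    rw [map_commutatorElement]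
    exact Subgroup.commutator_mem_commutator (hX a ha) (Subgroup.mem_top _)
  exact fun x hx => h hx

variable [Finite G] {p : ℕ} [hp : Fact p.Prime]

theorem dvd_of_le_of_dvd_pow {s n m : ℕ} (hn : n ∣ p ^ s) (hm : m ∣ p ^ s) (h : n ≤ m) : n ∣ m := by
  obtain ⟨a, -, rfl⟩ := (Nat.dvd_prime_pow hp.out).1 hn
  obtain ⟨b, -, rfl⟩ := (Nat.dvd_prime_pow hp.out).1 hm
  have hab : a ≤ b := (Nat.pow_le_pow_iff_right hp.out.one_lt).1 h
  exact pow_dvd_pow _ hab

/-- **The chain lemma.** -/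
theorem exists_inv_normal (hG : IsPGroup p G) (α : MulAut G) {n : ℕ} (hn : n ∣ Nat.card G)
    (h : ∀ Q : Subgroup G, Q.Normal → Nat.card Q = n →
      ∃ P : Subgroup G, P.Normal ∧ Inv α P ∧ Inv α (Q ⊓ P) ∧ Inv α (Q ⊔ P)) :
    ∃ Q : Subgroup G, Q.Normal ∧ Inv α Q ∧ Nat.card Q = n := by
  classical
  obtain ⟨k, hk⟩ := IsPGroup.iff_card.1 hG
  have hcardp : ∀ X : Subgroup G, ∃ c, Nat.card X = p ^ c := fun X => IsPGroup.iff_card.1 (hG.to_subgroup X)
  -- a largest normal invariant subgroup of order at most `n`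
  let 𝒞 : Set (Subgroup G) := {C | C.Normal ∧ Inv α C ∧ Nat.card C ≤ n}
  have hn0 : 0 < n := Nat.pos_of_dvd_of_pos hn Nat.card_pos
  have h𝒞 : 𝒞.Nonempty := ⟨⊥, inferInstance, fun x hx => by
    rw [Subgroup.mem_bot] at hx ⊢
    rw [hx, map_one], by simpa using Nat.succ_le_of_lt hn0⟩
  obtain ⟨C, ⟨hCn, hCi, hCc⟩, hCmax⟩ := Set.exists_max_image 𝒞 (fun X => Nat.card X) (Set.toFinite _) h𝒞
  by_cases hCe : Nat.card C = n
  · exact ⟨C, hCn, hCi, hCe⟩
  exfalso
  have hCl : Nat.card C < n := lt_of_le_of_ne hCc hCe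
  have hnle : n ≤ Nat.card G := Nat.le_of_dvd Nat.card_pos hn
  have hCtop : C < ⊤ := by
    refine lt_of_le_of_ne le_top (fun e => ?_)
    rw [e, Subgroup.card_top] at hCl
    omega
  let 𝒟 : Set (Subgroup G) := {D | D.Normal ∧ Inv α D ∧ C < D}
  have h𝒟 : 𝒟.Nonempty := ⟨⊤, inferInstance, fun x _ => Subgroup.mem_top _, hCtop⟩
  obtain ⟨D, ⟨hDn, hDi, hCD⟩, hDmin⟩ := Set.exists_min_image 𝒟 (fun X => Nat.card X) (Set.toFinite _) h𝒟
  have hcardlt : ∀ {A B : Subgroup G}, A < B → Nat.card A < Nat.card B := fun hAB =>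
    Cfsg.Agent.Lib.Fusion.LocalGlobal.card_lt_of_lt hAB
  have hnD : n < Nat.card D := by
    by_contra hc
    have h1 := hCmax D ⟨hDn, hDi, not_lt.1 hc⟩
    exact absurd (hcardlt hCD) (not_lt.2 h1)
  -- no normal invariant subgroup strictly between `C` and `D`
  have hbetween : ∀ X : Subgroup G, X.Normal → Inv α X → C ≤ X → X ≤ D → X = C ∨ X = D := by
    intro X hXn hXi hCX hXD
    by_cases hXC : X = C
    · exact Or.inl hXC
    right
    have hlt : C < X := lt_of_le_of_ne hCX (Ne.symm hXC)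
    have h2 := hDmin X ⟨hXn, hXi, hlt⟩
    exact Subgroup.eq_of_le_of_card_ge hXD h2
  -- `D / C` is central in `G / C`
  have hcomm : ⁅D, (⊤ : Subgroup G)⁆ ≤ C := by
    have hle : ⁅D, (⊤ : Subgroup G)⁆ ⊔ C ≤ D :=
      sup_le (Subgroup.commutator_le_left D ⊤) hCD.le
    rcases hbetween (⁅D, (⊤ : Subgroup G)⁆ ⊔ C) inferInstance (hDi.commutator.sup hCi) le_sup_right hle with h1 | h1
    · exact (sup_eq_right.1 h1)
    · have h2 : D ≤ ⁅D, (⊤ : Subgroup G)⁆ ⊔ C := h1.ge
      have h3 := Cfsg.Agent.Lib.Fusion.TateHyp.le_of_le_commutator_sup hG h2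
      exact absurd h3 (not_le_of_gt hCD)
  -- choosing `Q`
  obtain ⟨c, hc⟩ := hcardp C
  obtain ⟨d, hd⟩ := hcardp D
  have hnp : n ∣ p ^ k := hk ▸ hn
  obtain ⟨e, -, rfl⟩ := (Nat.dvd_prime_pow hp.out).1 hnp
  have hce : c ≤ e := by
    rw [hc] at hCl
    exact ((Nat.pow_lt_pow_iff_right hp.out.one_lt).1 hCl).le
  have hed : p ^ e ∣ Nat.card D := by
    rw [hd] at hnD ⊢
    exact pow_dvd_pow _ ((Nat.pow_lt_pow_iff_right hp.out.one_lt).1 hnD).le
  have hC' : Nat.card (C.subgroupOf D) = p ^ c := by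
    rw [← hc]
    exact Nat.card_congr (Subgroup.subgroupOfEquivOfLe hCD.le).toEquiv
  obtain ⟨K, hKc, hCK⟩ := Sylow.exists_subgroup_card_pow_prime_le p hed (C.subgroupOf D) hC' hce
  let Q : Subgroup G := K.map D.subtype
  have hQc : Nat.card Q = p ^ e := by
    rw [← hKc]
    exact (Nat.card_congr (K.equivMapOfInjective _ D.subtype_injective).toEquiv).symm
  have hCQ : C ≤ Q := fun x hx => ⟨⟨x, hCD.le hx⟩, hCK hx, rfl⟩
  have hQD : Q ≤ D := Subgroup.map_subtype_le K
  have hQn : Q.Normal := by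
    constructor
    intro q hq g
    have h1 : ⁅q, g⁆ ∈ C := hcomm (Subgroup.commutator_mem_commutator (hQD hq) (Subgroup.mem_top g))
    have h2 : g * q * g⁻¹ = (⁅q, g⁆)⁻¹ * q := by
      rw [commutatorElement_def]
      group
    rw [h2]
    exact Q.mul_mem (Q.inv_mem (hCQ h1)) hq
  have hQC : ¬ Q ≤ C := by
    intro hle
    have := Subgroup.card_le_of_le hle
    rw [hQc] at this
    omega
  have hDQ : ¬ D ≤ Q := by
    intro hle
    have := Subgroup.card_le_of_le hle
    rw [hQc] at this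
    omega
  obtain ⟨P, hPn, hPi, hTi, hUi⟩ := h Q hQn hQc
  -- Step 1
  have h1 : Q ⊓ P ≤ C := by
    have hle : (Q ⊓ P) ⊔ C ≤ D := sup_le (inf_le_left.trans hQD) hCD.le
    rcases hbetween ((Q ⊓ P) ⊔ C) inferInstance (hTi.sup hCi) le_sup_right hle with h1 | h1
    · exact sup_eq_right.1 h1
    · exfalso
      apply hDQ
      rw [← h1]
      exact sup_le inf_le_left hCQ
  -- Step 2
  have h2 : P ⊓ D ≤ C := by
    have hle : (P ⊓ D) ⊔ C ≤ D := sup_le inf_le_right hCD.le
    rcases hbetween ((P ⊓ D) ⊔ C) inferInstance ((hPi.inf hDi).sup hCi) le_sup_right hle with h2 | h2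
    · exact sup_eq_right.1 h2
    · exfalso
      apply hQC
      intro q hq
      have h3 : q ∈ (P ⊓ D) ⊔ C := by
        rw [h2]
        exact hQD hq
      obtain ⟨a, ha, b, hb, rfl⟩ := Subgroup.mem_sup_of_normal_right.1 h3
      have h4 : a ∈ Q := by
        have : a = a * b * b⁻¹ := by group
        rw [this]
        exact Q.mul_mem hq (Q.inv_mem (hCQ hb))
      exact C.mul_mem (h1 ⟨h4, ha.1⟩) hb
  -- Step 3
  have hCX : C ≤ (Q ⊔ P) ⊓ D := le_inf (hCQ.trans le_sup_left) hCD.le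
  rcases hbetween ((Q ⊔ P) ⊓ D) inferInstance (hUi.inf hDi) hCX inf_le_right with h3 | h3
  · apply hQC
    rw [← h3]
    exact le_inf le_sup_left hQD
  · apply hDQ
    intro x hx
    have h4 : x ∈ (Q ⊔ P) ⊓ D := by
      rw [h3]
      exact hx
    obtain ⟨a, ha, b, hb, rfl⟩ := Subgroup.mem_sup_of_normal_right.1 h4.1
    have h5 : b ∈ D := by
      have : b = a⁻¹ * (a * b) := by group
      rw [this]
      exact D.mul_mem (D.inv_mem (hQD ha)) hx
    exact Q.mul_mem ha (hCQ (h2 ⟨hb, h5⟩))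

end group

section modInner

variable {V : Type*} [Group V] (T₀ : Subgroup V) [T₀.Normal] (A : Subgroup (MulAut V))
  (hA : ∀ ρ ∈ A, ∀ x ∈ T₀, ρ x ∈ T₀)

include hA

/-- The elements of `A` acting as inner automorphisms on `V / T₀`. -/
def KK : Subgroup (MulAut V) where
  carrier := {β | β ∈ A ∧ ∃ r : V, ∀ u : V, (r * u * r⁻¹)⁻¹ * β u ∈ T₀}
  mul_mem' := by
    rintro a b ⟨ha, r, hr⟩ ⟨hb, s, hs⟩
    refine ⟨A.mul_mem ha hb, r * s, fun u => ?_⟩
    have h1 := hA a ha _ (hs u)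
    have h2 := hr (s * u * s⁻¹)
    rw [map_mul, map_inv] at h1
    have h3 := T₀.mul_mem h2 h1
    have e : (r * (s * u * s⁻¹) * r⁻¹)⁻¹ * a (s * u * s⁻¹) * ((a (s * u * s⁻¹))⁻¹ * a (b u)) =
        (r * s * u * (r * s)⁻¹)⁻¹ * (a * b) u := by
      simp only [MulAut.mul_apply]
      group
    rwa [e] at h3
  one_mem' := ⟨A.one_mem, 1, fun u => by simp [T₀.one_mem]⟩
  inv_mem' := by
    rintro a ⟨ha, r, hr⟩
    refine ⟨A.inv_mem ha, r⁻¹, fun u => ?_⟩
    have h1 := hr (a⁻¹ u)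
    rw [MulAut.apply_inv_self] at h1
    have h2 := T₀.inv_mem h1
    have h3 := (inferInstance : T₀.Normal).conj_mem _ h2 r⁻¹
    have e : r⁻¹ * ((r * a⁻¹ u * r⁻¹)⁻¹ * u)⁻¹ * r⁻¹⁻¹ = (r⁻¹ * u * r⁻¹⁻¹)⁻¹ * a⁻¹ u := by
      group
    rwa [e] at h3

theorem mem_KK {β : MulAut V} : β ∈ KK T₀ A hA ↔ β ∈ A ∧ ∃ r : V, ∀ u : V, (r * u * r⁻¹)⁻¹ * β u ∈ T₀ := Iff.rfl

theorem KK_conj {ρ β : MulAut V} (hρ : ρ ∈ A) (hβ : β ∈ KK T₀ A hA) : ρ * β * ρ⁻¹ ∈ KK T₀ A hA := by
  obtain ⟨hβA, r, hr⟩ := hβ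
  refine ⟨A.mul_mem (A.mul_mem hρ hβA) (A.inv_mem hρ), ρ r, fun u => ?_⟩
  have h1 := hA ρ hρ _ (hr (ρ⁻¹ u))
  rw [map_mul, map_inv, map_mul, map_mul, map_inv, MulAut.apply_inv_self] at h1
  simp only [MulAut.mul_apply]
  exact h1

theorem trivial_of_mem_KK [Finite V] {p : ℕ} [hp : Fact p.Prime] (hV : IsPGroup p V) {γ : MulAut V}
    (hγ : γ ∈ KK T₀ A hA) (hc : (orderOf γ).Coprime p) (x : V) : x⁻¹ * γ x ∈ T₀ := by
  obtain ⟨-, r, hr⟩ := hγ
  let θ : V →* V ⧸ T₀ := QuotientGroup.mk' T₀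
  have hact : ∀ u, θ (γ u) = θ r * θ u * (θ r)⁻¹ := by
    intro u
    have h1 : θ ((r * u * r⁻¹)⁻¹ * γ u) = 1 := (QuotientGroup.eq_one_iff _).2 (hr u)
    rw [map_mul, map_inv, inv_mul_eq_one] at h1
    rw [← h1]
    simp
  have hpow : ∀ (n : ℕ) (u : V), θ ((γ ^ n) u) = θ r ^ n * θ u * (θ r ^ n)⁻¹ := by
    intro n
    induction n with
    | zero => intro u; simp
    | succ k ih =>
      intro u
      rw [pow_succ', MulAut.mul_apply, hact, ih u, pow_succ']
      group
  have h1 := hpow (orderOf γ) x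
  rw [pow_orderOf_eq_one] at h1
  have hB : θ r ^ orderOf γ ∈ Subgroup.centralizer ({θ x} : Set (V ⧸ T₀)) := by
    refine Subgroup.mem_centralizer_iff.2 ?_
    rintro _ rfl
    have h2 : θ x = θ r ^ orderOf γ * θ x * (θ r ^ orderOf γ)⁻¹ := h1
    calc θ x * θ r ^ orderOf γ = (θ r ^ orderOf γ * θ x * (θ r ^ orderOf γ)⁻¹) * θ r ^ orderOf γ := by
          rw [← h2]
      _ = θ r ^ orderOf γ * θ x := by group
  obtain ⟨k, hk⟩ := hV r
  have hk' : θ r ^ p ^ k = 1 := by rw [← map_pow, hk, map_one]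
  have hgB := Cfsg.Agent.Lib.FusionExt.SecCent.mem_of_pow_mem_of_coprime hB hk' hc
  have h3 := Subgroup.mem_centralizer_iff.1 hgB (θ x) rfl
  have h4 : θ (γ x) = θ x := by
    rw [hact, ← h3]
    group
  have h5 : θ (x⁻¹ * γ x) = 1 := by
    rw [map_mul, map_inv, h4, inv_mul_cancel]
  exact (QuotientGroup.eq_one_iff _).1 h5

end modInner

theorem mem_of_pow_of_coprime {G : Type*} [Group G] {B : Subgroup G} {g : G} {a b : ℕ} (h : a.Coprime b)
    (h1 : g ^ a ∈ B) (h2 : g ^ b = 1) : g ∈ B := by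
  have hbez : (a : ℤ) * Nat.gcdA a b + (b : ℤ) * Nat.gcdB a b = 1 := by
    have := Nat.gcd_eq_gcd_ab a b
    rw [h.gcd_eq_one] at this
    simpa using this.symm
  have e : g = (g ^ a) ^ Nat.gcdA a b * (g ^ b) ^ Nat.gcdB a b := by
    rw [← zpow_natCast, ← zpow_natCast, ← zpow_mul, ← zpow_mul, ← zpow_add, hbez, zpow_one]
  rw [e, h2, one_zpow, mul_one]
  exact B.zpow_mem h1 _

section climb

variable {Ω : Type*} [Group Ω] {S : Subgroup Ω} (F : FusionSystem S) {p : ℕ} [hp : Fact p.Prime] [Finite S]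

/-- The maps of the system preserve a strongly closed subgroup. -/
theorem sc_val_mem {T : Subgroup Ω} (hT : F.StronglyClosed T) {P : Subgroup Ω} {φ : P →* Ω} (hφ : φ ∈ F.Hom P)
    (x : P) (hx : (x : Ω) ∈ T) : φ x ∈ T := by
  have hle : P ⊓ T ≤ P := inf_le_left
  exact hT.2 (P ⊓ T) inf_le_right _ (restrict_mem F hle hφ) ⟨x, x.2, hx⟩

/-- **One step of the climb.** -/
theorem climb_fn (hS : IsPGroup p S) (hF : F.IsSaturated p) {T : Subgroup Ω} (hT : F.StronglyClosed T)
    {R : Subgroup Ω} (hfn : F.IsFullyNormalized R) (hTR : ¬ T ≤ R) {γ : MulAut R} (hγ : γ ∈ F.autGroup R)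
    (hc : (orderOf γ).Coprime p) {x : R} (hx : (x : Ω)⁻¹ * ((γ x : R) : Ω) ∉ T) :
    ∃ (W : Subgroup Ω) (γ' : MulAut W) (x' : W), W ≤ S ∧ R < W ∧ γ' ∈ F.autGroup W ∧ (orderOf γ').Coprime p ∧
      (x' : Ω)⁻¹ * ((γ' x' : W) : Ω) ∉ T := by
  classical
  have hRS : R ≤ S := hfn.1
  have hfinR : Finite R := finite_of_le hRS
  have hRp : IsPGroup p R := hS.to_le hRS
  have hTn : S ≤ Subgroup.normalizer (T : Set Ω) := StronglyClosed.le_normalizer F hT
  have hTnorm : ∀ g ∈ S, ∀ t ∈ T, g * t * g⁻¹ ∈ T := fun g hg t ht =>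
    (Subgroup.mem_normalizer_iff.1 (hTn hg) t).1 ht
  -- an element of `T` normalizing `R`
  obtain ⟨y, hyT, hyn, hyR⟩ : ∃ y ∈ T, y ∈ Subgroup.normalizer (R : Set Ω) ∧ y ∉ R := by
    by_contra hno
    apply hTR
    refine le_of_normalizer_le (p := p) hS hT.1 hTn hRS (fun s hs hsn => ?_)
    by_contra hsR
    exact hno ⟨s, hs, hsn, hsR⟩
  let T₀ : Subgroup R := T.subgroupOf R
  haveI hT₀n : T₀.Normal := ⟨fun u hu g => by
    show ((g * u * g⁻¹ : R) : Ω) ∈ T
    exact hTnorm _ (hRS g.2) _ hu⟩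
  have hinv : ∀ ρ ∈ F.autGroup R, ∀ u ∈ T₀, ρ u ∈ T₀ := fun ρ hρ u hu =>
    StronglyClosed.aut_mem F hT hRS hρ hu
  let K : Subgroup (MulAut R) := KK T₀ (F.autGroup R) hinv
  have hKA : K ≤ F.autGroup R := fun β hβ => hβ.1
  have hA := isFullyAutomized_of_isFullyNormalized F hS hF hfn
  obtain ⟨-, TA, hTA⟩ := hA
  have hfinA : Finite (F.autGroup R) := inferInstance
  let K' : Subgroup (F.autGroup R) := K.subgroupOf (F.autGroup R)
  haveI hK'n : K'.Normal := ⟨fun k hk g => KK_conj T₀ (F.autGroup R) hinv g.2 hk⟩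
  let S₁ : Sylow p K' := sylowOfNormal TA K'
  let B₁ : Subgroup (F.autGroup R) := (S₁ : Subgroup K').map K'.subtype
  have hB₁ : B₁ = (TA : Subgroup (F.autGroup R)) ⊓ K' := map_sylowOfNormal TA K'
  have hfr : Subgroup.normalizer (B₁ : Set (F.autGroup R)) ⊔ K' = ⊤ := Sylow.normalizer_sup_eq_top S₁
  have hmem : (⟨γ, hγ⟩ : F.autGroup R) ∈ Subgroup.normalizer (B₁ : Set (F.autGroup R)) ⊔ K' := by
    rw [hfr]
    trivial
  obtain ⟨n, hn, k, hk, hnk⟩ := Subgroup.mem_sup_of_normal_right.1 hmem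
  -- `γ` is not in `K`
  have hγK : γ ∉ K := fun h => hx (trivial_of_mem_KK T₀ (F.autGroup R) hinv hRp h hc x)
  have hnot : ∀ c : ℕ, n ^ p ^ c ∉ K' := by
    intro c hc'
    apply hγK
    have h1 : ((n ^ p ^ c : F.autGroup R) : F.autGroup R ⧸ K') = 1 := (QuotientGroup.eq_one_iff _).2 hc'
    have h2 : (n : F.autGroup R ⧸ K') = ((⟨γ, hγ⟩ : F.autGroup R) : F.autGroup R ⧸ K') := by
      rw [← hnk, QuotientGroup.mk_mul, (QuotientGroup.eq_one_iff k).2 hk, mul_one]
    have h3 : ((⟨γ, hγ⟩ ^ p ^ c : F.autGroup R) : F.autGroup R ⧸ K') = 1 := by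
      rw [QuotientGroup.mk_pow, ← h2, ← QuotientGroup.mk_pow, h1]
    have h4 : (⟨γ, hγ⟩ : F.autGroup R) ^ p ^ c ∈ K' := (QuotientGroup.eq_one_iff _).1 h3
    have h5 : γ ^ p ^ c ∈ K := h4
    refine mem_of_pow_of_coprime (hc.pow_right c).symm h5 (pow_orderOf_eq_one γ)
  obtain ⟨a, ha⟩ := exists_coprime_pow (p := p) n
  let β : MulAut R := ((n ^ p ^ a : F.autGroup R) : MulAut R)
  have hβA : β ∈ F.autGroup R := (n ^ p ^ a).2
  have hnN : n ^ p ^ a ∈ Subgroup.normalizer (B₁ : Set (F.autGroup R)) := Subgroup.pow_mem _ hn _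
  -- the subgroup `W`
  have hnormAct_one : normAct R (Subgroup.one_mem _ : (1 : Ω) ∈ Subgroup.normalizer (R : Set Ω)) = 1 := by
    ext u
    simp [normAct_apply]
  let W : Subgroup Ω :=
    { carrier := {s | s ∈ S ∧ ∃ hs : s ∈ Subgroup.normalizer (R : Set Ω), normAct R hs ∈ K}
      mul_mem' := by
        rintro a b ⟨ha, ha', ha''⟩ ⟨hb, hb', hb''⟩
        refine ⟨S.mul_mem ha hb, Subgroup.mul_mem _ ha' hb', ?_⟩
        have e : normAct R (Subgroup.mul_mem _ ha' hb') = normAct R ha' * normAct R hb' := by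
          ext u
          simp [normAct_apply, MulAut.mul_apply, mul_assoc]
        rw [e]
        exact K.mul_mem ha'' hb''
      one_mem' := ⟨S.one_mem, Subgroup.one_mem _, by rw [hnormAct_one]; exact K.one_mem⟩
      inv_mem' := by
        rintro a ⟨ha, ha', ha''⟩
        refine ⟨S.inv_mem ha, Subgroup.inv_mem _ ha', ?_⟩
        have e : normAct R (Subgroup.inv_mem _ ha') = (normAct R ha')⁻¹ := by
          rw [eq_inv_iff_mul_eq_one]
          ext u
          simp [normAct_apply, MulAut.mul_apply, mul_assoc]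
        rw [e]
        exact K.inv_mem ha'' }
  have hWS : W ≤ S := fun s hs => hs.1
  have hfinW : Finite W := finite_of_le hWS
  have hRW : R ≤ W := by
    intro r hr
    have hrn := Subgroup.le_normalizer hr
    refine ⟨hRS hr, hrn, normAct_mem_autGroup F hRS (hRS hr) hrn, ⟨r, hr⟩, fun u => ?_⟩
    have e : (⟨r, hr⟩ * u * (⟨r, hr⟩ : R)⁻¹ : R)⁻¹ * normAct R hrn u = 1 := by
      rw [inv_mul_eq_one]
      apply Subtype.ext
      rw [normAct_apply]
      rfl
    rw [e]
    exact T₀.one_mem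
  have hyW : y ∈ W := by
    refine ⟨hT.1 hyT, hyn, normAct_mem_autGroup F hRS (hT.1 hyT) hyn, 1, fun u => ?_⟩
    show (((1 * u * 1⁻¹)⁻¹ * normAct R hyn u : R) : Ω) ∈ T
    simp only [one_mul, inv_one, mul_one, Subgroup.coe_mul, Subgroup.coe_inv, normAct_apply]
    have h1 := hTnorm _ (S.inv_mem (hRS u.2)) _ hyT
    have h2 := T.mul_mem h1 (T.inv_mem hyT)
    have e : (u : Ω)⁻¹ * y * (u : Ω)⁻¹⁻¹ * y⁻¹ = (u : Ω)⁻¹ * (y * u * y⁻¹) := by group
    rwa [e] at h2
  have hRltW : R < W := lt_of_le_of_ne hRW (fun e => hyR (e ▸ hyW))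
  have hWn : W ≤ Subgroup.normalizer (R : Set Ω) := fun s hs => hs.2.1
  -- `β` normalizes `Aut_W(R)`
  have hconj : ∀ s (hs : s ∈ W), β * normAct R (hWn hs) * β⁻¹ ∈ K ∧ β * normAct R (hWn hs) * β⁻¹ ∈ autInducedBy S R := by
    intro s hs
    have hsA : normAct R (hWn hs) ∈ F.autGroup R := normAct_mem_autGroup F hRS hs.1 (hWn hs)
    have hsT : (⟨normAct R (hWn hs), hsA⟩ : F.autGroup R) ∈ (TA : Subgroup (F.autGroup R)) := by
      rw [hTA]
      exact normAct_mem_autInducedBy S R (hWn hs) hs.1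
    have hsK : (⟨normAct R (hWn hs), hsA⟩ : F.autGroup R) ∈ K' := by
      obtain ⟨-, hs', hs''⟩ := hs
      exact hs''
    have hsB : (⟨normAct R (hWn hs), hsA⟩ : F.autGroup R) ∈ B₁ := by
      rw [hB₁]
      exact ⟨hsT, hsK⟩
    have h1 := (Subgroup.mem_normalizer_iff.1 hnN _).1 hsB
    rw [hB₁] at h1
    have h2 := h1.1
    rw [hTA] at h2
    exact ⟨h1.2, h2⟩
  have hWext : W ≤ extender S R (autHom β) := by
    intro s hs
    obtain ⟨h, hh, hc'⟩ := (mem_autInducedBy_iff S R _).1 (hconj s hs).2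
    refine mem_extender_of _ hs.1 (hWn hs) hh (fun u => ?_)
    have h1 := hc' (β u)
    have key : ((β * normAct R (hWn hs) * β⁻¹) (β u) : R) = β (normAct R (hWn hs) u) := by
      simp [MulAut.mul_apply]
    rw [key] at h1
    exact h1
  have hRc := isReceptive_of_isFullyNormalized F hS hF hfn
  obtain ⟨ψ, hψ, hext⟩ := IsReceptive.exists_extension F hRc (autHom_mem F hRS hβA) (autHom_range β) hWext hRW
  have hψR : ∀ u : R, ψ ⟨u, hRW u.2⟩ = ((β u : R) : Ω) := fun u => hext u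
  -- `ψ` preserves `W`
  have hψW : ∀ s : W, ψ s ∈ W := by
    intro s
    have hs'S : ψ s ∈ S := val_mem F hψ s
    have hval : ∀ u : R, ((β * normAct R (hWn s.2) * β⁻¹) u : R).1 = ψ s * (u : Ω) * (ψ s)⁻¹ := by
      intro u
      obtain ⟨v, rfl⟩ : ∃ v, β v = u := ⟨β⁻¹ u, by simp⟩
      have key : ((β * normAct R (hWn s.2) * β⁻¹) (β v) : R) = β (normAct R (hWn s.2) v) := by
        simp [MulAut.mul_apply]
      rw [key, ← hψR, ← hψR]
      have e : (⟨(normAct R (hWn s.2) v : R), hRW (normAct R (hWn s.2) v).2⟩ : W) = s * ⟨v, hRW v.2⟩ * s⁻¹ := by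
        apply Subtype.ext
        rw [normAct_apply]
        rfl
      rw [e, map_mul, map_mul, map_inv]
    have hs'n : ψ s ∈ Subgroup.normalizer (R : Set Ω) := mem_normalizer_of_conj R _ _ hval
    refine ⟨hs'S, hs'n, ?_⟩
    have e : normAct R hs'n = β * normAct R (hWn s.2) * β⁻¹ := by
      ext u
      rw [hval, normAct_apply]
    rw [e]
    exact (hconj s s.2).1
  have hrange : ψ.range = W := by
    refine Subgroup.eq_of_le_of_card_ge ?_ (by rw [card_range F hψ])
    rintro _ ⟨s, rfl⟩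
    exact hψW s
  obtain ⟨βh, hβh, hβhv⟩ := exists_aut_of_range F hψ hrange
  have : Finite (MulAut W) := Cfsg.Agent.Lib.Fusion.Basic.finite_mulAut_of_finite (A := W)
  obtain ⟨b, hb⟩ := exists_coprime_pow (p := p) βh
  have hpow : ∀ (m : ℕ) (u : R), (((βh ^ m) ⟨u, hRW u.2⟩ : W) : Ω) = (((β ^ m) u : R) : Ω) := by
    intro m
    induction m with
    | zero => intro u; rfl
    | succ j ih =>
      intro u
      rw [pow_succ', pow_succ', MulAut.mul_apply, MulAut.mul_apply]
      have e : (βh ^ j) ⟨u, hRW u.2⟩ = ⟨((β ^ j) u : R), hRW ((β ^ j) u).2⟩ := Subtype.ext (ih u)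
      rw [e, hβhv]
      exact hψR _
  -- a witness
  have hwit : ∃ u : R, (u : Ω)⁻¹ * (((β ^ p ^ b) u : R) : Ω) ∉ T := by
    by_contra hno
    push Not at hno
    apply hnot (a + b)
    have e : n ^ p ^ (a + b) = (n ^ p ^ a) ^ p ^ b := by rw [pow_add, pow_mul]
    rw [e]
    show ((n ^ p ^ a) ^ p ^ b : F.autGroup R).1 ∈ K
    refine ⟨((n ^ p ^ a) ^ p ^ b : F.autGroup R).2, 1, fun u => ?_⟩
    have h1 := hno u
    show (((1 * u * 1⁻¹)⁻¹ * ((n ^ p ^ a) ^ p ^ b : F.autGroup R).1 u : R) : Ω) ∈ T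
    simp only [one_mul, inv_one, mul_one, Subgroup.coe_mul, Subgroup.coe_inv]
    exact h1
  obtain ⟨u, hu⟩ := hwit
  refine ⟨W, βh ^ p ^ b, ⟨u, hRW u.2⟩, hWS, hRltW, Subgroup.pow_mem _ hβh _, hb, ?_⟩
  have e := hpow (p ^ b) u
  show (u : Ω)⁻¹ * (((βh ^ p ^ b) ⟨u, hRW u.2⟩ : W) : Ω) ∉ T
  rw [e]
  exact hu

/-- **If `F / T` is inner-like, the hyperfocal subgroup lies in `T`.** -/
theorem hyp_le_of_sc (hS : IsPGroup p S) (hF : F.IsSaturated p) {T : Subgroup Ω} (hT : F.StronglyClosed T)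
    (h : ∀ R : Subgroup Ω, T ≤ R → R ≤ S → ∀ γ ∈ F.autGroup R, (orderOf γ).Coprime p → ∀ x : R,
      (x : Ω)⁻¹ * ((γ x : R) : Ω) ∈ T) : F.hyperfocalSubgroup p ≤ T := by
  have claim : ∀ (m : ℕ) (R : Subgroup Ω), R ≤ S → Nat.card S - Nat.card R = m → ∀ γ ∈ F.autGroup R,
      (orderOf γ).Coprime p → ∀ x : R, (x : Ω)⁻¹ * ((γ x : R) : Ω) ∈ T := by
    intro m
    induction m using Nat.strong_induction_on with
    | _ m ih =>
      intro R hRS hm γ hγ hc x
      by_contra hx
      obtain ⟨R₁, hconj, hfn⟩ := exists_isFullyNormalized F hRS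
      obtain ⟨e, he⟩ := (isConj_iff F).1 hconj
      have hγ₁ := congr_mem_autGroup F he hγ
      have hc₁ : (orderOf (MulAut.congr e γ)).Coprime p := by
        rw [MulEquiv.orderOf_eq]
        exact hc
      have hx₁ : ((e x : R₁) : Ω)⁻¹ * ((MulAut.congr e γ (e x) : R₁) : Ω) ∉ T := by
        intro hin
        apply hx
        have e1 : MulAut.congr e γ (e x) = e (γ x) := by simp [MulAut.congr]
        rw [e1] at hin
        have he' := isoHom_symm_mem F he
        have h2 := sc_val_mem F hT he' ⟨_, (R₁.mul_mem (R₁.inv_mem (e x).2) (e (γ x)).2)⟩ hin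
        have e2 : (isoHom e.symm) ⟨((e x : R₁) : Ω)⁻¹ * ((e (γ x) : R₁) : Ω), R₁.mul_mem (R₁.inv_mem (e x).2) (e (γ x)).2⟩ =
            (x : Ω)⁻¹ * ((γ x : R) : Ω) := by
          have e3 : (⟨((e x : R₁) : Ω)⁻¹ * ((e (γ x) : R₁) : Ω), R₁.mul_mem (R₁.inv_mem (e x).2) (e (γ x)).2⟩ : R₁) =
              e (x⁻¹ * γ x) := by
            apply Subtype.ext
            simp [map_mul, map_inv]
          rw [e3]
          simp [isoHom]
        rwa [e2] at h2
      by_cases hTR : T ≤ R₁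
      · exact hx₁ (h R₁ hTR hfn.1 _ hγ₁ hc₁ _)
      · obtain ⟨W, γ', x', hWS, hlt, hγ', hc', hx'⟩ := climb_fn F hS hF hT hfn hTR hγ₁ hc₁ hx₁
        have hcard : Nat.card R₁ = Nat.card R := (IsConj.card_eq F hconj).symm
        have h1 : Nat.card R₁ < Nat.card W := by
          have := finite_of_le hWS
          exact Cfsg.Agent.Lib.Fusion.LocalGlobal.card_lt_of_lt hlt
        have h2 : Nat.card W ≤ Nat.card S := Subgroup.card_le_of_le hWS
        exact hx' (ih (Nat.card S - Nat.card W) (by omega) W hWS rfl γ' hγ' hc' x')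
  refine Cfsg.Agent.Lib.Fusion.TateHyp.hyp_le_of_gen F hS T (fun P hPS α hα hco x _ _ => ?_)
  exact claim _ P hPS rfl α hα hco x

end climb

section crit

variable {Ω : Type*} [Group Ω] {S : Subgroup Ω} (F : FusionSystem S) {p : ℕ} [hp : Fact p.Prime] [Finite S]

/-- **Hypotheses (a) and (b) give `p`-groups of automorphisms on subgroups of order at least `n`.** -/
theorem isPGroup_aut_of_we (hS : IsPGroup p S) (hF : F.IsSaturated p) {n : ℕ} (hnS : n ∣ Nat.card S)
    (ha : ∀ Q : Subgroup Ω, Q ≤ S → Nat.card Q = n → ∃ P : Subgroup Ω, F.StronglyClosed P ∧ F.StronglyClosed (Q ⊔ P) ∧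
      F.StronglyClosed (Q ⊓ P))
    (hb : ∀ H : Subgroup Ω, F.IsFullyNormalized H → Nat.card H = n → ∀ N : FusionSystem (normalizerIn S H),
      F.IsNormalizerSystem H N → IsInner N)
    {R : Subgroup Ω} (hRS : R ≤ S) (hcard : n ≤ Nat.card R) : IsPGroup p (F.autGroup R) := by
  classical
  have hfinR : Finite R := finite_of_le hRS
  have hRp : IsPGroup p R := hS.to_le hRS
  have hfinA : Finite (F.autGroup R) := inferInstance
  refine Cfsg.Agent.Lib.FusionTheory.CoprimeAut.isPGroup_of_coprime_trivial (fun g hg => ?_)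
  by_contra hg1
  obtain ⟨α, hα⟩ := g
  have hα1 : α ≠ 1 := fun e => hg1 (Subtype.ext e)
  have hco : (orderOf α).Coprime p := by rwa [Subgroup.orderOf_mk] at hg
  obtain ⟨k, hk⟩ := IsPGroup.iff_card.1 hS
  have hnR : n ∣ Nat.card R :=
    dvd_of_le_of_dvd_pow (p := p) (s := k) (hk ▸ hnS) (hk ▸ Subgroup.card_dvd_of_le hRS) hcard
  have hmemQ : ∀ (Q₀ : Subgroup R) (x : R), (x : Ω) ∈ Q₀.map R.subtype ↔ x ∈ Q₀ := by
    intro Q₀ x
    constructor
    · rintro ⟨y, hy, hyx⟩
      have : y = x := Subtype.ext hyx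
      rwa [← this]
    · intro h
      exact ⟨x, h, rfl⟩
  obtain ⟨Q₀, hQ₀n, hQ₀i, hQ₀c⟩ := exists_inv_normal hRp α hnR (fun Q₀ hQ₀n hQ₀c => by
    have hQS : Q₀.map R.subtype ≤ S := (Subgroup.map_subtype_le Q₀).trans hRS
    have hQc : Nat.card (Q₀.map R.subtype) = n := by
      rw [← hQ₀c]
      exact (Nat.card_congr (Q₀.equivMapOfInjective _ R.subtype_injective).toEquiv).symm
    obtain ⟨P, hP, hU, hI⟩ := ha _ hQS hQc
    have hPn := StronglyClosed.le_normalizer F hP
    refine ⟨P.subgroupOf R, ⟨fun u hu g => ?_⟩, fun x hx => StronglyClosed.aut_mem F hP hRS hα hx, ?_, ?_⟩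
    · show ((g * u * g⁻¹ : R) : Ω) ∈ P
      exact (Subgroup.mem_normalizer_iff.1 (hPn (hRS g.2)) _).1 hu
    · rintro x ⟨hx1, hx2⟩
      have h1 : (x : Ω) ∈ Q₀.map R.subtype ⊓ P := ⟨(hmemQ Q₀ x).2 hx1, hx2⟩
      have h2 := StronglyClosed.aut_mem F hI hRS hα h1
      exact ⟨(hmemQ Q₀ _).1 h2.1, h2.2⟩
    · intro x hx
      have h1 : (x : Ω) ∈ Q₀.map R.subtype ⊔ P := by
        have hle : Q₀ ⊔ P.subgroupOf R ≤ (Q₀.map R.subtype ⊔ P).comap R.subtype := by
          refine sup_le (fun y hy => Subgroup.mem_sup_left ((hmemQ Q₀ y).2 hy)) (fun y hy => Subgroup.mem_sup_right hy)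
        exact hle hx
      have h2 := StronglyClosed.aut_mem F hU hRS hα h1
      rw [sup_comm] at h2
      have hQn : Q₀.map R.subtype ≤ Subgroup.normalizer (P : Set Ω) := hQS.trans hPn
      obtain ⟨a, ha', b, hb', hab⟩ := Cfsg.Agent.Lib.Coprime.Action.exists_mul_of_mem_sup hQn h2
      obtain ⟨b₀, hb₀, rfl⟩ := hb'
      have hae : a = ((α x * b₀⁻¹ : R) : Ω) := by
        simp only [Subgroup.coe_mul, Subgroup.coe_inv]
        rw [hab]
        simp
      have hmem : α x * b₀⁻¹ ∈ P.subgroupOf R := by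
        show ((α x * b₀⁻¹ : R) : Ω) ∈ P
        rw [← hae]
        exact ha'
      have e : α x = (α x * b₀⁻¹) * b₀ := by group
      rw [e, sup_comm]
      exact Subgroup.mul_mem _ (Subgroup.mem_sup_left hmem) (Subgroup.mem_sup_right hb₀))
  have hQS : Q₀.map R.subtype ≤ S := (Subgroup.map_subtype_le Q₀).trans hRS
  have hQc : Nat.card (Q₀.map R.subtype) = n := by
    rw [← hQ₀c]
    exact (Nat.card_congr (Q₀.equivMapOfInjective _ R.subtype_injective).toEquiv).symm
  have hbad : Bad F p (Q₀.map R.subtype) := by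
    refine ⟨R, α, Subgroup.map_subtype_le Q₀, fun r hr => ⟨hRS hr, ?_⟩, hα, hα1, hco, fun x hx => ?_⟩
    · refine Subgroup.mem_normalizer_iff.2 (fun x => ?_)
      constructor
      · rintro ⟨y, hy, rfl⟩
        exact ⟨⟨r, hr⟩ * y * (⟨r, hr⟩ : R)⁻¹, hQ₀n.conj_mem y hy _, rfl⟩
      · rintro ⟨y, hy, hyx⟩
        have h1 := hQ₀n.conj_mem y hy (⟨r, hr⟩ : R)⁻¹
        refine ⟨_, h1, ?_⟩
        have hyx' : (y : Ω) = r * x * r⁻¹ := hyx
        simp only [R.subtype_apply, Subgroup.coe_mul, Subgroup.coe_inv, inv_inv]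
        rw [hyx']
        group
    · exact (hmemQ Q₀ _).2 (hQ₀i x ((hmemQ Q₀ x).1 hx))
  obtain ⟨R₀, hconj, hfn⟩ := exists_isFullyNormalized F hQS
  have hbad' := Bad.transport hS hF hfn hconj hbad
  obtain ⟨N, hN⟩ := Cfsg.Agent.Lib.Fusion.NormSystem.exists_normalizerSystem F hfn.1
  have hc0 : Nat.card R₀ = n := (IsConj.card_eq F hconj).symm.trans hQc
  exact not_inner_of_bad hS hfn.1 hN hbad' (hb R₀ hfn hc0 N hN)

/-- If the hyperfocal subgroup is central in `S` and `Aut_F(S)` is a `p`-group, the system is inner. -/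
theorem isInner_of_hyp_central (hS : IsPGroup p S) (hF : F.IsSaturated p)
    (hcent : ∀ x ∈ F.hyperfocalSubgroup p, ∀ g ∈ S, g * x * g⁻¹ = x)
    (hA : IsPGroup p (F.autGroup S)) : IsInner F := by
  classical
  have hHsc := Cfsg.Agent.Lib.FusionTheory.Hyperfocal.hyp_stronglyClosed F hS hF
  have hnoess : ∀ P : Subgroup Ω, F.IsEssential p P → P = S := by
    intro P hP
    by_contra hne
    have hPS : P ≤ S := hP.1.1
    have hlt : P < S := lt_of_le_of_ne hPS hne
    have hfinP : Finite P := finite_of_le hPS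
    have hPp : IsPGroup p P := hS.to_le hPS
    have hN := lt_normalizerIn (p := p) hS hlt
    obtain ⟨-, s, hs, hsP⟩ := SetLike.lt_iff_le_and_exists.1 hN
    apply hsP
    have hinv : ∀ ρ ∈ F.autGroup P, ∀ x : P, (x : Ω) ∈ F.hyperfocalSubgroup p → ((ρ x : P) : Ω) ∈ F.hyperfocalSubgroup p :=
      fun ρ hρ x hx => StronglyClosed.aut_mem F hHsc hPS hρ hx
    let KH : Subgroup (MulAut P) :=
      { carrier := {τ | τ ∈ F.autGroup P ∧ ∀ x : P, (x : Ω) ∈ F.hyperfocalSubgroup p → τ x = x}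
        mul_mem' := by
          rintro a b ⟨ha, ha'⟩ ⟨hb, hb'⟩
          refine ⟨Subgroup.mul_mem _ ha hb, fun x hx => ?_⟩
          rw [MulAut.mul_apply, hb' x hx, ha' x hx]
        one_mem' := ⟨Subgroup.one_mem _, fun x _ => rfl⟩
        inv_mem' := by
          rintro a ⟨ha, ha'⟩
          refine ⟨Subgroup.inv_mem _ ha, fun x hx => ?_⟩
          have h0 := ha' x hx
          calc a⁻¹ x = a⁻¹ (a x) := by rw [h0]
            _ = x := by simp }
    refine mem_of_isEssential_of_isTower F hS hP hs.1 hs.2 (W := ⊤) ⟨KH, fun τ hτ => hτ.1, ?_, ?_, ?_⟩ ?_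
    · rintro ρ hρ τ ⟨hτ, hτ'⟩
      refine ⟨Subgroup.mul_mem _ (Subgroup.mul_mem _ hρ hτ) (Subgroup.inv_mem _ hρ), fun x hx => ?_⟩
      have h1 := hinv ρ⁻¹ (Subgroup.inv_mem _ hρ) x hx
      simp only [MulAut.mul_apply]
      rw [hτ' _ h1]
      simp
    · refine ⟨normAct_mem_autGroup F hPS hs.1 hs.2, fun x hx => ?_⟩
      apply Subtype.ext
      rw [normAct_apply]
      exact hcent x hx s hs.1
    · rintro τ ⟨hτ, hτ'⟩ hco x -
      have hw := Cfsg.Agent.Lib.FusionTheory.Hyperfocal.mem_hyp_of_coprime F hPS hτ hco x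
      have hfix : τ (x⁻¹ * τ x) = x⁻¹ * τ x := hτ' _ hw
      have hax : τ x = x * (x⁻¹ * τ x) := by group
      have h1 := Cfsg.Agent.Lib.PGroups.Critical.pow_apply_of_fixed τ hfix hax (orderOf τ)
      rw [pow_orderOf_eq_one] at h1
      have h2 : (x⁻¹ * τ x) ^ orderOf τ = 1 := by
        have : x = x * (x⁻¹ * τ x) ^ orderOf τ := h1
        exact (mul_eq_left.1 this.symm)
      have h3 := Cfsg.Agent.Lib.FusionTheory.Chain.eq_one_of_pow_coprime hPp hco h2
      exact (inv_mul_eq_one.1 h3).symm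
    · intro τ _ _ h
      ext x
      rw [h x (Subgroup.mem_top _)]
      rfl
  intro P
  have hEq : F = innerFusionSystem S := by
    apply Cfsg.Agent.Lib.Fusion.Alperin.fusionSystem_ext
    intro P
    apply Set.Subset.antisymm
    · refine Cfsg.Agent.Lib.Fusion.Alperin.alperin_goldschmidt F hS hF (innerFusionSystem S) ?_ P
      intro P hP α hα
      have hPS : P = S := by
        rcases hP with rfl | hP
        · rfl
        · exact hnoess P hP
      subst hPS
      have hfn := isFullyNormalized_top F hS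
      have h1 := Cfsg.Agent.Lib.Fusion.Alperin.autGroup_eq_of_isPGroup F hS hF hfn hA
      rw [h1] at hα
      obtain ⟨g, hg, hv⟩ := (mem_autInducedBy_iff P P α).1 hα
      refine (mem_autGroup_iff _ le_rfl α).2 ⟨le_rfl, g, hg, hv⟩
    · exact Cfsg.Agent.Lib.Fusion.Alperin.inner_le F P
  rw [← hEq]

end crit

section main

variable {p : ℕ} [hp : Fact p.Prime]

open Cfsg.Agent.Lib.FusionExt.Factor Cfsg.Agent.Lib.FusionExt.FactorExt Cfsg.Agent.Lib.FusionExt.FactorSat
  Cfsg.Agent.Lib.FusionExt.Solvable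

/-- **The induction.** -/
theorem main : ∀ (m : ℕ) (Ω : Type u) [Group Ω] (S : Subgroup Ω) [Finite S] (F : FusionSystem S) (n : ℕ),
    Nat.card S = m → IsPGroup p S → F.IsSaturated p → 1 < n → n < Nat.card S → n ∣ Nat.card S →
    (∀ Q : Subgroup Ω, Q ≤ S → Nat.card Q = n → ∃ P : Subgroup Ω, F.StronglyClosed P ∧ F.StronglyClosed (Q ⊔ P) ∧
      F.StronglyClosed (Q ⊓ P)) →
    (∀ R : Subgroup Ω, R ≤ S → n ≤ Nat.card R → IsPGroup p (F.autGroup R)) → IsInner F := by
  intro m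
  induction m using Nat.strong_induction_on with
  | _ m ih =>
  intro Ω _ S _ F n hm hS hF h1n hnS hdvd ha hb
  classical
  by_contra hni
  have hHsc := Cfsg.Agent.Lib.FusionTheory.Hyperfocal.hyp_stronglyClosed F hS hF
  obtain ⟨s, hs⟩ := IsPGroup.iff_card.1 hS
  -- the hyperfocal subgroup is nontrivial
  have hHne : F.hyperfocalSubgroup p ≠ ⊥ := by
    intro hbot
    obtain ⟨P, α, hPS, hα, hα1, hco⟩ := exists_aut_of_not_inner hS hF hni
    apply hα1
    ext x
    have h1 := Cfsg.Agent.Lib.FusionTheory.Hyperfocal.mem_hyp_of_coprime F hPS hα hco x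
    rw [hbot, Subgroup.mem_bot, inv_mul_eq_one] at h1
    exact h1.symm
  -- Step 1: every nontrivial strongly closed subgroup contains the hyperfocal subgroup
  have hmin : ∀ T : Subgroup Ω, F.StronglyClosed T → T ≠ ⊥ → F.hyperfocalSubgroup p ≤ T := by
    intro T hT hTne
    by_cases hnT : n ≤ Nat.card T
    · refine Cfsg.Agent.Lib.FusionTheory.WeakEmb.hyp_le_of_sc F hS hF hT (fun R hTR hRS γ hγ hc x => ?_)
      have hRcard : n ≤ Nat.card R := by
        have := finite_of_le hRS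
        exact hnT.trans (Subgroup.card_le_of_le hTR)
      obtain ⟨k, hk⟩ := hb R hRS hRcard ⟨γ, hγ⟩
      have hk' : γ ^ p ^ k = 1 := congrArg Subtype.val hk
      rw [eq_one_of_pow_eq_one hc hk']
      simp [T.one_mem]
    push Not at hnT
    have hTS : T ≤ S := hT.1
    have hfinT : Finite T := finite_of_le hTS
    have hTn := StronglyClosed.le_normalizer F hT
    haveI hT'n : (T.subgroupOf S).Normal :=
      (Subgroup.normal_subgroupOf_iff_le_normalizer hTS).2 hTn
    let θ : S →* (↥S ⧸ T.subgroupOf S) := QuotientGroup.mk' (T.subgroupOf S)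
    have hθs : Function.Surjective θ := QuotientGroup.mk'_surjective _
    have hθ : ∀ s : S, θ s = 1 ↔ (s : Ω) ∈ T := by
      intro s
      show ((s : ↥S ⧸ T.subgroupOf S)) = 1 ↔ _
      rw [QuotientGroup.eq_one_iff]
      rfl
    have hθr : θ.range = ⊤ := MonoidHom.range_eq_top.2 hθs
    obtain ⟨E, hE⟩ := exists_isFactorSystem F θ hT hθ hθr
    have hsurj := isSurjectiveMorphism_of_isFactorSystem F θ hS hF hT hE
    have hEs : E.IsSaturated p := image_isSaturated θ F E hS hF hsurj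
    have hkerT : kerIn θ = T := by
      apply le_antisymm
      · rintro _ ⟨x, hx, rfl⟩
        exact (hθ x).1 hx
      · intro x hx
        exact ⟨⟨x, hTS hx⟩, (hθ ⟨x, hTS hx⟩).2 hx, rfl⟩
    have hS'p : IsPGroup p ↥(⊤ : Subgroup (↥S ⧸ T.subgroupOf S)) :=
      IsPGroup.to_subgroup (hS.to_quotient _) _
    -- cardinalities
    have hqt : Nat.card (↥S ⧸ T.subgroupOf S) * Nat.card T = Nat.card S := by
      have h1 := Subgroup.card_eq_card_quotient_mul_card_subgroup (T.subgroupOf S)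
      have h2 : Nat.card (T.subgroupOf S) = Nat.card T :=
        Nat.card_congr (Subgroup.subgroupOfEquivOfLe hTS).toEquiv
      rw [h2] at h1
      exact h1.symm
    have hpre : ∀ P' : Subgroup (↥S ⧸ T.subgroupOf S), Nat.card (preimageAlong θ P') = Nat.card P' * Nat.card T := by
      intro P'
      have h1 : Nat.card (preimageAlong θ P') = Nat.card (P'.comap θ) :=
        (Nat.card_congr ((P'.comap θ).equivMapOfInjective _ S.subtype_injective).toEquiv).symm
      have h2 : (P'.comap θ).index = P'.index := Subgroup.index_comap_of_surjective P' hθs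
      have h3 := Subgroup.card_mul_index (P'.comap θ)
      have h4 := Subgroup.card_mul_index P'
      rw [h1]
      rw [h2, ← hqt, ← h4] at h3
      have hi : 0 < P'.index := Nat.pos_of_ne_zero (Subgroup.index_ne_zero_of_finite)
      have : P'.index * Nat.card (P'.comap θ) = P'.index * (Nat.card P' * Nat.card T) := by
        rw [mul_comm, h3]
        ring
      exact Nat.eq_of_mul_eq_mul_left hi this
    have hpreim : ∀ {A' : Subgroup (↥S ⧸ T.subgroupOf S)}, F.StronglyClosed (preimageAlong θ A') → E.StronglyClosed A' := by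
      intro A' hA'
      have hle : kerIn θ ≤ preimageAlong θ A' := by
        rintro _ ⟨x, hx, rfl⟩
        refine mem_preimageAlong.2 ⟨x.2, ?_⟩
        have : θ x = 1 := hx
        show θ ⟨x, x.2⟩ ∈ A'
        simpa using this ▸ A'.one_mem
      have h1 := image_stronglyClosed hsurj hA' hle
      have h2 : imageAlong θ (preimageAlong θ A') = A' := by
        apply le_antisymm
        · rintro _ ⟨x, hx, rfl⟩
          exact (mem_preimageAlong.1 hx).2
        · intro y hy
          obtain ⟨x, rfl⟩ := hθs y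
          exact ⟨x, mem_preimageAlong.2 ⟨x.2, hy⟩, rfl⟩
      rwa [h2] at h1
    -- numerics
    obtain ⟨c, hc⟩ := IsPGroup.iff_card.1 (hS.to_le hTS)
    have hnp : n ∣ p ^ s := hs ▸ hdvd
    obtain ⟨e, -, rfl⟩ := (Nat.dvd_prime_pow hp.out).1 hnp
    have hce : c < e := by
      rw [hc] at hnT
      exact (Nat.pow_lt_pow_iff_right hp.out.one_lt).1 hnT
    have hes : e < s := by
      rw [hs] at hnS
      exact (Nat.pow_lt_pow_iff_right hp.out.one_lt).1 hnS
    have hq : Nat.card (↥S ⧸ T.subgroupOf S) = p ^ (s - c) := by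
      rw [hs, hc] at hqt
      have h1 : p ^ s = p ^ (s - c) * p ^ c := by
        rw [← pow_add]
        congr 1
        omega
      rw [h1] at hqt
      exact Nat.eq_of_mul_eq_mul_right (pow_pos hp.out.pos c) hqt
    have hc0 : 0 < c := by
      rcases Nat.eq_zero_or_pos c with h0 | h0
      · exfalso
        apply hTne
        rw [h0, pow_zero] at hc
        exact Subgroup.card_eq_one.1 hc
      · exact h0
    have hmlt : p ^ (s - c) < m := by
      rw [← hm, hs]
      exact Nat.pow_lt_pow_right hp.out.one_lt (by omega)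
    have hEi : IsInner E := by
      refine ih (p ^ (s - c)) hmlt (↥S ⧸ T.subgroupOf S) ⊤ E (p ^ (e - c)) (by
        rw [Subgroup.card_top, hq]) hS'p hEs ?_ ?_ ?_ ?_ ?_
      · exact Nat.one_lt_pow (by omega) hp.out.one_lt
      · rw [Subgroup.card_top, hq]
        exact Nat.pow_lt_pow_right hp.out.one_lt (by omega)
      · rw [Subgroup.card_top, hq]
        exact pow_dvd_pow _ (by omega)
      · intro Q' _ hQ'c
        have hQc : Nat.card (preimageAlong θ Q') = p ^ e := by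
          rw [hpre, hQ'c, hc, ← pow_add]
          congr 1
          omega
        obtain ⟨P, hP, hU, hI⟩ := ha _ (preimageAlong_le θ Q') hQc
        set Q := preimageAlong θ Q' with hQdef
        have hQS : Q ≤ S := preimageAlong_le θ Q'
        have hTQ : T ≤ Q := le_preimageAlong θ hθ hTS Q'
        have hP₂ := stronglyClosed_sup F hS hF hP hT
        have hP₂S : P ⊔ T ≤ S := hP₂.1
        have hkP₂ : kerIn θ ≤ P ⊔ T := hkerT.le.trans le_sup_right
        have himgQ : imageAlong θ Q = Q' := by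
          apply le_antisymm
          · rintro _ ⟨x, hx, rfl⟩
            exact (mem_preimageAlong.1 hx).2
          · intro y hy
            obtain ⟨x, rfl⟩ := hθs y
            exact ⟨x, mem_preimageAlong.2 ⟨x.2, hy⟩, rfl⟩
        refine ⟨imageAlong θ (P ⊔ T), image_stronglyClosed hsurj hP₂ hkP₂, ?_, ?_⟩
        · have e1 : Q' ⊔ imageAlong θ (P ⊔ T) = imageAlong θ (Q ⊔ P) := by
            apply le_antisymm
            · apply sup_le
              · rw [← himgQ]
                rintro _ ⟨x, hx, rfl⟩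
                exact ⟨x, Subgroup.mem_sup_left hx, rfl⟩
              · rintro _ ⟨x, hx, rfl⟩
                refine ⟨x, ?_, rfl⟩
                have hle : P ⊔ T ≤ Q ⊔ P := sup_le le_sup_right (hTQ.trans le_sup_left)
                exact hle hx
            · have hle : Q ⊔ P ≤ preimageAlong θ (Q' ⊔ imageAlong θ (P ⊔ T)) := by
                apply sup_le
                · intro x hx
                  obtain ⟨hxS, hx'⟩ := mem_preimageAlong.1 hx
                  exact mem_preimageAlong.2 ⟨hxS, Subgroup.mem_sup_left hx'⟩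
                · intro x hx
                  refine mem_preimageAlong.2 ⟨hP.1 hx, Subgroup.mem_sup_right ?_⟩
                  exact ⟨⟨x, hP.1 hx⟩, Subgroup.mem_sup_left hx, rfl⟩
              rintro _ ⟨x, hx, rfl⟩
              exact (mem_preimageAlong.1 (hle hx)).2
          rw [e1]
          exact image_stronglyClosed hsurj hU (hkerT.le.trans (hTQ.trans le_sup_left))
        · apply hpreim
          have e2 : preimageAlong θ (Q' ⊓ imageAlong θ (P ⊔ T)) = (Q ⊓ P) ⊔ T := by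
            apply le_antisymm
            · intro x hx
              obtain ⟨hxS, hx1, hx2⟩ := mem_preimageAlong.1 hx
              have hxQ : x ∈ Q := mem_preimageAlong.2 ⟨hxS, hx1⟩
              have hx3 : x ∈ preimageAlong θ (imageAlong θ (P ⊔ T)) := mem_preimageAlong.2 ⟨hxS, hx2⟩
              rw [preimage_image_eq θ hP₂S hkP₂, sup_comm] at hx3
              have hPn : P ≤ Subgroup.normalizer (T : Set Ω) := hP.1.trans hTn
              obtain ⟨t, ht, a, ha', hta⟩ := Cfsg.Agent.Lib.Coprime.Action.exists_mul_of_mem_sup hPn hx3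
              have haQ : a ∈ Q := by
                have : a = t⁻¹ * x := by rw [hta]; group
                rw [this]
                exact Q.mul_mem (Q.inv_mem (hTQ ht)) hxQ
              rw [hta, sup_comm]
              exact Subgroup.mul_mem _ (Subgroup.mem_sup_left ht) (Subgroup.mem_sup_right ⟨haQ, ha'⟩)
            · apply sup_le
              · rintro x ⟨hx1, hx2⟩
                obtain ⟨hxS, hx'⟩ := mem_preimageAlong.1 hx1
                exact mem_preimageAlong.2 ⟨hxS, hx', ⟨⟨x, hxS⟩, Subgroup.mem_sup_left hx2, rfl⟩⟩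
              · intro x hx
                have hx1 := hTQ hx
                obtain ⟨hxS, hx'⟩ := mem_preimageAlong.1 hx1
                exact mem_preimageAlong.2 ⟨hxS, hx', ⟨⟨x, hxS⟩, Subgroup.mem_sup_right hx, rfl⟩⟩
          rw [e2]
          exact stronglyClosed_sup F hS hF hI hT
      · intro R' _ hR'c
        have hRS := preimageAlong_le θ R'
        refine Cfsg.Agent.Lib.Fusion.Thompson3.isPGroup_autGroup_factor hT hE le_top (hb _ hRS ?_)
        rw [hpre, hc]
        calc p ^ e = p ^ (e - c) * p ^ c := by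
              rw [← pow_add]
              congr 1
              omega
          _ ≤ _ := Nat.mul_le_mul_right _ hR'c
    refine Cfsg.Agent.Lib.FusionTheory.WeakEmb.hyp_le_of_sc F hS hF hT (fun R hTR hRS γ hγ hcop x => ?_)
    have hRe : R = preimageAlong θ (imageAlong θ R) :=
      (preimage_image_eq θ hRS (hkerT.le.trans hTR)).symm
    generalize imageAlong θ R = P' at hRe
    subst hRe
    exact trivial_mod_of_inner hS hT hE hEi le_top hγ hcop x
  -- Step 2: Tate
  have hTate : ¬ F.hyperfocalSubgroup p ≤ (frattini ↥S).map S.subtype := by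
    intro hle
    apply hni
    refine Cfsg.Agent.Lib.Fusion.FocalInner.eq_inner_of_focal_le_frattini F hS hF ?_
    rw [Cfsg.Agent.Lib.FusionExt.Hyperfocal.focal_eq F hS hF]
    refine sup_le hle ?_
    rw [← Subgroup.map_subtype_commutator]
    exact Subgroup.map_mono (Cfsg.Agent.Lib.PGroups.Basic.commutator_le_frattini hS)
  -- a maximal subgroup not containing the hyperfocal subgroup
  obtain ⟨M, hM, hHM⟩ : ∃ M : Subgroup S, IsCoatom M ∧ ¬ F.hyperfocalSubgroup p ≤ M.map S.subtype := by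
    by_contra hno
    push Not at hno
    apply hTate
    intro x hx
    have hxS : x ∈ S := Cfsg.Agent.Lib.FusionExt.Hyperfocal.hyperfocal_le F hx
    refine ⟨⟨x, hxS⟩, ?_, rfl⟩
    show (⟨x, hxS⟩ : S) ∈ Order.radical (Subgroup S)
    rw [Order.radical, Subgroup.mem_iInf]
    intro M'
    rw [Subgroup.mem_iInf]
    intro hM'
    obtain ⟨y, hy, hyx⟩ := hno M' hM' hx
    have : y = ⟨x, hxS⟩ := Subtype.ext hyx
    rwa [← this]
  have hMn : M.Normal := Cfsg.Agent.Lib.PGroups.Basic.normal_of_isCoatom hS hM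
  have hMi : M.index = p := Cfsg.Agent.Lib.PGroups.Basic.index_eq_of_isCoatom hS hM
  -- the intersection `H ∩ M`
  by_cases hinter : ∃ z : Ω, z ∈ F.hyperfocalSubgroup p ∧ z ∈ M.map S.subtype ∧ z ≠ 1
  · obtain ⟨z, hzH, hzM, hz1⟩ := hinter
    -- an element of order `p` in `H ∩ M`
    have hpg : IsPGroup p ↥(F.hyperfocalSubgroup p ⊓ M.map S.subtype) :=
      hS.to_le (inf_le_right.trans (Subgroup.map_subtype_le M))
    have hfinI : Finite ↥(F.hyperfocalSubgroup p ⊓ M.map S.subtype) :=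
      finite_of_le (inf_le_right.trans (Subgroup.map_subtype_le M))
    haveI hnt : Nontrivial ↥(F.hyperfocalSubgroup p ⊓ M.map S.subtype) :=
      ⟨⟨⟨z, hzH, hzM⟩, 1, fun e => hz1 (congrArg Subtype.val e)⟩⟩
    obtain ⟨w, hw⟩ : ∃ w : ↥(F.hyperfocalSubgroup p ⊓ M.map S.subtype), orderOf w = p := by
      obtain ⟨k, hk⟩ := IsPGroup.iff_card.1 hpg
      have hk0 : k ≠ 0 := by
        rintro rfl
        rw [pow_zero] at hk
        have := Finite.one_lt_card (α := ↥(F.hyperfocalSubgroup p ⊓ M.map S.subtype))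
        omega
      exact exists_prime_orderOf_dvd_card' p (hk ▸ dvd_pow_self p hk0)
    obtain ⟨hwH, hwM⟩ := w.2
    obtain ⟨w₀, hw₀M, hw₀⟩ := hwM
    have hw₀ord : orderOf (⟨w₀, hw₀M⟩ : M) = p := by
      have h1 : orderOf (w : Ω) = p := by rw [Subgroup.orderOf_coe, hw]
      rw [← hw₀] at h1
      rw [← h1]
      rw [Subgroup.orderOf_mk]
      simp
    have hnp : n ∣ p ^ s := hs ▸ hdvd
    obtain ⟨e, -, rfl⟩ := (Nat.dvd_prime_pow hp.out).1 hnp
    have he0 : 1 ≤ e := by
      rcases Nat.eq_zero_or_pos e with h0 | h0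
      · rw [h0, pow_zero] at h1n
        omega
      · exact h0
    have hes : e < s := by
      rw [hs] at hnS
      exact (Nat.pow_lt_pow_iff_right hp.out.one_lt).1 hnS
    have hMc : Nat.card M = p ^ (s - 1) := by
      have h1 := Subgroup.card_mul_index M
      rw [hMi, hs] at h1
      have h2 : p ^ s = p ^ (s - 1) * p := by
        rw [← pow_succ]
        congr 1
        omega
      rw [h2] at h1
      exact Nat.eq_of_mul_eq_mul_right hp.out.pos h1
    have hdvdM : p ^ e ∣ Nat.card M := by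
      rw [hMc]
      exact pow_dvd_pow _ (by omega)
    have hZc : Nat.card (Subgroup.zpowers (⟨w₀, hw₀M⟩ : M)) = p ^ 1 := by
      rw [Nat.card_zpowers, hw₀ord, pow_one]
    obtain ⟨K, hKc, hZK⟩ := Sylow.exists_subgroup_card_pow_prime_le p hdvdM _ hZc he0
    let Q : Subgroup Ω := (K.map M.subtype).map S.subtype
    have hQS : Q ≤ S := Subgroup.map_subtype_le _
    have hQc : Nat.card Q = p ^ e := by
      rw [← hKc]
      have e1 := Nat.card_congr (K.equivMapOfInjective _ M.subtype_injective).toEquiv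
      have e2 := Nat.card_congr ((K.map M.subtype).equivMapOfInjective _ S.subtype_injective).toEquiv
      exact e2.symm.trans e1.symm
    have hQM : Q ≤ M.map S.subtype := Subgroup.map_mono (Subgroup.map_subtype_le K)
    have hwQ : (w : Ω) ∈ Q := by
      exact ⟨w₀, ⟨⟨w₀, hw₀M⟩, hZK (Subgroup.mem_zpowers _), rfl⟩, hw₀⟩
    have hw1 : (w : Ω) ≠ 1 := by
      intro e1
      have : w = 1 := Subtype.ext e1
      rw [this, orderOf_one] at hw
      exact hp.out.one_lt.ne hw
    obtain ⟨P, hP, hU, hI⟩ := ha Q hQS hQc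
    have hIbot : Q ⊓ P = ⊥ := by
      by_contra hne
      exact hHM ((hmin _ hI hne).trans (inf_le_left.trans hQM))
    have hPbot : P = ⊥ := by
      by_contra hne
      have h1 := hmin P hP hne hwH
      have h2 : (w : Ω) ∈ Q ⊓ P := ⟨hwQ, h1⟩
      rw [hIbot, Subgroup.mem_bot] at h2
      exact hw1 h2
    rw [hPbot, sup_bot_eq] at hU
    have hQne : Q ≠ ⊥ := by
      intro e1
      rw [e1, Subgroup.mem_bot] at hwQ
      exact hw1 hwQ
    exact hHM ((hmin Q hU hQne).trans hQM)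
  · -- the hyperfocal subgroup is central
    push Not at hinter
    apply hni
    refine isInner_of_hyp_central F hS hF (fun x hx g hg => ?_) (hb S le_rfl hnS.le)
    have hxS : x ∈ S := Cfsg.Agent.Lib.FusionExt.Hyperfocal.hyperfocal_le F hx
    have h1 : x⁻¹ * (g * x * g⁻¹) ∈ F.hyperfocalSubgroup p :=
      Subgroup.mul_mem _ (Subgroup.inv_mem _ hx) (Cfsg.Agent.Lib.FusionExt.Hyperfocal.hyperfocal_conj_mem F hg hx)
    have h2 : x⁻¹ * (g * x * g⁻¹) ∈ M.map S.subtype := by
      obtain ⟨a, ha', he⟩ := Cfsg.Agent.Lib.Fusion.FrattiniFocal.conj_mem_frattini hS hg hxS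
      refine ⟨a, ?_, he⟩
      have h3 : a ∈ Order.radical (Subgroup S) := ha'
      rw [Order.radical, Subgroup.mem_iInf] at h3
      have h4 := h3 M
      rw [Subgroup.mem_iInf] at h4
      exact h4 hM
    have h3 := hinter _ h1 h2
    rw [inv_mul_eq_one] at h3
    exact h3.symm

end main

end Cfsg.Agent.Lib.FusionTheory.WeakEmb
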